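import Cfsg.Agent.Lib.SymBlock.Residue

/-!
# Few shapes are equal to their conjugate

A shape whose moved positions are symmetric about `m - 1` is reversed into its complement by
`x ↦ 2 m - 1 - x`.  For odd `p` and `p ∣ m` this pairs the runners `r` and `p - 1 - r`, the paired
runners have equal weight, and so at most `(p ^ u + 1) / 3` such shapes of weight `u` have a given
core.
-/

set_option autoImplicit false

namespace CfsgLib.SymBlock

/-- The indicator of a position. -/
def bead (S : Finset ℕ) (x : ℕ) : ℕ := if x ∈ S then 1 else 0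

theorem bead_move {S : Finset ℕ} {a : ℕ} (h : Movable S a) (x : ℕ) :
    bead (move S a) x + (if a = x then 1 else 0) = bead S x + (if a + 1 = x then 1 else 0) := by
  obtain ⟨h1, h2⟩ := h
  simp only [bead, mem_move]
  grind

/-- The end of a sequence is read off from the multiplicities of its entries. -/
theorem bead_endOf (x : ℕ) : ∀ {S : Finset ℕ} {l : List ℕ}, Valid S l →
    bead (endOf S l) x + l.count x = bead S x + if x = 0 then 0 else l.count (x - 1)
  | S, [], _ => by simp
  | S, a :: l, h => by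
    have ih := bead_endOf x h.2
    have hm := bead_move h.1 x
    simp only [endOf_cons, List.count_cons, beq_iff_eq]
    split_ifs at * <;> omega

/-- Symmetric entries give a shape that the reflection turns into its complement. -/
theorem antisymm_of_count {m : ℕ} (hm : 0 < m) {l : List ℕ} (h : Valid (ground m) l)
    (hsym : ∀ a, l.count a = if a ≤ 2 * m - 2 then l.count (2 * m - 2 - a) else 0) :
    (∀ x ∈ endOf (ground m) l, x < 2 * m) ∧
      ∀ x, x < 2 * m → (x ∈ endOf (ground m) l ↔ 2 * m - 1 - x ∉ endOf (ground m) l) := by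
  have key := fun x => bead_endOf x h
  have hg : ∀ x, bead (ground m) x = if x < m then 1 else 0 := fun x => by simp [bead]
  refine ⟨fun x hx => ?_, fun x hx => ?_⟩
  · by_contra hge
    have h1 := key x
    rw [hg, if_neg (by omega : ¬ x < m), if_neg (by omega : ¬ x = 0), hsym x, hsym (x - 1),
      if_neg (by omega : ¬ x ≤ 2 * m - 2), if_neg (by omega : ¬ x - 1 ≤ 2 * m - 2)] at h1
    simp [bead, hx] at h1
  · set y := 2 * m - 1 - x with hy
    have hsum : bead (endOf (ground m) l) x + bead (endOf (ground m) l) y = 1 := by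
      have hxy : ∀ a, a ≤ 2 * m - 2 → l.count a = l.count (2 * m - 2 - a) := fun a ha => by
        rw [hsym a, if_pos ha]
      have hout : ∀ a, 2 * m - 2 < a → l.count a = 0 := fun a ha => by
        rw [hsym a, if_neg (not_le.mpr ha)]
      have h1 := key x
      have h2 := key y
      rw [hg] at h1 h2
      rcases Nat.eq_zero_or_pos x with h0 | h0
      · have e1 := hout y (by omega)
        have e2 := hxy 0 (Nat.zero_le _)
        rw [show 2 * m - 2 - 0 = y - 1 by omega] at e2
        subst h0
        rw [if_pos hm, if_pos rfl] at h1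
        rw [if_neg (by omega : ¬ y < m), if_neg (by omega : ¬ y = 0)] at h2
        omega
      rcases Nat.eq_zero_or_pos y with h0' | h0'
      · have e1 := hout x (by omega)
        have e2 := hxy 0 (Nat.zero_le _)
        rw [show 2 * m - 2 - 0 = x - 1 by omega] at e2
        rw [h0'] at h2 ⊢
        rw [if_pos hm, if_pos rfl] at h2
        rw [if_neg (by omega : ¬ x < m), if_neg (by omega : ¬ x = 0)] at h1
        omega
      have e1 := hxy x (by omega)
      have e2 := hxy (x - 1) (by omega)
      rw [show 2 * m - 2 - x = y - 1 by omega] at e1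
      rw [show 2 * m - 2 - (x - 1) = y by omega] at e2
      rw [if_neg (by omega : ¬ x = 0)] at h1
      rw [if_neg (by omega : ¬ y = 0)] at h2
      split_ifs at h1 h2 <;> omega
    simp only [bead] at hsum
    grind

/-- The sum of the first numbers. -/
theorem sum_range_add' (a b : ℕ) : ∑ i ∈ Finset.range (a + b), i =
    (∑ i ∈ Finset.range a, i) + (∑ i ∈ Finset.range b, i) + a * b := by
  induction b with
  | zero => simp
  | succ b ih => rw [← Nat.add_assoc, Finset.sum_range_succ, ih, Finset.sum_range_succ]; ring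

/-- The reflected complement has the same weight. -/
theorem reflect_weight {K : ℕ} {L L' : Finset ℕ} (hL : ∀ j ∈ L, j < K) (hL' : ∀ j ∈ L', j < K)
    (h : ∀ j, j < K → (j ∈ L' ↔ K - 1 - j ∉ L)) :
    ∑ j ∈ L', j + ∑ i ∈ Finset.range L.card, i = ∑ j ∈ L, j + ∑ i ∈ Finset.range L'.card, i := by
  have hsub : L ⊆ Finset.range K := fun j hj => Finset.mem_range.mpr (hL j hj)
  have himg : L' = (Finset.range K \ L).image fun j => K - 1 - j := by
    ext j
    simp only [Finset.mem_image, Finset.mem_sdiff, Finset.mem_range]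
    refine ⟨fun hj => ⟨K - 1 - j, ⟨by have := hL' j hj; omega, (h j (hL' j hj)).mp hj⟩,
      by have := hL' j hj; omega⟩, ?_⟩
    rintro ⟨i, ⟨hi, hiL⟩, rfl⟩
    rw [h _ (by omega), show K - 1 - (K - 1 - i) = i by omega]
    exact hiL
  have hinj : Set.InjOn (fun j => K - 1 - j) (Finset.range K \ L : Finset ℕ) := by
    intro a ha b hb e
    simp only [Finset.coe_sdiff, Finset.coe_range, Set.mem_sdiff, Set.mem_Iio] at ha hb
    simp only at e
    omega
  have hc : L'.card + L.card = K := by
    rw [himg, Finset.card_image_of_injOn hinj, Finset.card_sdiff_add_card_eq_card hsub,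
      Finset.card_range]
  have e1 : ∑ j ∈ L', j + ∑ j ∈ L, (K - 1 - j) = ∑ i ∈ Finset.range K, i := by
    rw [himg, Finset.sum_image hinj, Finset.sum_sdiff hsub, Finset.sum_range_reflect (fun i => i)]
  have e2 : ∑ j ∈ L, (K - 1 - j) + ∑ j ∈ L, j = L.card * (K - 1) := by
    rw [← Finset.sum_add_distrib, Finset.sum_congr rfl (g := fun _ => K - 1)
      (fun j hj => by have := hL j hj; omega), Finset.sum_const, smul_eq_mul]
  rw [← hc, sum_range_add'] at e1
  rw [← hc] at e2
  have e3 : 2 * ∑ i ∈ Finset.range L.card, i + L'.card * L.card =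
      L.card * (L'.card + L.card - 1) := by
    have := Finset.sum_range_id_mul_two L.card
    rcases Nat.eq_zero_or_pos L.card with h0 | h0
    · simp [h0]
    · rw [show L'.card + L.card - 1 = L'.card + (L.card - 1) by omega, Nat.mul_add]
      rw [Nat.mul_comm L'.card]
      omega
  omega

/-- The bound for symmetric weights. -/
def symConv (h u : ℕ) : ℕ := ∑ q ∈ Finset.range (u / 2 + 1), fibB (u - 2 * q) * conv fibB h q

theorem conv_fib_succ_le : ∀ h q, conv fibB h (q + 1) ≤ (h + 1) * conv fibB h q
  | 0, q => by simp [conv]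
  | h + 1, 0 => by rw [conv_fib_one, conv_fib_zero]; omega
  | h + 1, q + 1 => by
    have h1 := conv_fib_succ_le h (q + 1)
    have h2 : conv fibB (h + 1) q + conv fibB h (q + 1) ≤ conv fibB (h + 1) (q + 1) := by
      rcases q with _ | q
      · rw [conv_fib_zero, conv_fib_one, conv_fib_one]
        omega
      · rw [show q + 1 + 1 = q + 2 from rfl, conv_fib_rec h q]
        omega
    rw [show q + 1 + 1 = q + 2 from rfl, conv_fib_rec h q]
    rw [show q + 1 + 1 = q + 2 from rfl] at h1
    have h3 := Nat.mul_le_mul_left (h + 1) h2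
    rw [Nat.mul_add] at h3
    have h4 : conv fibB (h + 1) q ≤ (h + 1) * conv fibB (h + 1) q :=
      Nat.le_mul_of_pos_left _ (Nat.succ_pos h)
    rw [show h + 1 + 1 = (h + 1) + 1 from rfl, Nat.add_mul _ 1, Nat.one_mul]
    omega

theorem fib_le_three_pow : ∀ u, 1 ≤ u → Nat.fib (u + 3) ≤ 3 ^ u
  | 1, _ => by decide
  | 2, _ => by decide
  | u + 3, _ => by
    have a1 := fib_le_three_pow (u + 1) (by omega)
    have a2 := fib_le_three_pow (u + 2) (by omega)
    rw [show u + 1 + 3 = u + 4 by omega] at a1
    rw [show u + 2 + 3 = u + 4 + 1 by omega, pow_succ] at a2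
    rw [show u + 3 + 3 = u + 4 + 2 by omega, Nat.fib_add_two, pow_succ, pow_succ]
    omega

theorem symConv_succ_le (h u : ℕ) : symConv h (u + 2) ≤ fibB (u + 2) + (h + 1) * symConv h u := by
  rw [symConv, show (u + 2) / 2 + 1 = (u / 2 + 1) + 1 by omega, Finset.sum_range_succ', symConv,
    Finset.mul_sum, conv_fib_zero, Nat.mul_one, Nat.mul_zero, Nat.sub_zero, Nat.add_comm]
  refine Nat.add_le_add_left (Finset.sum_le_sum fun q _ => ?_) _
  rw [show u + 2 - 2 * (q + 1) = u - 2 * q by omega, Nat.mul_left_comm (h + 1)]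
  exact Nat.mul_le_mul_left _ (conv_fib_succ_le h q)

theorem three_symConv_le {h : ℕ} (hh : 1 ≤ h) : ∀ u, 1 ≤ u → 3 * symConv h u ≤ (2 * h + 1) ^ u + 1
  | 1, _ => by
    simp [symConv, fibB, conv_fib_zero]
    omega
  | 2, _ => by
    simp [symConv, Finset.sum_range_succ, fibB, conv_fib_zero, conv_fib_one]
    rw [show Nat.fib 3 = 2 from rfl]
    nlinarith
  | u + 3, _ => by
    have ih := three_symConv_le hh (u + 1) (by omega)
    have hs := symConv_succ_le h (u + 1)
    have hf : fibB (u + 1 + 2) ≤ (2 * h + 1) ^ (u + 1) :=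
      (fib_le_three_pow (u + 1) (by omega)).trans (Nat.pow_le_pow_left (by omega) _)
    have h1 : 3 * ((h + 1) * symConv h (u + 1)) ≤ (h + 1) * ((2 * h + 1) ^ (u + 1) + 1) := by
      rw [Nat.mul_left_comm]
      exact Nat.mul_le_mul_left _ ih
    have h2 : h + 1 ≤ (2 * h + 1) ^ (u + 1) :=
      le_trans (by omega) (Nat.le_self_pow (by omega) _)
    have h3 : (h + 5) * (2 * h + 1) ^ (u + 1) ≤ (2 * h + 1) ^ 2 * (2 * h + 1) ^ (u + 1) :=
      Nat.mul_le_mul_right _ (by nlinarith)
    rw [← pow_add, show 2 + (u + 1) = u + 3 by omega] at h3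
    rw [show u + 1 + 2 = u + 3 by omega] at hs hf
    nlinarith

theorem card_runnerSets_le_fib (c q : ℕ) : (runnerSets c q).card ≤ fibB q :=
  (card_runnerSets_le c q).trans (part_le_fib c q)

theorem sum_range_paired (F : ℕ → ℕ) (h : ℕ) :
    ∑ i ∈ Finset.range (2 * h + 1), F i = ∑ i ∈ Finset.range h, (F i + F (2 * h - i)) + F h := by
  rw [show 2 * h + 1 = h + (h + 1) by omega, Finset.sum_range_add, Finset.sum_range_succ',
    Finset.sum_add_distrib, ← Finset.sum_range_reflect (fun k => F (h + (k + 1))) h, ← Nat.add_assoc,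
    Nat.add_zero]
  refine congrArg (· + F h) (congrArg _ (Finset.sum_congr rfl fun i hi => ?_))
  have := Finset.mem_range.mp hi
  exact congrArg F (by omega)

/-- The reflection maps the runner `i` to the runner `p - 1 - i`. -/
theorem levels_antisymm {p t m : ℕ} (hm : m = p * t) {S : Finset ℕ} (hbd : ∀ x ∈ S, x < 2 * m)
    (hanti : ∀ x, x < 2 * m → (x ∈ S ↔ 2 * m - 1 - x ∉ S)) {i : ℕ} (hi : i < p) :
    (∀ j ∈ levels p S i, j < 2 * t) ∧
      ∀ j, j < 2 * t → (j ∈ levels p S (p - 1 - i) ↔ 2 * t - 1 - j ∉ levels p S i) := by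
  have hp : 0 < p := by omega
  refine ⟨fun j hj => ?_, fun j hj => ?_⟩
  · have h1 := hbd _ ((mem_levels hp hi).mp hj)
    rw [hm, show 2 * (p * t) = p * (2 * t) by ring] at h1
    exact Nat.lt_of_mul_lt_mul_left (a := p) (by omega)
  · have hle : p * (j + 1) ≤ p * (2 * t) := Nat.mul_le_mul_left p hj
    have e0 : p * (2 * t) = 2 * m := by rw [hm]; ring
    have e1 : p * (j + 1) = p * j + p := by ring
    have e2 : p * (2 * t - 1 - j) + p * (j + 1) = p * (2 * t) := by
      rw [← Nat.mul_add]
      congr 1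
      omega
    rw [mem_levels hp (by omega : p - 1 - i < p), mem_levels hp hi, hanti _ (by omega)]
    rw [show 2 * m - 1 - (p * j + (p - 1 - i)) = p * (2 * t - 1 - j) + i by omega]

/-- Shapes of weight `u` over a core that the reflection turns into their complements. -/
theorem card_symmetric_le {h t : ℕ} {m n r u : ℕ} (hm : m = (2 * h + 1) * t)
    (hnr : n = r + (2 * h + 1) * u) {S₀ : Finset ℕ} (h₀ : IsShape m r S₀)
    (hcore : IsCore (2 * h + 1) S₀) (T : Finset (Finset ℕ))
    (hT : ∀ S ∈ T, IsShape m n S ∧ (∀ x, runnerCount (2 * h + 1) S x = runnerCount (2 * h + 1) S₀ x) ∧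
      (∀ x ∈ S, x < 2 * m) ∧ ∀ x, x < 2 * m → (x ∈ S ↔ 2 * m - 1 - x ∉ S)) :
    T.card ≤ symConv h u := by
  set p := 2 * h + 1 with hpdef
  haveI : NeZero p := ⟨by omega⟩
  have hp : 0 < p := by omega
  set c : ℕ → ℕ := fun i => (levels p S₀ i).card with hc
  set tri : ℕ → ℕ := fun k => ∑ x ∈ Finset.range k, x with htri
  have hcard : ∀ S ∈ T, ∀ i, i < p → (levels p S i).card = c i := fun S hS i hi => by
    have e1 := card_levels S (⟨i, hi⟩ : Fin p)
    have e2 := card_levels S₀ (⟨i, hi⟩ : Fin p)
    rw [(hT S hS).2.1] at e1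
    exact e1.trans e2.symm
  have hlev : ∀ S ∈ T, ∀ i, i < p → (∀ j ∈ levels p S i, j < 2 * t) ∧
      ∀ j, j < 2 * t → (j ∈ levels p S (p - 1 - i) ↔ 2 * t - 1 - j ∉ levels p S i) := fun S hS i hi =>
    levels_antisymm hm (hT S hS).2.2.1 (hT S hS).2.2.2 hi
  have hweight : ∀ S ∈ T, ∀ i, i < h →
      ∑ x ∈ levels p S (2 * h - i), x + tri (c i) = ∑ x ∈ levels p S i, x + tri (c (2 * h - i)) := by
    intro S hS i hi
    have e : p - 1 - i = 2 * h - i := by omega
    have := reflect_weight (hlev S hS i (by omega)).1 (hlev S hS _ (by omega : p - 1 - i < p)).1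
      (hlev S hS i (by omega)).2
    rw [hcard S hS i (by omega), hcard S hS _ (by omega : p - 1 - i < p), e] at this
    exact this
  have hhalf : ∀ S ∈ T, (∑ i ∈ Finset.range h, tri (c i)) ≤ ∑ i ∈ Finset.range h, ∑ x ∈ levels p S i, x := by
    intro S hS
    refine Finset.sum_le_sum fun i hi => ?_
    have := Finset.mem_range.mp hi
    rw [← hcard S hS i (by omega)]
    exact sum_range_le _
  have hmid : ∀ S ∈ T, tri (c h) ≤ ∑ x ∈ levels p S h, x := fun S hS => by
    rw [← hcard S hS h (by omega)]
    exact sum_range_le _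
  have hpaired : ∀ S ∈ T, ∑ i ∈ Finset.range h, ∑ x ∈ levels p S (2 * h - i), x +
      ∑ i ∈ Finset.range h, tri (c i) = ∑ i ∈ Finset.range h, ∑ x ∈ levels p S i, x +
      ∑ i ∈ Finset.range h, tri (c (2 * h - i)) := fun S hS => by
    rw [← Finset.sum_add_distrib, ← Finset.sum_add_distrib]
    exact Finset.sum_congr rfl fun i hi => hweight S hS i (Finset.mem_range.mp hi)
  have htotal : ∀ S ∈ T, ∑ i ∈ Finset.range p, ∑ x ∈ levels p S i, x =
      (∑ i ∈ Finset.range p, tri (c i)) + u := by
    intro S hS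
    refine Nat.eq_of_mul_eq_mul_left hp ?_
    have e1 := sum_eq_sum_levels hp S
    have e2 := sum_eq_sum_levels hp S₀
    rw [(hT S hS).1.2, Finset.sum_add_distrib, ← Finset.mul_sum,
      Finset.sum_congr rfl fun (i : Fin p) (_ : i ∈ Finset.univ) =>
        congrArg (· * (i : ℕ)) (hcard S hS i i.2),
      Fin.sum_univ_eq_sum_range (fun i => ∑ x ∈ levels p S i, x)] at e1
    rw [h₀.2, Finset.sum_add_distrib, ← Finset.mul_sum,
      Fin.sum_univ_eq_sum_range (fun i => ∑ x ∈ levels p S₀ i, x)] at e2
    have e3 : ∑ i ∈ Finset.range p, tri (c i) = ∑ i ∈ Finset.range p, ∑ x ∈ levels p S₀ i, x :=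
      Finset.sum_congr rfl fun i hi => by
        rw [htri, hc]
        exact congrArg (fun L : Finset ℕ => ∑ x ∈ L, x)
          (levels_core hp hcore ⟨i, Finset.mem_range.mp hi⟩).symm
    rw [Nat.mul_add, e3]
    simp only [hc] at e1
    omega
  set w : Finset ℕ → ℕ := fun S =>
    (∑ i ∈ Finset.range h, ∑ x ∈ levels p S i, x) - ∑ i ∈ Finset.range h, tri (c i) with hw
  have hmid' : ∀ S ∈ T, ∑ x ∈ levels p S h, x + 2 * w S = tri (c h) + u := by
    intro S hS
    have e := htotal S hS
    rw [hpdef, sum_range_paired, sum_range_paired, Finset.sum_add_distrib, Finset.sum_add_distrib,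
      ← hpdef] at e
    have := hpaired S hS
    have := hhalf S hS
    simp only [hw]
    omega
  have hq : ∀ S ∈ T, w S ∈ Finset.range (u / 2 + 1) := fun S hS => by
    have := hmid' S hS
    have := hmid S hS
    rw [Finset.mem_range]
    omega
  rw [symConv, Finset.card_eq_sum_card_fiberwise hq]
  refine Finset.sum_le_sum fun q _ => ?_
  let F : Finset ℕ → (Fin h → Finset ℕ) := fun S i => levels p S i
  refine le_trans ?_ (Nat.mul_le_mul (card_runnerSets_le_fib (c h) (u - 2 * q))
    (card_families_le fibB card_runnerSets_le_fib h (fun i => c i) q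
      ((T.filter fun S => w S = q).image F) ?_))
  · rw [← Finset.card_product]
    refine Finset.card_le_card_of_injOn (fun S => (levels p S h, F S)) ?_ ?_
    · intro S hS
      simp only [Finset.mem_coe, Finset.mem_filter] at hS
      simp only [Finset.mem_coe, Finset.mem_product, mem_runnerSets, Finset.mem_image, Finset.mem_filter]
      have := hmid' S hS.1
      have := hmid S hS.1
      refine ⟨⟨hcard S hS.1 h (by omega), ?_⟩, S, hS, rfl⟩
      rw [← hS.2]
      show _ = tri (c h) + _
      omega
    · intro S hS S' hS' e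
      simp only [Finset.mem_coe, Finset.mem_filter] at hS hS'
      simp only [Prod.mk.injEq] at e
      have hlo : ∀ i, i ≤ h → levels p S i = levels p S' i := fun i hi => by
        rcases Nat.lt_or_eq_of_le hi with hlt | rfl
        · exact congrFun e.2 ⟨i, hlt⟩
        · exact e.1
      have hall : ∀ i, i < p → levels p S i = levels p S' i := fun i hi => by
        rcases Nat.lt_or_ge h i with hlt | hge
        swap
        · exact hlo i hge
        have h1 := hlev S hS.1 (p - 1 - i) (by omega)
        have h2 := hlev S' hS'.1 (p - 1 - i) (by omega)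
        rw [show p - 1 - (p - 1 - i) = i by omega] at h1 h2
        have hb1 := (hlev S hS.1 i hi).1
        have hb2 := (hlev S' hS'.1 i hi).1
        ext j
        constructor
        · intro hj
          exact (h2.2 j (hb1 j hj)).mpr (hlo (p - 1 - i) (by omega) ▸ (h1.2 j (hb1 j hj)).mp hj)
        · intro hj
          exact (h1.2 j (hb2 j hj)).mpr ((hlo (p - 1 - i) (by omega)).symm ▸ (h2.2 j (hb2 j hj)).mp hj)
      ext x
      have := Finset.ext_iff.mp (hall (x % p) (Nat.mod_lt _ hp)) (x / p)
      simpa [mem_levels hp (Nat.mod_lt _ hp), Nat.div_add_mod] using this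
  · intro Φ hΦ
    obtain ⟨S, hS, rfl⟩ := Finset.mem_image.mp hΦ
    rw [Finset.mem_filter] at hS
    refine ⟨fun i => hcard S hS.1 i (by omega), ?_⟩
    have := hhalf S hS.1
    rw [← hS.2, Fin.sum_univ_eq_sum_range (fun i => ∑ x ∈ levels p S i, x),
      Fin.sum_univ_eq_sum_range (fun i => ∑ x ∈ Finset.range (c i), x)]
    simp only [hw, htri] at this ⊢
    omega


/-- The case `p = 2`: the two runners determine each other. -/
theorem card_symmetric_two_le {t : ℕ} {m n r u : ℕ} (hm : m = 2 * t)
    (hnr : n = r + 2 * u) {S₀ : Finset ℕ} (h₀ : IsShape m r S₀) (hcore : IsCore 2 S₀)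
    (T : Finset (Finset ℕ))
    (hT : ∀ S ∈ T, IsShape m n S ∧ (∀ x, runnerCount 2 S x = runnerCount 2 S₀ x) ∧
      (∀ x ∈ S, x < 2 * m) ∧ ∀ x, x < 2 * m → (x ∈ S ↔ 2 * m - 1 - x ∉ S)) :
    T.card ≤ if Even u then part (u / 2) (u / 2) else 0 := by
  set c : ℕ → ℕ := fun i => (levels 2 S₀ i).card with hc
  have hcard : ∀ S ∈ T, ∀ i, i < 2 → (levels 2 S i).card = c i := fun S hS i hi => by
    have e1 := card_levels S (⟨i, hi⟩ : Fin 2)
    have e2 := card_levels S₀ (⟨i, hi⟩ : Fin 2)
    rw [(hT S hS).2.1] at e1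
    exact e1.trans e2.symm
  have hweight : ∀ S ∈ T, 2 * (∑ x ∈ levels 2 S 0, x) = 2 * (∑ x ∈ Finset.range (c 0), x) + u := by
    intro S hS
    obtain ⟨hS1, -, hbd, hanti⟩ := hT S hS
    have hw := reflect_weight (levels_antisymm hm hbd hanti (i := 0) (by omega)).1
      (levels_antisymm hm hbd hanti (i := 1) (by omega)).1
      (levels_antisymm hm hbd hanti (i := 0) (by omega)).2
    rw [hcard S hS 0 (by omega), hcard S hS 1 (by omega)] at hw
    have e1 := sum_eq_sum_levels (by omega : 0 < 2) S
    have e2 := sum_eq_sum_levels (by omega : 0 < 2) S₀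
    have h0 : levels 2 S₀ 0 = Finset.range (c 0) := levels_core (by omega) hcore (0 : Fin 2)
    have h1 : levels 2 S₀ 1 = Finset.range (c 1) := levels_core (by omega) hcore (1 : Fin 2)
    rw [hS1.2, Fin.sum_univ_two] at e1
    rw [h₀.2, Fin.sum_univ_two] at e2
    simp only [Fin.val_zero, Fin.val_one, hcard S hS 0 (by omega), hcard S hS 1 (by omega)] at e1
    simp only [Fin.val_zero, Fin.val_one, h0, h1, Finset.card_range] at e2
    omega
  split_ifs with hu
  · obtain ⟨v, rfl⟩ := hu
    refine le_trans ?_ ((card_runnerSets_le (c 0) ((v + v) / 2)).trans (part_le_diag _ _))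
    refine Finset.card_le_card_of_injOn (fun S => levels 2 S 0) ?_ ?_
    · intro S hS
      have := hweight S hS
      simp only [Finset.mem_coe, mem_runnerSets]
      exact ⟨hcard S hS 0 (by omega), by omega⟩
    · intro S hS S' hS' e
      simp only at e
      have h1 := fun (R : Finset ℕ) (hR : R ∈ T) =>
        levels_antisymm hm (hT R hR).2.2.1 (hT R hR).2.2.2 (i := 0) (by omega)
      have hb := fun (R : Finset ℕ) (hR : R ∈ T) =>
        (levels_antisymm hm (hT R hR).2.2.1 (hT R hR).2.2.2 (i := 1) (by omega)).1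
      have e1 : levels 2 S 1 = levels 2 S' 1 := by
        ext j
        constructor
        · intro hj
          exact ((h1 S' hS').2 j (hb S hS j hj)).mpr (e ▸ ((h1 S hS).2 j (hb S hS j hj)).mp hj)
        · intro hj
          exact ((h1 S hS).2 j (hb S' hS' j hj)).mpr (e.symm ▸ ((h1 S' hS').2 j (hb S' hS' j hj)).mp hj)
      ext x
      have hx : levels 2 S (x % 2) = levels 2 S' (x % 2) := by
        rcases Nat.mod_two_eq_zero_or_one x with h | h <;> rw [h] <;> assumption
      have := Finset.ext_iff.mp hx (x / 2)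
      simpa [mem_levels (by omega : 0 < 2) (Nat.mod_lt _ (by omega : 2 > 0)), Nat.div_add_mod] using this
  · rw [Nat.le_zero, Finset.card_eq_zero, Finset.eq_empty_iff_forall_notMem]
    intro S hS
    have := hweight S hS
    exact hu (Nat.even_iff.mpr (by omega))

end CfsgLib.SymBlock
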