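import Cfsg.Agent.Lib.SymBlock.ContentPoly
import Cfsg.Agent.Lib.SymBlock.AltCount

/-!
# Characters fixed by the sign

If a seminormal character is fixed by multiplication with the sign, its contents are symmetric
about zero, so the reflection `x ↦ 2 m - 1 - x` turns its bead position into the complement.
-/

set_option autoImplicit false
set_option linter.style.haveILetI false

namespace CfsgLib.SymBlock

open Polynomial

variable {m n : ℕ}

theorem sign_mul_neg_one_pow_orbCount (σ : Equiv.Perm (Fin n)) :
    ((Equiv.Perm.sign σ : ℤ) : ℂ) * (-1) ^ orbCount σ = (-1) ^ n := by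
  induction hs : σ.support.card using Nat.strong_induction_on generalizing σ with
  | _ s ih =>
    by_cases h1 : σ = 1
    · subst h1
      rw [map_one, orbCount_one, Nat.card_fin]
      simp
    obtain ⟨k, hk⟩ : ∃ k, σ k ≠ k := by
      by_contra hne
      push Not at hne
      exact h1 (Equiv.ext hne)
    set i := σ.symm k with hi
    have hσi : σ i = k := σ.apply_symm_apply k
    have hik : i ≠ k := fun h => hk (by rw [← h]; rw [hσi]; exact h.symm)
    set π := σ * Equiv.swap i k with hπdef
    have hπk : π k = k := by rw [hπdef, Equiv.Perm.mul_apply, Equiv.swap_apply_right, hσi]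
    have hsub : π.support ⊂ σ.support := by
      refine Finset.ssubset_iff_subset_ne.mpr ⟨fun x hx => ?_, fun e => ?_⟩
      · rw [Equiv.Perm.mem_support] at hx ⊢
        intro hx'
        have hxi : x ≠ i := fun h => hik (by rw [h] at hx'; exact hx'.symm.trans hσi)
        have hxk : x ≠ k := fun h => hk (h ▸ hx')
        exact hx (by rw [hπdef, Equiv.Perm.mul_apply, Equiv.swap_apply_of_ne_of_ne hxi hxk, hx'])
      · exact (Equiv.Perm.mem_support.mp (e.symm ▸ Equiv.Perm.mem_support.mpr hk)) hπk
    have ih' := ih π.support.card (hs ▸ Finset.card_lt_card hsub) π rfl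
    have ho := orbCount_mul_swap hπk hik
    have hback : π * Equiv.swap i k = σ := by rw [hπdef, mul_assoc, Equiv.swap_mul_self, mul_one]
    rw [hback] at ho
    have hsign : Equiv.Perm.sign π = -Equiv.Perm.sign σ := by
      rw [hπdef, map_mul, Equiv.Perm.sign_swap hik, mul_neg, mul_one]
    rw [hsign, ho, pow_succ, Units.val_neg, Int.cast_neg] at ih'
    rw [← ih']
    ring

/-- The entries of a sequence of a character fixed by the sign are symmetric. -/
theorem count_symm_of_fixed (S : {S : Finset ℕ // IsShape m n S}) (hm : 0 < m)
    (hfix : ∀ σ, ((Equiv.Perm.sign σ : ℤ) : ℂ) * (semiChar S : Equiv.Perm (Fin n) → ℂ) σ =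
      (semiChar S : Equiv.Perm (Fin n) → ℂ) σ) (a : ℕ) :
    (someTab S).1.count a = if a ≤ 2 * m - 2 then (someTab S).1.count (2 * m - 2 - a) else 0 := by
  classical
  have hneg : ∀ τ : ℂ, ((someTab S).1.map fun b => τ - -content m b).prod =
      ((someTab S).1.map fun b => τ - content m b).prod := by
    intro τ
    have h := contentPoly S
    have e1 := congrArg (Polynomial.eval τ) h
    have e2 := congrArg (Polynomial.eval (-τ)) h
    simp only [eval_finsetSum, eval_mul, eval_C, eval_pow, eval_X, eval_list_prod, List.map_map,
      Function.comp_def, eval_sub] at e1 e2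
    have hflip : ((someTab S).1.map fun b => -τ - content m b).prod =
        (-1) ^ n * ((someTab S).1.map fun b => τ - -content m b).prod := by
      have : ∀ l : List ℕ, (l.map fun b => -τ - content m b).prod =
          (-1) ^ l.length * (l.map fun b => τ - -content m b).prod := fun l => by
        induction l with
        | nil => simp
        | cons b l ih =>
          simp only [List.map_cons, List.prod_cons, List.length_cons, ih, pow_succ]
          ring
      rw [this, (someTab S).2.1]
    rw [hflip] at e2
    refine mul_left_cancel₀ (pow_ne_zero n (neg_ne_zero.mpr (one_ne_zero (α := ℂ)))) ?_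
    rw [← e2, ← e1, Finset.mul_sum]
    refine Finset.sum_congr rfl fun σ _ => ?_
    rw [neg_pow, hfix σ, ← sign_mul_neg_one_pow_orbCount σ]
    have hsq : ((Equiv.Perm.sign σ : ℤ) : ℂ) * ((Equiv.Perm.sign σ : ℤ) : ℂ) = 1 := by
      rw [← Int.cast_mul, ← Units.val_mul, Int.units_mul_self, Units.val_one, Int.cast_one]
    linear_combination ((-1 : ℂ) ^ orbCount σ * τ ^ orbCount σ *
      (semiChar S : Equiv.Perm (Fin n) → ℂ) σ / (semiChar S : Equiv.Perm (Fin n) → ℂ) 1) *
      (0 * hsq) + ((-1 : ℂ) ^ orbCount σ * τ ^ orbCount σ /
      (semiChar S : Equiv.Perm (Fin n) → ℂ) 1) * (-(hfix σ))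
  set L : Multiset ℕ := ((someTab S).1 : Multiset ℕ) with hL
  have hroots : L.map (fun b => -content m b) = L.map (content m) := by
    have hp : ((L.map fun b => -content m b).map fun c => X - C c).prod =
        ((L.map (content m)).map fun c => X - C c).prod := by
      refine Polynomial.funext fun τ => ?_
      simp only [hL, Multiset.map_coe, Multiset.prod_coe, eval_list_prod, List.map_map,
        Function.comp_def, eval_sub, eval_X, eval_C]
      exact hneg τ
    rw [← roots_multiset_prod_X_sub_C (L.map fun b => -content m b), hp, roots_multiset_prod_X_sub_C]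
  have hcnt : ∀ b, (someTab S).1.count b = (L.map (content m)).count (content m b) := fun b => by
    rw [Multiset.count_map_eq_count' _ _ (content_injective m), hL, Multiset.coe_count]
  rw [hcnt a, ← hroots]
  have hinj : Function.Injective fun b => -content m b := fun b c h =>
    content_injective m (neg_injective h)
  split_ifs with ha
  · have e : content m a = -content m (2 * m - 2 - a) := by
      simp only [content]
      rw [Nat.cast_sub ha, Nat.cast_sub (by omega : 2 ≤ 2 * m)]
      push_cast
      ring
    rw [e]
    exact (Multiset.count_map_eq_count' _ _ hinj _).trans (Multiset.coe_count _ _)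
  · rw [Multiset.count_eq_zero, Multiset.mem_map]
    rintro ⟨b, -, hb⟩
    simp only [content] at hb
    have : ((a + b + 2 : ℕ) : ℂ) = ((2 * m : ℕ) : ℂ) := by
      push_cast
      linear_combination -hb
    have := Nat.cast_injective this
    omega

/-- A character fixed by the sign belongs to a position that the reflection complements. -/
theorem antisymm_of_fixed (S : {S : Finset ℕ // IsShape m n S}) (hm : 0 < m)
    (hfix : ∀ σ, ((Equiv.Perm.sign σ : ℤ) : ℂ) * (semiChar S : Equiv.Perm (Fin n) → ℂ) σ =
      (semiChar S : Equiv.Perm (Fin n) → ℂ) σ) :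
    (∀ x ∈ S.1, x < 2 * m) ∧ ∀ x, x < 2 * m → (x ∈ S.1 ↔ 2 * m - 1 - x ∉ S.1) := by
  have := antisymm_of_count hm (someTab S).2.2.1 (count_symm_of_fixed S hm hfix)
  rwa [(someTab S).2.2.2] at this

end CfsgLib.SymBlock
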