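import Cfsg.Agent.Lib.SymBlock.Main
import Cfsg.Agent.Lib.SymBlock.SelfConj
import Cfsg.Agent.Lib.SymBlock.AltCount
import Cfsg.Agent.Lib.Blocks.CoveringConstituents
import Cfsg.Agent.Lib.Char.AbelianQuotient
import Mathlib.GroupTheory.SpecificGroups.Alternating

/-!
# Blocks of alternating groups for an odd prime

The block of the symmetric group above a block of the alternating group has the same defect group.
The characters of the alternating block are counted by the members of the covering block, the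
members fixed by the sign giving two constituents each.
-/

set_option autoImplicit false
set_option linter.unusedSectionVars false
set_option linter.style.haveILetI false

namespace CfsgLib.SymBlock

open Cfsg CfsgLib.Blocks
open scoped ComplexConjugate CfsgLib.Char

variable {n : ℕ}

/-- The sign as a complex linear character. -/
noncomputable def sgnUnits (n : ℕ) : Equiv.Perm (Fin n) →* ℂˣ :=
  (Units.map (Int.castRingHom ℂ).toMonoidHom).comp Equiv.Perm.sign

/-- A character times the sign. -/
noncomputable def twistSgn (χ : IrrCharacter (Equiv.Perm (Fin n))) : IrrCharacter (Equiv.Perm (Fin n)) :=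
  ⟨fun g => ((Equiv.Perm.sign g : ℤ) : ℂ) * (χ : Equiv.Perm (Fin n) → ℂ) g,
    CfsgLib.Char.isIrrCharacter_linear_mul χ.2 (sgnUnits n)⟩

theorem twistSgn_apply (χ : IrrCharacter (Equiv.Perm (Fin n))) (g : Equiv.Perm (Fin n)) :
    (twistSgn χ : Equiv.Perm (Fin n) → ℂ) g =
      ((Equiv.Perm.sign g : ℤ) : ℂ) * (χ : Equiv.Perm (Fin n) → ℂ) g := rfl

/-- A character and its twist have the same restriction to the alternating group. -/
theorem twistSgn_restrict (χ : IrrCharacter (Equiv.Perm (Fin n))) :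
    (fun a : alternatingGroup (Fin n) => (twistSgn χ : Equiv.Perm (Fin n) → ℂ) a) =
      fun a : alternatingGroup (Fin n) => (χ : Equiv.Perm (Fin n) → ℂ) a := funext fun a => by
  rw [twistSgn_apply, Equiv.Perm.mem_alternatingGroup.mp a.2, Units.val_one, Int.cast_one, one_mul]

/-- Twisting by the sign respects blocks. -/
theorem sameBlock_twistSgn {M : Ideal AlgInt} [M.IsPrime] {χ ψ : IrrCharacter (Equiv.Perm (Fin n))}
    (h : SameBlock M (χ : Equiv.Perm (Fin n) → ℂ) (ψ : Equiv.Perm (Fin n) → ℂ)) :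
    SameBlock M (twistSgn χ : Equiv.Perm (Fin n) → ℂ) (twistSgn ψ : Equiv.Perm (Fin n) → ℂ) := by
  intro g
  have key : ∀ η : IrrCharacter (Equiv.Perm (Fin n)),
      centralChar (twistSgn η : Equiv.Perm (Fin n) → ℂ) g =
        ((Equiv.Perm.sign g : ℤ) : ℂ) * centralChar (η : Equiv.Perm (Fin n) → ℂ) g := fun η => by
    simp only [centralChar, twistSgn_apply, map_one, Units.val_one, Int.cast_one, one_mul]
    ring
  rw [key, key, ← mul_sub]
  rcases Int.units_eq_one_or (Equiv.Perm.sign g) with hs | hs <;> rw [hs]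
  · simpa using h g
  · simpa using memLocalIdeal_neg (h g)

theorem eq_twistSgn_iff (χ : IrrCharacter (Equiv.Perm (Fin n))) :
    twistSgn χ = χ ↔ ∀ g, ((Equiv.Perm.sign g : ℤ) : ℂ) * (χ : Equiv.Perm (Fin n) → ℂ) g =
      (χ : Equiv.Perm (Fin n) → ℂ) g :=
  ⟨fun h g => congrFun (congrArg Subtype.val h) g, fun h => Subtype.ext (funext h)⟩

/-- The norm of the restriction to the alternating group. -/
theorem classInner_restrict_alt [Nontrivial (Fin n)] (χ : IrrCharacter (Equiv.Perm (Fin n))) :
    classInner (fun a : alternatingGroup (Fin n) => (χ : Equiv.Perm (Fin n) → ℂ) a)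
        (fun a : alternatingGroup (Fin n) => (χ : Equiv.Perm (Fin n) → ℂ) a) =
      1 + classInner (twistSgn χ : Equiv.Perm (Fin n) → ℂ) (χ : Equiv.Perm (Fin n) → ℂ) := by
  classical
  set f : Equiv.Perm (Fin n) → ℂ := fun g =>
    (χ : Equiv.Perm (Fin n) → ℂ) g * conj ((χ : Equiv.Perm (Fin n) → ℂ) g) with hf
  have hsum : ∑ g, f g + ∑ g, ((Equiv.Perm.sign g : ℤ) : ℂ) * f g =
      2 * ∑ a : alternatingGroup (Fin n), f a := by
    rw [← Finset.sum_add_distrib, ← Finset.sum_subtype (s := Finset.univ.filter fun g =>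
      g ∈ alternatingGroup (Fin n)) (fun g => by simp) f, Finset.sum_filter, Finset.mul_sum]
    refine Finset.sum_congr rfl fun g _ => ?_
    simp only [Equiv.Perm.mem_alternatingGroup]
    rcases Int.units_eq_one_or (Equiv.Perm.sign g) with hs | hs
    · rw [if_pos hs, hs]; push_cast; ring
    · rw [if_neg (by rw [hs]; decide), hs]; push_cast; ring
  have hcard : (2 : ℂ) * (Nat.card (alternatingGroup (Fin n)) : ℂ) =
      (Nat.card (Equiv.Perm (Fin n)) : ℂ) := by
    have h := two_mul_card_alternatingGroup (α := Fin n)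
    rw [← Nat.card_eq_fintype_card, ← Nat.card_eq_fintype_card] at h
    exact_mod_cast h
  have h1 : classInner (χ : Equiv.Perm (Fin n) → ℂ) (χ : Equiv.Perm (Fin n) → ℂ) = 1 :=
    CfsgLib.Char.classInner_irr_self χ.2
  have hA : classInner (fun a : alternatingGroup (Fin n) => (χ : Equiv.Perm (Fin n) → ℂ) a)
      (fun a : alternatingGroup (Fin n) => (χ : Equiv.Perm (Fin n) → ℂ) a) =
      (Nat.card (alternatingGroup (Fin n)) : ℂ)⁻¹ * ∑ a : alternatingGroup (Fin n), f a := rfl
  have hG : classInner (χ : Equiv.Perm (Fin n) → ℂ) (χ : Equiv.Perm (Fin n) → ℂ) =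
      (Nat.card (Equiv.Perm (Fin n)) : ℂ)⁻¹ * ∑ g, f g := rfl
  have hT : classInner (twistSgn χ : Equiv.Perm (Fin n) → ℂ) (χ : Equiv.Perm (Fin n) → ℂ) =
      (Nat.card (Equiv.Perm (Fin n)) : ℂ)⁻¹ * ∑ g, ((Equiv.Perm.sign g : ℤ) : ℂ) * f g := by
    show _ * _ = _
    refine congrArg _ (Finset.sum_congr rfl fun g _ => ?_)
    rw [twistSgn_apply, mul_assoc]
  rw [← h1, hG, hA, hT, ← mul_add, hsum, ← hcard]
  have : (Nat.card (alternatingGroup (Fin n)) : ℂ) ≠ 0 := Nat.cast_ne_zero.mpr Nat.card_pos.ne'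
  field_simp

/-- A character has at most as many constituents as its norm. -/
theorem card_constituents_le_of_norm {G : Type*} [Group G] [Fintype G]
    {φ : G → ℂ} (hφ : IsCharacter G φ) {k : ℕ} (hk : classInner φ φ = k)
    (T : Finset (IrrCharacter G)) (hT : ∀ θ ∈ T, classInner φ (θ : G → ℂ) ≠ 0) : T.card ≤ k := by
  classical
  choose m hm using fun θ : IrrCharacter G =>
    CfsgLib.Char.exists_nat_classInner hφ (CfsgLib.Char.isCharacter_of_isIrr θ.2)
  have hnorm : ∑ θ : IrrCharacter G, m θ * m θ = k := by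
    obtain ⟨a, ha⟩ := CfsgLib.Char.exists_multiplicities hφ
    have ha' : ∀ θ, (a θ : ℂ) = m θ := fun θ => by
      rw [← hm θ, ha, CfsgLib.Char.classInner_sum_smul_irr]
    have e : φ = ∑ ψ : IrrCharacter G, (m ψ : ℂ) • (ψ : G → ℂ) := by
      rw [ha]
      refine Finset.sum_congr (by ext; simp) fun ψ _ => ?_
      rw [ha']
    rw [e, CfsgLib.Char.classInner_sum_smul_sum_smul] at hk
    simp only [map_natCast] at hk
    exact_mod_cast hk
  calc T.card = ∑ _θ ∈ T, 1 := Finset.card_eq_sum_ones T
    _ ≤ ∑ θ ∈ T, m θ * m θ := Finset.sum_le_sum fun θ hθ => by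
      have : m θ ≠ 0 := fun h => hT θ hθ (by rw [hm θ, h, Nat.cast_zero])
      exact Nat.one_le_iff_ne_zero.mpr (mul_ne_zero this this)
    _ ≤ ∑ θ : IrrCharacter G, m θ * m θ :=
      Finset.sum_le_sum_of_subset (Finset.subset_univ T)
    _ = k := hnorm

/-- Sectional rank bounds pass to isomorphic groups. -/
theorem sectionalPRankLE_of_injective {p k : ℕ} {G H : Type*} [Group G] [Group H] (f : H →* G)
    (hf : Function.Injective f) (h : SectionalPRankLE p k G) : SectionalPRankLE p k H := by
  intro L N _ A hA hexp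
  set e := L.equivMapOfInjective f hf with he
  haveI hN : (N.map (e : L →* L.map f)).Normal := Subgroup.Normal.map inferInstance _ e.surjective
  set q := QuotientGroup.congr N (N.map (e : L →* L.map f)) e rfl with hq
  have h1 := h (L.map f) (N.map (e : L →* L.map f)) (A.map (q : _ →* _)) inferInstance
    (fun a ha => by
      obtain ⟨b, hb, rfl⟩ := ha
      rw [← map_pow, hexp b hb, map_one])
  rwa [Nat.card_congr (A.equivMapOfInjective _ q.injective).toEquiv]

section Odd

variable {p : ℕ} [Fact p.Prime] {M : Ideal AlgInt} (hM : IsPModular p M)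
  {B : Set (IrrCharacter (alternatingGroup (Fin n)))} (hB : IsPBlock M B)
  {D : Subgroup (alternatingGroup (Fin n))} (hD : IsDefectGroup p M B D) (hD1 : D ≠ ⊥)
include hM hB hD hD1

/-- The number of characters of an alternating block for an odd prime. -/
theorem exists_card_alt_le (hp : p ≠ 2) :
    ∃ u : ℕ, (∀ s, SectionalPRankLE p s D → u ≤ s) ∧ 1 ≤ u ∧ Nat.card B ≤ p ^ u := by
  classical
  have := isPrime_of_isPModular hM
  have hpp : p.Prime := Fact.out
  have hodd : Odd p := hpp.odd_of_ne_two hp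
  obtain ⟨θ₀, hθ₀⟩ := IsPBlock.nonempty hB
  obtain ⟨χ₀, hχ₀⟩ := exists_irr_above (G := Equiv.Perm (Fin n)) θ₀
  set Bt := blockOf M (χ₀ : Equiv.Perm (Fin n) → ℂ) with hBt
  have hBtB : IsPBlock M Bt := isPBlock_blockOf χ₀
  have hχmem : χ₀ ∈ Bt := mem_blockOf_self χ₀
  -- the defect groups agree
  set Q := D.map (alternatingGroup (Fin n)).subtype with hQdef
  have hQN : Q ≤ alternatingGroup (Fin n) := Subgroup.map_subtype_le D
  have hQ : IsDefectGroup p M B (Q.subgroupOf (alternatingGroup (Fin n))) := by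
    have e : Q.subgroupOf (alternatingGroup (Fin n)) = D :=
      Subgroup.comap_map_eq_self_of_injective (Subgroup.subtype_injective _) D
    rw [e]
    exact hD
  obtain ⟨P, hP⟩ := exists_isDefectGroup hM hBtB
  obtain ⟨P', hP', hinf⟩ := exists_defectGroup_inf_eq hB hBtB hχmem hθ₀ hχ₀ hM hQN hQ hP
  have hPp : IsPGroup p P' := IsDefectGroup.isPGroup hM hP'
  have hPA : P' ≤ alternatingGroup (Fin n) := fun z hz => by
    rw [Equiv.Perm.mem_alternatingGroup]
    obtain ⟨j, hj⟩ := hPp ⟨z, hz⟩
    have hz' : z ^ p ^ j = 1 := congrArg Subtype.val hj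
    rcases Int.units_eq_one_or (Equiv.Perm.sign z) with hs | hs
    · exact hs
    · have h := congrArg Equiv.Perm.sign hz'
      rw [map_pow, hs, map_one, Odd.neg_one_pow (hodd.pow (n := j))] at h
      exact absurd h (by decide)
  have hPQ : P' = Q := by rw [← hinf, inf_eq_left.mpr hPA]
  have hP1 : P' ≠ ⊥ := by
    rw [hPQ, hQdef, ne_eq, Subgroup.map_eq_bot_iff_of_injective _ (Subgroup.subtype_injective _)]
    exact hD1
  obtain ⟨u, r, e₀, hn, -, -, -, -, hus, hu1, hdata⟩ := exists_block_data hM hBtB hP'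
  have hu : 1 ≤ u := hu1 hP1
  refine ⟨u, fun s hs => hus s ?_, hu, ?_⟩
  · refine sectionalPRankLE_of_injective ((D.equivMapOfInjective _ (Subgroup.subtype_injective
      (alternatingGroup (Fin n)))).symm.toMonoidHom.comp (Subgroup.inclusion hPQ.le)) ?_ hs
    intro a b hab
    exact Subgroup.inclusion_injective hPQ.le ((D.equivMapOfInjective _ (Subgroup.subtype_injective
      (alternatingGroup (Fin n)))).symm.injective hab)
  -- the shapes
  obtain ⟨h, rfl⟩ : ∃ h, p = 2 * h + 1 := by
    obtain ⟨h, hh⟩ := hodd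
    exact ⟨h, hh⟩
  have hh1 : 1 ≤ h := by have := hpp.two_le; omega
  haveI : NeZero (2 * h + 1) := ⟨by omega⟩
  have hn0 : 0 < n := by
    rw [← hn]
    have : 0 < (2 * h + 1) * u := Nat.mul_pos (by omega) hu
    omega
  haveI : Nontrivial (Fin n) := by
    refine Fin.nontrivial_iff_two_le.mpr ?_
    have : 3 ≤ (2 * h + 1) * u := le_trans (by omega) (Nat.le_mul_of_pos_right _ hu)
    omega
  set m := (2 * h + 1) * n with hm
  have hnm : n ≤ m := Nat.le_mul_of_pos_left _ (by omega)
  obtain ⟨S₀, b₀, ξ₀, l₀, -, -, -, -, hcore, hrun⟩ := hdata m hnm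
  haveI : Finite (IrrCharacter (Equiv.Perm (Fin n))) := CfsgLib.Char.finite_irrCharacter
  haveI : Finite {S : Finset ℕ // IsShape m n S} := Finite.of_injective _ semiChar_injective
  letI : Fintype {S : Finset ℕ // IsShape m n S} := Fintype.ofFinite _
  haveI : Finite (IrrCharacter (alternatingGroup (Fin n))) := CfsgLib.Char.finite_irrCharacter
  -- the members of the covering block
  set Bs : Finset (IrrCharacter (Equiv.Perm (Fin n))) := Finset.univ.filter fun χ => χ ∈ Bt with hBs
  set Fx := Bs.filter fun χ => twistSgn χ = χ with hFx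
  have hshape : ∀ χ : IrrCharacter (Equiv.Perm (Fin n)), ∃ S : {S : Finset ℕ // IsShape m n S},
      semiChar S = χ := fun χ => semiChar_surjective hnm χ
  choose shape hshape using hshape
  have hinj : Function.Injective fun χ => (shape χ).1 := fun a b e => by
    rw [← hshape a, ← hshape b, Subtype.ext e]
  have hrun' : ∀ χ ∈ Bs, IsShape m n (shape χ).1 ∧
      ∀ x, runnerCount (2 * h + 1) (shape χ).1 x = runnerCount (2 * h + 1) S₀.1 x := fun χ hχ => by
    obtain ⟨S, hS, hrS⟩ := hrun χ (Finset.mem_filter.mp hχ).2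
    obtain rfl : S = shape χ := semiChar_injective (hS.trans (hshape χ).symm)
    exact ⟨(shape χ).2, hrS⟩
  have hk : Bs.card ≤ (2 * h + 1) ^ u := by
    rw [← Finset.card_image_of_injective Bs hinj]
    refine (card_shapes_le hn.symm S₀.2 hcore _ (fun S hS => ?_) fibB card_runnerSets_le_fib).trans
      (conv_fib_le (by omega) u)
    obtain ⟨χ, hχ, rfl⟩ := Finset.mem_image.mp hS
    exact hrun' χ hχ
  have hsc : 3 * Fx.card ≤ (2 * h + 1) ^ u + 1 := by
    refine le_trans (Nat.mul_le_mul_left 3 ?_) (three_symConv_le hh1 u hu)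
    rw [← Finset.card_image_of_injective Fx hinj]
    refine card_symmetric_le hm hn.symm S₀.2 hcore _ fun S hS => ?_
    obtain ⟨χ, hχ, rfl⟩ := Finset.mem_image.mp hS
    obtain ⟨hχB, hfix⟩ := Finset.mem_filter.mp hχ
    have hanti := antisymm_of_fixed (shape χ) (Nat.mul_pos (by omega) hn0)
      (by rw [hshape χ]; exact (eq_twistSgn_iff χ).mp hfix)
    exact ⟨(hrun' χ hχB).1, (hrun' χ hχB).2, hanti.1, hanti.2⟩
  -- the constituents
  set Bf : Finset (IrrCharacter (alternatingGroup (Fin n))) := Finset.univ.filter fun θ => θ ∈ B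
    with hBf
  have hBfcard : Nat.card B = Bf.card := by
    rw [hBf, ← Fintype.card_subtype, ← Nat.card_eq_fintype_card]
  set R : IrrCharacter (alternatingGroup (Fin n)) → IrrCharacter (Equiv.Perm (Fin n)) → Prop :=
    fun θ χ => classInner (fun a : alternatingGroup (Fin n) => (χ : Equiv.Perm (Fin n) → ℂ) a)
      (θ : alternatingGroup (Fin n) → ℂ) ≠ 0 with hR
  have hcover : ∀ θ ∈ Bf, ∃ χ ∈ Bs, R θ χ := fun θ hθ => by
    obtain ⟨χ, hχ, hc⟩ := exists_constituent_mem_of_covering hM hB hBtB hχmem hθ₀ hχ₀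
      (Finset.mem_filter.mp hθ).2
    exact ⟨χ, Finset.mem_filter.mpr ⟨Finset.mem_univ _, hχ⟩, hc⟩
  have hcons : ∀ χ : IrrCharacter (Equiv.Perm (Fin n)),
      (Bf.filter fun θ => R θ χ).card ≤ if twistSgn χ = χ then 2 else 1 := fun χ => by
    refine card_constituents_le_of_norm
      (φ := fun a : alternatingGroup (Fin n) => (χ : Equiv.Perm (Fin n) → ℂ) a)
      (CfsgLib.Char.isCharacter_restrict _ (CfsgLib.Char.isCharacter_of_isIrr χ.2)) ?_ _
      fun θ hθ => (Finset.mem_filter.mp hθ).2
    rw [classInner_restrict_alt]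
    split_ifs with hfix
    · rw [hfix, CfsgLib.Char.classInner_irr_self χ.2]; norm_num
    · rw [CfsgLib.Char.classInner_irr_ne (twistSgn χ).2 χ.2 fun e => hfix (Subtype.ext e)]; norm_num
  rw [hBfcard]
  rcases Finset.eq_empty_or_nonempty Fx with hF | ⟨η, hη⟩
  · refine le_trans ?_ hk
    calc Bf.card ≤ (Bs.biUnion fun χ => Bf.filter fun θ => R θ χ).card := by
          refine Finset.card_le_card fun θ hθ => ?_
          obtain ⟨χ, hχ, hc⟩ := hcover θ hθ
          exact Finset.mem_biUnion.mpr ⟨χ, hχ, Finset.mem_filter.mpr ⟨hθ, hc⟩⟩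
      _ ≤ ∑ χ ∈ Bs, (Bf.filter fun θ => R θ χ).card := Finset.card_biUnion_le
      _ ≤ ∑ _χ ∈ Bs, 1 := Finset.sum_le_sum fun χ hχ => by
          refine (hcons χ).trans_eq (if_neg fun hfix => ?_)
          exact Finset.notMem_empty χ (hF ▸ Finset.mem_filter.mpr ⟨hχ, hfix⟩)
      _ = Bs.card := (Finset.card_eq_sum_ones Bs).symm
  -- the block is stable under the sign
  obtain ⟨hηB, hηfix⟩ := Finset.mem_filter.mp hη
  have hstable : ∀ χ ∈ Bs, twistSgn χ ∈ Bs := fun χ hχ => by
    refine Finset.mem_filter.mpr ⟨Finset.mem_univ _, ?_⟩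
    have hη' : η ∈ Bt := (Finset.mem_filter.mp hηB).2
    have hχ' : χ ∈ Bt := (Finset.mem_filter.mp hχ).2
    have h1 := sameBlock_twistSgn (IsPBlock.sameBlock hBtB hη' hχ')
    rw [hηfix] at h1
    exact SameBlock.trans hη' h1
  set w : IrrCharacter (Equiv.Perm (Fin n)) → ℕ := fun χ => if twistSgn χ = χ then 2 else 1 with hw
  have hkey : 2 * Bf.card ≤ Bs.card + 3 * Fx.card := by
    calc 2 * Bf.card = ∑ _θ ∈ Bf, 2 := by rw [Finset.sum_const, smul_eq_mul, mul_comm]
      _ ≤ ∑ θ ∈ Bf, ∑ χ ∈ Bs.filter (R θ), w χ := Finset.sum_le_sum fun θ hθ => by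
          obtain ⟨χ, hχ, hc⟩ := hcover θ hθ
          have hχR : χ ∈ Bs.filter (R θ) := Finset.mem_filter.mpr ⟨hχ, hc⟩
          by_cases hfix : twistSgn χ = χ
          · refine le_trans ?_ (Finset.single_le_sum (fun _ _ => Nat.zero_le _) hχR)
            rw [hw]
            simp only
            rw [if_pos hfix]
          · have hsub : ({χ, twistSgn χ} : Finset _) ⊆ Bs.filter (R θ) := by
              refine Finset.insert_subset hχR (Finset.singleton_subset_iff.mpr
                (Finset.mem_filter.mpr ⟨hstable χ hχ, ?_⟩))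
              rw [hR]
              simp only
              rw [twistSgn_restrict]
              exact hc
            refine le_trans ?_ (Finset.sum_le_sum_of_subset hsub)
            rw [Finset.sum_pair (Ne.symm hfix)]
            have : ∀ ψ, 1 ≤ w ψ := fun ψ => by rw [hw]; simp only; split_ifs <;> omega
            exact Nat.add_le_add (this χ) (this _)
      _ = ∑ χ ∈ Bs, (Bf.filter fun θ => R θ χ).card * w χ := by
          simp only [Finset.sum_filter]
          rw [Finset.sum_comm]
          refine Finset.sum_congr rfl fun χ _ => ?_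
          rw [← Finset.sum_filter, Finset.sum_const, smul_eq_mul]
      _ ≤ ∑ χ ∈ Bs, (1 + if twistSgn χ = χ then 3 else 0) := Finset.sum_le_sum fun χ _ => by
          refine (Nat.mul_le_mul_right _ (hcons χ)).trans ?_
          rw [hw]
          simp only
          split_ifs <;> omega
      _ = Bs.card + 3 * Fx.card := by
          rw [Finset.sum_add_distrib, Finset.sum_const, smul_eq_mul, mul_one, ← Finset.sum_filter,
            ← hFx, Finset.sum_const, smul_eq_mul, mul_comm Fx.card]
  omega

/-- The rank of a block of an alternating group for an odd prime. -/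
theorem blockRank_alt_lt_of_odd (hp : p ≠ 2) {s : ℕ} (hs : SectionalPRankLE p s D) :
    blockRank p B < p ^ s := by
  classical
  have hpp : p.Prime := Fact.out
  obtain ⟨u, hus, -, hcard⟩ := exists_card_alt_le hM hB hD hD1 hp
  refine lt_of_lt_of_le ?_ (hcard.trans (Nat.pow_le_pow_right hpp.pos (hus s hs)))
  have hDp : IsPGroup p D := IsDefectGroup.isPGroup hM hD
  obtain ⟨k, hk, hk'⟩ := (IsPGroup.nontrivial_iff_card hDp).mp ((Subgroup.nontrivial_iff_ne_bot D).mpr hD1)
  obtain ⟨z, hz⟩ := exists_prime_orderOf_dvd_card' p (hk' ▸ dvd_pow_self p hk.ne' : p ∣ Nat.card D)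
  have hord : orderOf (z : alternatingGroup (Fin n)) = p := by rw [Subgroup.orderOf_coe, hz]
  have hsec := card_sections_add_blockRank_le hM hB hD {(z : alternatingGroup (Fin n))}
    (fun x hx => by
      rw [Finset.mem_singleton] at hx
      subst hx
      refine ⟨fun e => ?_, 1, by rw [hord, pow_one]⟩
      rw [e, orderOf_one] at hord
      exact hpp.one_lt.ne hord)
    (fun x hx y hy _ => by rw [Finset.mem_singleton] at hx hy; rw [hx, hy])
    (fun x hx => ⟨1, by
      rw [Finset.mem_singleton] at hx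
      subst hx
      simp⟩)
  rw [Finset.card_singleton] at hsec
  omega

end Odd

end CfsgLib.SymBlock
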