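import Mathlib
import Cfsg.Prelude.Def_Blocks
import Cfsg.Agent.Lib.Char.Clifford
import Cfsg.Agent.Lib.Blocks.Defect

/-!
# Restriction from the symmetric to the alternating group
-/

set_option autoImplicit false
set_option linter.unusedSectionVars false
set_option linter.style.haveILetI false

namespace CfsgLib.SymBlock

open Cfsg CfsgLib.Blocks
open scoped ComplexConjugate CfsgLib.Char

variable {n : ℕ}

/-- A constituent on the alternating group has half the degree exactly for characters fixed by the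
sign. -/
theorem degree_of_constituent (hn : 2 ≤ n) (χ : IrrCharacter (Equiv.Perm (Fin n)))
    (θ : IrrCharacter (alternatingGroup (Fin n)))
    (hcon : classInner (fun a : alternatingGroup (Fin n) => (χ : Equiv.Perm (Fin n) → ℂ) a)
      (θ : alternatingGroup (Fin n) → ℂ) ≠ 0) :
    ((∀ σ, ((Equiv.Perm.sign σ : ℤ) : ℂ) * (χ : Equiv.Perm (Fin n) → ℂ) σ = (χ : Equiv.Perm (Fin n) → ℂ) σ) →
      charDegree (χ : Equiv.Perm (Fin n) → ℂ) = 2 * charDegree (θ : alternatingGroup (Fin n) → ℂ)) ∧
    ((¬ ∀ σ, ((Equiv.Perm.sign σ : ℤ) : ℂ) * (χ : Equiv.Perm (Fin n) → ℂ) σ = (χ : Equiv.Perm (Fin n) → ℂ) σ) →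
      charDegree (χ : Equiv.Perm (Fin n) → ℂ) = charDegree (θ : alternatingGroup (Fin n) → ℂ)) := by
  classical
  haveI : Nontrivial (Fin n) := Fin.nontrivial_iff_two_le.2 hn
  set f : Equiv.Perm (Fin n) → ℂ := (χ : Equiv.Perm (Fin n) → ℂ) with hf
  set e := classInner (fun a : (alternatingGroup (Fin n)) => f a) (θ : (alternatingGroup (Fin n)) → ℂ) with he
  set O := CfsgLib.Char.orbit (alternatingGroup (Fin n)) (θ : (alternatingGroup (Fin n)) → ℂ) with hO
  obtain ⟨k, hk⟩ := CfsgLib.Char.exists_nat_classInner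
    (CfsgLib.Char.isCharacter_restrict (alternatingGroup (Fin n)) (CfsgLib.Char.isCharacter_of_isIrr χ.2))
    (CfsgLib.Char.isCharacter_of_isIrr θ.2)
  have hk' : e = k := hk
  have hk0 : k ≠ 0 := fun h => hcon (by rw [hk', h, Nat.cast_zero])
  have hres : (fun a : (alternatingGroup (Fin n)) => f a) = e • ∑ φ ∈ O, φ := CfsgLib.Char.clifford (alternatingGroup (Fin n)) χ.2 θ.2 hcon
  have hφ : ∀ φ ∈ O, classInner (fun a : (alternatingGroup (Fin n)) => f a) φ = e := fun φ hφ => by
    obtain ⟨g, rfl⟩ := (CfsgLib.Char.mem_orbit (alternatingGroup (Fin n))).1 hφ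
    nth_rw 1 [← CfsgLib.Char.conjBy_restrict (alternatingGroup (Fin n)) (irr_classFunction χ) g]
    exact CfsgLib.Char.classInner_conjBy (alternatingGroup (Fin n)) _ _ g
  have hnorm : classInner (fun a : (alternatingGroup (Fin n)) => f a) (fun a : (alternatingGroup (Fin n)) => f a) = ((k * k * O.card : ℕ) : ℂ) := by
    nth_rw 2 [hres]
    rw [CfsgLib.Char.classInner_smul_right, CfsgLib.Char.classInner_sum_right, Finset.sum_congr rfl hφ,
      Finset.sum_const, nsmul_eq_mul, hk', Complex.conj_natCast]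
    push_cast
    ring
  -- compare with the norm on the whole group
  have hcard : (2 : ℝ) * Nat.card (alternatingGroup (Fin n)) = Nat.card (Equiv.Perm (Fin n)) := by
    have h := two_mul_card_alternatingGroup (α := Fin n)
    rw [← Nat.card_eq_fintype_card, ← Nat.card_eq_fintype_card] at h
    exact_mod_cast h
  have htot : ∑ σ : Equiv.Perm (Fin n), ‖f σ‖ ^ 2 = (2 : ℝ) * Nat.card (alternatingGroup (Fin n)) := by
    have h1 := CfsgLib.Char.classInner_irr_self χ.2
    rw [CfsgLib.Char.classInner_self_eq, Complex.ofReal_eq_one] at h1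
    rw [hcard]
    field_simp at h1
    exact h1
  have hin : ∑ a : (alternatingGroup (Fin n)), ‖f a‖ ^ 2 = (Nat.card (alternatingGroup (Fin n)) : ℝ) * (k * k * O.card : ℕ) := by
    rw [CfsgLib.Char.classInner_self_eq, ← Complex.ofReal_natCast, Complex.ofReal_inj] at hnorm
    rw [← hnorm, ← mul_assoc, mul_inv_cancel₀ (Nat.cast_ne_zero.2 Nat.card_pos.ne'), one_mul]
  have hsplit : ∑ σ : Equiv.Perm (Fin n), ‖f σ‖ ^ 2 = (∑ a : (alternatingGroup (Fin n)), ‖f a‖ ^ 2) +
      ∑ σ ∈ Finset.univ.filter (fun σ => σ ∉ (alternatingGroup (Fin n))), ‖f σ‖ ^ 2 := by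
    rw [← Finset.sum_filter_add_sum_filter_not Finset.univ (fun σ => σ ∈ (alternatingGroup (Fin n)))]
    congr 1
    exact (Finset.sum_subtype _ (by simp) fun σ => ‖f σ‖ ^ 2)
  have hout : (0 : ℝ) ≤ ∑ σ ∈ Finset.univ.filter (fun σ => σ ∉ (alternatingGroup (Fin n))), ‖f σ‖ ^ 2 :=
    Finset.sum_nonneg fun σ _ => by positivity
  have hApos : (0 : ℝ) < Nat.card (alternatingGroup (Fin n)) := Nat.cast_pos.2 Nat.card_pos
  have hle : k * k * O.card ≤ 2 := by
    have h : (Nat.card (alternatingGroup (Fin n)) : ℝ) * (k * k * O.card : ℕ) ≤ Nat.card (alternatingGroup (Fin n)) * (2 : ℕ) := by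
      rw [← hin, Nat.cast_ofNat, mul_comm (Nat.card (alternatingGroup (Fin n)) : ℝ)]
      linarith
    exact_mod_cast le_of_mul_le_mul_left h hApos
  have hO0 : 0 < O.card := Finset.card_pos.2 ⟨_, CfsgLib.Char.self_mem_orbit (alternatingGroup (Fin n)) _⟩
  have hk1 : k = 1 := by
    by_contra h
    have : 2 * 2 * 1 ≤ k * k * O.card := Nat.mul_le_mul (Nat.mul_le_mul (by omega) (by omega)) hO0
    omega
  subst hk1
  simp only [one_mul] at hle hin hnorm
  have hdeg : charDegree f = O.card * charDegree (θ : (alternatingGroup (Fin n)) → ℂ) := by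
    have h := CfsgLib.Char.clifford_degree (alternatingGroup (Fin n)) χ.2 θ.2 hcon
    rw [← hf, ← he, hk', Nat.cast_one, one_mul, hf, (irr_degree_eq χ).1, (irr_degree_eq θ).1,
      ← Nat.cast_mul, Nat.cast_inj] at h
    exact h
  have hfix : (∀ σ, ((Equiv.Perm.sign σ : ℤ) : ℂ) * f σ = f σ) ↔
      ∑ σ ∈ Finset.univ.filter (fun σ => σ ∉ (alternatingGroup (Fin n))), ‖f σ‖ ^ 2 = 0 := by
    rw [Finset.sum_eq_zero_iff_of_nonneg fun σ _ => by positivity]
    constructor
    · intro h σ hσ
      have hs : Equiv.Perm.sign σ = -1 := (Int.units_eq_one_or _).resolve_left (by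
        simpa [Equiv.Perm.mem_alternatingGroup] using (Finset.mem_filter.1 hσ).2)
      have h1 := h σ
      rw [hs] at h1
      simp only [Units.val_neg, Units.val_one, Int.cast_neg, Int.cast_one, neg_one_mul] at h1
      have : f σ = 0 := by linear_combination (-1 / 2 : ℂ) * h1
      simp [this]
    · intro h σ
      by_cases hσ : σ ∈ (alternatingGroup (Fin n))
      · rw [Equiv.Perm.mem_alternatingGroup.1 hσ]; simp
      · have := h σ (Finset.mem_filter.2 ⟨Finset.mem_univ _, hσ⟩)
        rw [pow_eq_zero_iff two_ne_zero, norm_eq_zero] at this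
        simp [this]
  constructor
  · intro h
    rw [hfix] at h
    have h2 : (Nat.card (alternatingGroup (Fin n)) : ℝ) * (O.card : ℕ) = Nat.card (alternatingGroup (Fin n)) * (2 : ℕ) := by
      rw [← hin]; push_cast; linarith
    have : O.card = 2 := by exact_mod_cast mul_left_cancel₀ hApos.ne' h2
    rw [hdeg, this]
  · intro h
    have : O.card = 1 := by
      rcases Nat.lt_or_ge O.card 2 with h2 | h2
      · omega
      exfalso
      refine h (hfix.2 ?_)
      have : O.card = 2 := le_antisymm hle h2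
      rw [this] at hin
      push_cast at hin
      linarith
    rw [hdeg, this, one_mul]

end CfsgLib.SymBlock
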