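import Cfsg.Agent.Lib.SymBlock.Beads

/-!
# Shapes with prescribed content residues
-/

set_option autoImplicit false

namespace CfsgLib.SymBlock

/-- The number of beads on a runner. -/
noncomputable def runnerCount (p : ℕ) (S : Finset ℕ) (r : ZMod p) : ℕ :=
  (S.filter fun s : ℕ => (s : ZMod p) = r).card

theorem runnerCount_endOf (p : ℕ) (r : ZMod p) : ∀ {S : Finset ℕ} {l : List ℕ}, Valid S l →
    runnerCount p (endOf S l) r + (l.map fun a : ℕ => (a : ZMod p)).count r =
      runnerCount p S r + (l.map fun a : ℕ => (a : ZMod p) + 1).count r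
  | S, [], _ => by simp
  | S, a :: l, h => by
    classical
    have ih := runnerCount_endOf p r h.2
    have h1 : (a + 1) ∉ S.erase a := fun hh => h.1.2 (Finset.mem_of_mem_erase hh)
    have hm : runnerCount p (move S a) r + (if (a : ZMod p) = r then 1 else 0) =
        runnerCount p S r + (if (a : ZMod p) + 1 = r then 1 else 0) := by
      simp only [runnerCount, Finset.card_filter]
      rw [move, Finset.sum_insert h1,
        ← Finset.add_sum_erase S (fun i : ℕ => if (i : ZMod p) = r then 1 else 0) h.1.1]
      push_cast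
      omega
    simp only [endOf_cons, List.map_cons, List.count_cons, beq_iff_eq]
    omega

/-- Equal residues of the moved positions give equal runner counts. -/
theorem runnerCount_eq {p : ℕ} [NeZero p] {m u : ℕ} {l l₀ : List ℕ} (hl : Valid (ground m) l)
    (hl₀ : Valid (ground m) l₀)
    (h : ((l.map fun a : ℕ => (a : ZMod p)) : Multiset (ZMod p)) =
      ((l₀.map fun a : ℕ => (a : ZMod p)) : Multiset (ZMod p)) + u • (Finset.univ : Finset (ZMod p)).val)
    (r : ZMod p) :
    runnerCount p (endOf (ground m) l) r = runnerCount p (endOf (ground m) l₀) r := by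
  classical
  have h1 := congrArg (Multiset.map fun x : ZMod p => x + 1) h
  rw [Multiset.map_add, Multiset.map_nsmul] at h1
  have hu : ((Finset.univ : Finset (ZMod p)).val.map fun x : ZMod p => x + 1) = Finset.univ.val :=
    congrArg Finset.val (Finset.map_univ_equiv (Equiv.addRight (1 : ZMod p)))
  rw [hu, Multiset.map_coe, Multiset.map_coe, List.map_map, List.map_map] at h1
  have e0 := congrArg (Multiset.count r) h
  have e1 := congrArg (Multiset.count r) h1
  simp only [Multiset.count_add, Multiset.coe_count, Multiset.count_nsmul, Function.comp_def] at e0 e1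
  have := runnerCount_endOf p r hl
  have := runnerCount_endOf p r hl₀
  omega

/-- The levels on a runner. -/
def levels (p : ℕ) (S : Finset ℕ) (r : ℕ) : Finset ℕ :=
  (S.filter fun s => s % p = r).image fun s => s / p

theorem mem_levels {p : ℕ} (hp : 0 < p) {S : Finset ℕ} {r : ℕ} (hr : r < p) {j : ℕ} :
    j ∈ levels p S r ↔ p * j + r ∈ S := by
  simp only [levels, Finset.mem_image, Finset.mem_filter]
  constructor
  · rintro ⟨s, ⟨hs, rfl⟩, rfl⟩
    rwa [Nat.div_add_mod]
  · intro h
    refine ⟨_, ⟨h, ?_⟩, ?_⟩
    · rw [Nat.mul_add_mod, Nat.mod_eq_of_lt hr]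
    · rw [Nat.mul_add_div hp, Nat.div_eq_of_lt hr, Nat.add_zero]

theorem levels_injOn (p : ℕ) (S : Finset ℕ) (r : ℕ) :
    Set.InjOn (fun s => s / p) (S.filter fun s => s % p = r : Set ℕ) := by
  intro a ha b hb e
  simp only [Finset.coe_filter, Set.mem_setOf_eq] at ha hb
  rw [← Nat.div_add_mod a p, ← Nat.div_add_mod b p, ha.2, hb.2]
  simp only at e
  rw [e]

theorem card_levels {p : ℕ} [NeZero p] (S : Finset ℕ) (r : Fin p) :
    (levels p S r).card = runnerCount p S ((r : ℕ) : ZMod p) := by
  rw [levels, Finset.card_image_of_injOn (levels_injOn p S r), runnerCount]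
  congr 1
  refine Finset.filter_congr fun s _ => ?_
  rw [ZMod.natCast_eq_natCast_iff', Nat.mod_eq_of_lt r.2]

theorem sum_eq_sum_levels {p : ℕ} (hp : 0 < p) (S : Finset ℕ) :
    ∑ s ∈ S, s = ∑ r : Fin p, (p * ∑ j ∈ levels p S r, j + (levels p S r).card * r) := by
  have h : ∀ r : Fin p, p * ∑ j ∈ levels p S r, j + (levels p S r).card * r =
      ∑ s ∈ S with s % p = (r : ℕ), s := by
    intro r
    rw [levels, Finset.sum_image (levels_injOn p S r), Finset.card_image_of_injOn (levels_injOn p S r),
      Finset.mul_sum, Finset.card_eq_sum_ones, Finset.sum_mul, ← Finset.sum_add_distrib]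
    refine Finset.sum_congr rfl fun s hs => ?_
    rw [Finset.mem_filter] at hs
    rw [one_mul, ← hs.2, Nat.div_add_mod]
  rw [Finset.sum_congr rfl fun r _ => h r]
  have key : ∀ s ∈ S, (⟨s % p, Nat.mod_lt _ hp⟩ : Fin p) ∈ (Finset.univ : Finset (Fin p)) :=
    fun _ _ => Finset.mem_univ _
  rw [← Finset.sum_fiberwise_of_maps_to key fun s => s]
  refine Finset.sum_congr rfl fun r _ => ?_
  congr 1
  exact Finset.filter_congr fun s _ => Fin.ext_iff

theorem levels_core {p : ℕ} (hp : 0 < p) {S : Finset ℕ} (hS : IsCore p S) (r : Fin p) :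
    levels p S r = Finset.range (levels p S r).card := by
  have hdown : ∀ j, j + 1 ∈ levels p S r → j ∈ levels p S r := fun j hj => by
    rw [mem_levels hp r.2] at hj ⊢
    have := hS _ hj (by rw [Nat.mul_add, Nat.mul_one]; omega)
    have e : p * (j + 1) + r - p = p * j + r := by rw [Nat.mul_add, Nat.mul_one]; omega
    rwa [e] at this
  refine Finset.eq_of_subset_of_card_le (fun y hy => ?_) (by simp)
  rw [Finset.mem_range]
  have hall : ∀ y, y ∈ levels p S r → ∀ x ≤ y, x ∈ levels p S r := by
    intro y
    induction y with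
    | zero => intro hy x hx; rwa [Nat.le_zero.mp hx]
    | succ y ih =>
      intro hy x hx
      rcases Nat.lt_or_eq_of_le hx with h' | h'
      · exact ih (hdown y hy) x (by omega)
      · rwa [h']
  have := Finset.card_le_card (show Finset.range (y + 1) ⊆ levels p S r from fun x hx =>
    hall y hy x (by simp at hx; omega))
  simp at this
  omega

/-- A bound for the number of partitions with at most `c` parts. -/
def part : ℕ → ℕ → ℕ
  | 0, q => if q = 0 then 1 else 0
  | c + 1, q => part c q + if c + 1 ≤ q then part (c + 1) (q - (c + 1)) else 0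
  termination_by c q => (c, q)

theorem part_zero_right : ∀ c, part c 0 = 1
  | 0 => by rw [part]; rfl
  | c + 1 => by rw [part, part_zero_right c, if_neg (by omega)]

theorem part_succ (c q : ℕ) :
    part (c + 1) q = part c q + if c + 1 ≤ q then part (c + 1) (q - (c + 1)) else 0 := by
  rw [part]

theorem part_mono (c q : ℕ) : part c q ≤ part (c + 1) q := by rw [part_succ]; omega

theorem part_le_of_le {c d : ℕ} (h : c ≤ d) (q : ℕ) : part c q ≤ part d q := by
  induction h with
  | refl => rfl
  | step _ ih => exact ih.trans (part_mono _ q)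

theorem part_stable : ∀ {c q : ℕ}, q ≤ c → part c q = part q q
  | 0, q, h => by rw [Nat.le_zero.mp h]
  | c + 1, q, h => by
    rcases Nat.lt_or_eq_of_le h with h' | h'
    · rw [part_succ, part_stable (Nat.lt_succ_iff.mp h'), if_neg (by omega), Nat.add_zero]
    · rw [h']

theorem part_le_diag (c q : ℕ) : part c q ≤ part q q := by
  rcases Nat.le_total c q with h | h
  · exact part_le_of_le h q
  · exact (part_stable h).le

theorem part_one_left (q : ℕ) : part 1 q = 1 := by
  induction q with
  | zero => exact part_zero_right 1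
  | succ q ih => rw [part_succ, if_pos (by omega), Nat.add_sub_cancel, ih, part]; simp

theorem part_two_left : ∀ q : ℕ, part 2 q = q / 2 + 1
  | 0 => part_zero_right 2
  | 1 => by rw [part_succ, if_neg (by omega), part_one_left]
  | q + 2 => by
    rw [part_succ, if_pos (by omega), part_one_left, Nat.add_sub_cancel, part_two_left q]
    omega

theorem part_rec : ∀ {c q : ℕ}, 2 ≤ c → 2 ≤ q →
    part c q ≤ part c (q - 1) + part c (q - 2) ∧
      (c < q → part c q + 1 ≤ part c (q - 1) + part c (q - 2)) := by
  intro c q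
  induction q using Nat.strong_induction_on generalizing c with
  | _ q ihq =>
    intro hc hq
    induction c, hc using Nat.le_induction with
    | base => simp only [part_two_left]; omega
    | succ c hc ihc =>
      obtain ⟨hw, hs⟩ := ihc
      have e0 := part_succ c q
      have e1 := part_succ c (q - 1)
      have e2 := part_succ c (q - 2)
      rcases Nat.lt_trichotomy q (c + 1) with h | h | h
      · rw [if_neg (by omega)] at e0 e1 e2
        omega
      · rw [if_pos (by omega), show q - (c + 1) = 0 by omega, part_zero_right] at e0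
        rw [if_neg (by omega)] at e1 e2
        have := hs (by omega)
        omega
      · rw [if_pos (by omega)] at e0 e1
        have := hs (by omega)
        rcases Nat.lt_or_ge q (c + 3) with h3 | h3
        · rw [show q - (c + 1) = 1 by omega] at e0
          rw [show q - 1 - (c + 1) = 0 by omega, part_zero_right] at e1
          rw [if_neg (by omega)] at e2
          have e3 := part_succ c 1
          rw [if_neg (by omega)] at e3
          have h4 := part_le_diag c 1
          rw [part_one_left] at h4
          omega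
        · rw [if_pos (by omega)] at e2
          have := (ihq (q - (c + 1)) (by omega) (c := c + 1) (by omega) (by omega)).1
          rw [show q - (c + 1) - 1 = q - 1 - (c + 1) by omega,
            show q - (c + 1) - 2 = q - 2 - (c + 1) by omega] at this
          omega

theorem part_le_fib (c : ℕ) : ∀ q, part c q ≤ Nat.fib (q + 1)
  | 0 => by simp [part_zero_right]
  | 1 => by
    refine (part_le_diag c 1).trans ?_
    rw [part_one_left]
    rfl
  | q + 2 => by
    refine (part_le_of_le (show c ≤ c + 2 by omega) _).trans ?_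
    have h := (part_rec (c := c + 2) (q := q + 2) (by omega) (by omega)).1
    have h1 := part_le_fib (c + 2) (q + 1)
    have h2 := part_le_fib (c + 2) q
    simp only [show q + 2 - 1 = q + 1 by omega, Nat.add_sub_cancel] at h
    rw [show q + 2 + 1 = (q + 1) + 2 by omega, Nat.fib_add_two]
    omega
  termination_by q => q

/-- The candidates for one runner. -/
def runnerSets (c q : ℕ) : Finset (Finset ℕ) :=
  ((Finset.range (c + q)).powersetCard c).filter fun L => ∑ x ∈ L, x = (∑ x ∈ Finset.range c, x) + q

theorem sum_range_le : ∀ (T : Finset ℕ), ∑ x ∈ Finset.range T.card, x ≤ ∑ x ∈ T, x := by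
  intro T
  induction T using Finset.induction_on_max with
  | empty => simp
  | insert a T hlt ih =>
    have hnot : a ∉ T := fun h => lt_irrefl a (hlt a h)
    rw [Finset.card_insert_of_notMem hnot, Finset.sum_range_succ, Finset.sum_insert hnot]
    have : T.card ≤ a := by
      have := Finset.card_le_card (show T ⊆ Finset.range a from fun x hx => Finset.mem_range.mpr (hlt x hx))
      simpa using this
    omega

theorem mem_runnerSets {c q : ℕ} {L : Finset ℕ} :
    L ∈ runnerSets c q ↔ L.card = c ∧ ∑ x ∈ L, x = (∑ x ∈ Finset.range c, x) + q := by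
  simp only [runnerSets, Finset.mem_filter, Finset.mem_powersetCard]
  refine ⟨fun h => ⟨h.1.2, h.2⟩, fun h => ⟨⟨fun a ha => ?_, h.1⟩, h.2⟩⟩
  rw [Finset.mem_range]
  have h1 := sum_range_le (L.erase a)
  rw [Finset.card_erase_of_mem ha, h.1] at h1
  have h2 := Finset.add_sum_erase L (fun x => x) ha
  obtain ⟨k, rfl⟩ : ∃ k, c = k + 1 := ⟨c - 1, by have := Finset.card_pos.mpr ⟨a, ha⟩; omega⟩
  rw [Nat.add_sub_cancel] at h1
  rw [Finset.sum_range_succ] at h
  omega

theorem card_runnerSets_le : ∀ c q, (runnerSets c q).card ≤ part c q := by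
  intro c
  induction c with
  | zero =>
    intro q
    rw [part]
    split_ifs with h
    · exact (Finset.card_le_one.mpr fun a ha b hb => by
        rw [mem_runnerSets, Finset.card_eq_zero] at ha hb
        rw [ha.1, hb.1])
    · rw [Nat.le_zero, Finset.card_eq_zero, Finset.eq_empty_iff_forall_notMem]
      intro L hL
      rw [mem_runnerSets, Finset.card_eq_zero] at hL
      rw [hL.1] at hL
      simp at hL
      omega
  | succ c ihc =>
    intro q
    induction q using Nat.strong_induction_on with
    | _ q ihq =>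
      have hpred : ∀ L : Finset ℕ, 0 ∉ L → Set.InjOn (fun x => x - 1) (L : Set ℕ) := by
        intro L hL a ha b hb e
        simp only [Finset.mem_coe] at ha hb
        have : a ≠ 0 := fun h => hL (h ▸ ha)
        have : b ≠ 0 := fun h => hL (h ▸ hb)
        simp only at e
        omega
      have hshift : ∀ L : Finset ℕ, 0 ∉ L →
          (∑ x ∈ L.image (fun x => x - 1), x) + L.card = ∑ x ∈ L, x := by
        intro L hL
        rw [Finset.sum_image (hpred L hL), Finset.card_eq_sum_ones, ← Finset.sum_add_distrib]
        refine Finset.sum_congr rfl fun x hx => ?_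
        have : x ≠ 0 := fun h => hL (h ▸ hx)
        omega
      have himg : ∀ L L' : Finset ℕ, 0 ∉ L → 0 ∉ L' →
          L.image (fun x => x - 1) = L'.image (fun x => x - 1) → L = L' := by
        intro L L' hL hL' e
        have hback : ∀ T : Finset ℕ, 0 ∉ T → (T.image fun x => x - 1).image (fun x => x + 1) = T := by
          intro T hT
          rw [Finset.image_image]
          refine (Finset.image_congr fun x hx => ?_).trans Finset.image_id'
          have : x ≠ 0 := fun h => hT (h ▸ hx)
          simp only [Function.comp]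
          omega
        rw [← hback L hL, ← hback L' hL', e]
      have hsum : ∑ x ∈ Finset.range (c + 1), x = (∑ x ∈ Finset.range c, x) + c :=
        Finset.sum_range_succ _ _
      rw [part_succ, ← Finset.card_filter_add_card_filter_not (fun L : Finset ℕ => 0 ∈ L)]
      refine Nat.add_le_add ?_ ?_
      · refine le_trans ?_ (ihc q)
        refine Finset.card_le_card_of_injOn (fun L => (L.erase 0).image fun x => x - 1) ?_ ?_
        · intro L hL
          simp only [Finset.mem_coe, Finset.mem_filter, mem_runnerSets] at hL ⊢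
          have hc : (L.erase 0).card = c := by rw [Finset.card_erase_of_mem hL.2]; omega
          refine ⟨by rw [Finset.card_image_of_injOn (hpred _ (Finset.notMem_erase _ _)), hc], ?_⟩
          have h1 := hshift _ (Finset.notMem_erase 0 L)
          have h2 := Finset.add_sum_erase L (fun x => x) hL.2
          omega
        · intro L hL L' hL' e
          simp only [Finset.mem_coe, Finset.mem_filter] at hL hL'
          rw [← Finset.insert_erase hL.2, ← Finset.insert_erase hL'.2,
            himg _ _ (Finset.notMem_erase _ _) (Finset.notMem_erase _ _) e]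
      · have hq : ∀ L ∈ runnerSets (c + 1) q, 0 ∉ L → c + 1 ≤ q ∧
            L.image (fun x => x - 1) ∈ runnerSets (c + 1) (q - (c + 1)) := by
          intro L hL h0
          rw [mem_runnerSets] at hL ⊢
          have h1 := hshift L h0
          have h2 := sum_range_le (L.image fun x => x - 1)
          rw [Finset.card_image_of_injOn (hpred L h0), hL.1] at h2 ⊢
          exact ⟨by omega, rfl, by omega⟩
        split_ifs with h
        · refine le_trans ?_ (ihq (q - (c + 1)) (by omega))
          refine Finset.card_le_card_of_injOn (fun L => L.image fun x => x - 1) ?_ ?_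
          · intro L hL
            simp only [Finset.mem_coe, Finset.mem_filter] at hL ⊢
            exact (hq L hL.1 hL.2).2
          · intro L hL L' hL' e
            simp only [Finset.mem_coe, Finset.mem_filter] at hL hL'
            exact himg L L' hL.2 hL'.2 e
        · rw [Nat.le_zero, Finset.card_eq_zero, Finset.filter_eq_empty_iff]
          intro L hL h0
          exact h (hq L hL h0).1

/-- The number of coloured partitions, with `B` bounding one colour. -/
def conv (B : ℕ → ℕ) : ℕ → ℕ → ℕ
  | 0, u => if u = 0 then 1 else 0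
  | p + 1, u => ∑ q ∈ Finset.range (u + 1), B q * conv B p (u - q)

theorem card_families_le (B : ℕ → ℕ) (hB : ∀ c q, (runnerSets c q).card ≤ B q) :
    ∀ (p : ℕ) (c : Fin p → ℕ) (u : ℕ) (T : Finset (Fin p → Finset ℕ)),
      (∀ Φ ∈ T, (∀ r, (Φ r).card = c r) ∧
        ∑ r, ∑ x ∈ Φ r, x = (∑ r, ∑ x ∈ Finset.range (c r), x) + u) → T.card ≤ conv B p u
  | 0, c, u, T, h => by
    rw [conv]
    split_ifs with hu
    · exact Finset.card_le_one.mpr fun a _ b _ => funext fun r => r.elim0
    · rw [Nat.le_zero, Finset.card_eq_zero, Finset.eq_empty_iff_forall_notMem]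
      intro Φ hΦ
      have := (h Φ hΦ).2
      simp at this
      exact hu this.symm
  | p + 1, c, u, T, h => by
    have hexc : ∀ Φ ∈ T, (∑ x ∈ Finset.range (c 0), x) ≤ ∑ x ∈ Φ 0, x ∧
        (∑ r : Fin p, ∑ x ∈ Finset.range (c r.succ), x) ≤ ∑ r : Fin p, ∑ x ∈ Φ r.succ, x := by
      intro Φ hΦ
      refine ⟨by rw [← (h Φ hΦ).1 0]; exact sum_range_le _, Finset.sum_le_sum fun r _ => ?_⟩
      rw [← (h Φ hΦ).1 r.succ]
      exact sum_range_le _
    have hq : ∀ Φ ∈ T, (∑ x ∈ Φ 0, x) - (∑ x ∈ Finset.range (c 0), x) ∈ Finset.range (u + 1) := by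
      intro Φ hΦ
      have := (h Φ hΦ).2
      rw [Fin.sum_univ_succ, Fin.sum_univ_succ] at this
      have := hexc Φ hΦ
      rw [Finset.mem_range]
      omega
    rw [conv, Finset.card_eq_sum_card_fiberwise hq]
    refine Finset.sum_le_sum fun q hq' => ?_
    refine le_trans ?_ (Nat.mul_le_mul (hB (c 0) q) (card_families_le B hB p (fun r => c r.succ) (u - q)
      ((T.filter fun Φ => (∑ x ∈ Φ 0, x) - (∑ x ∈ Finset.range (c 0), x) = q).image Fin.tail) ?_))
    · rw [← Finset.card_product]
      refine Finset.card_le_card_of_injOn (fun Φ => (Φ 0, Fin.tail Φ)) ?_ ?_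
      · intro Φ hΦ
        simp only [Finset.mem_coe, Finset.mem_filter] at hΦ
        simp only [Finset.mem_coe, Finset.mem_product, mem_runnerSets, Finset.mem_image, Finset.mem_filter]
        have := (hexc Φ hΦ.1).1
        exact ⟨⟨(h Φ hΦ.1).1 0, by omega⟩, Φ, hΦ, rfl⟩
      · intro Φ _ Ψ _ e
        simp only [Prod.mk.injEq] at e
        rw [← Fin.cons_self_tail Φ, ← Fin.cons_self_tail Ψ, e.1, e.2]
    · intro Ψ hΨ
      obtain ⟨Φ, hΦ, rfl⟩ := Finset.mem_image.mp hΨ
      rw [Finset.mem_filter] at hΦ
      refine ⟨fun r => (h Φ hΦ.1).1 r.succ, ?_⟩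
      have := (h Φ hΦ.1).2
      rw [Fin.sum_univ_succ, Fin.sum_univ_succ] at this
      have := hexc Φ hΦ.1
      rw [Finset.mem_range] at hq'
      simp only [Fin.tail]
      omega

theorem conv_mono {B B' : ℕ → ℕ} (h : ∀ q, B q ≤ B' q) : ∀ p u, conv B p u ≤ conv B' p u
  | 0, u => le_rfl
  | p + 1, u => Finset.sum_le_sum fun q _ => Nat.mul_le_mul (h q) (conv_mono h p (u - q))

/-- One colour Fibonacci bound. -/
def fibB (q : ℕ) : ℕ := Nat.fib (q + 1)

theorem conv_fib_zero : ∀ p, conv fibB p 0 = 1
  | 0 => rfl
  | p + 1 => by simp [conv, conv_fib_zero p, fibB]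

theorem conv_fib_one : ∀ p, conv fibB p 1 = p
  | 0 => rfl
  | p + 1 => by
    rw [conv, Finset.sum_range_succ, Finset.sum_range_one]
    simp [conv_fib_zero, conv_fib_one p, fibB]

theorem conv_fib_rec (p u : ℕ) : conv fibB (p + 1) (u + 2) =
    conv fibB (p + 1) (u + 1) + conv fibB (p + 1) u + conv fibB p (u + 2) := by
  have hsplit : ∀ q, fibB (q + 2) = fibB (q + 1) + fibB q := fun q => by
    simp only [fibB]
    rw [show q + 2 + 1 = (q + 1) + 2 by omega, Nat.fib_add_two]
    omega
  simp only [conv]
  rw [Finset.sum_range_succ' _ (u + 2), Finset.sum_range_succ' _ (u + 1), Finset.sum_range_succ' _ (u + 1)]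
  have e : ∀ q, u + 2 - (q + 1 + 1) = u - q := fun q => by omega
  have e' : ∀ q, u + 1 - (q + 1) = u - q := fun q => by omega
  simp only [e, e', hsplit, Nat.add_mul, Finset.sum_add_distrib]
  simp [fibB]
  ring

theorem conv_fib_one_left : ∀ u, conv fibB 1 u = fibB u := by
  intro u
  simp only [conv]
  rw [Finset.sum_eq_single u]
  · simp
  · intro q hq hne
    rw [Finset.mem_range] at hq
    rw [if_neg (by omega), Nat.mul_zero]
  · simp

theorem fib_le_two_pow : ∀ u, Nat.fib (u + 1) ≤ 2 ^ u
  | 0 => by simp
  | 1 => by simp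
  | u + 2 => by
    have h1 := fib_le_two_pow u
    have h2 := fib_le_two_pow (u + 1)
    rw [show u + 2 + 1 = (u + 1) + 2 by omega, Nat.fib_add_two]
    rw [pow_succ, pow_succ] at *
    omega

theorem fib_add_three_le : ∀ t, Nat.fib (t + 4 + 3) ≤ 2 ^ (t + 4)
  | 0 => by decide
  | 1 => by decide
  | t + 2 => by
    have a1 := fib_add_three_le t
    have a2 := fib_add_three_le (t + 1)
    have e : 2 ^ (t + 2 + 4) = 4 * 2 ^ (t + 4) := by rw [show t + 2 + 4 = (t + 4) + 2 by omega, pow_add]; ring
    have e' : 2 ^ (t + 1 + 4) = 2 * 2 ^ (t + 4) := by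
      rw [show t + 1 + 4 = (t + 4) + 1 by omega, pow_succ]; ring
    rw [show t + 1 + 4 + 3 = (t + 4 + 3) + 1 by omega] at a2
    rw [show t + 2 + 4 + 3 = (t + 4 + 3) + 2 by omega, Nat.fib_add_two]
    simp only [Nat.add_assoc, Nat.reduceAdd] at *
    omega

theorem conv_fib_two_bounds : ∀ v, (8 ≤ v → conv fibB 2 v ≤ 2 ^ v) ∧
    (2 ≤ v → 9 * conv fibB 2 v ≤ 5 * 3 ^ v) := by
  intro v
  induction v using Nat.strong_induction_on with
  | _ v ih =>
    rcases Nat.lt_or_ge v 10 with h | h
    · interval_cases v <;> decide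
    · obtain ⟨w, rfl⟩ : ∃ w, v = w + 2 := ⟨v - 2, by omega⟩
      obtain ⟨h1a, h1b⟩ := ih w (by omega)
      obtain ⟨h2a, h2b⟩ := ih (w + 1) (by omega)
      have hrec : conv fibB 2 (w + 2) = conv fibB 2 (w + 1) + conv fibB 2 w + Nat.fib (w + 3) := by
        rw [conv_fib_rec, conv_fib_one_left]; rfl
      have h3 : Nat.fib (w + 3) ≤ 2 ^ w := by
        have := fib_add_three_le (w - 4)
        rwa [Nat.sub_add_cancel (by omega)] at this
      have h4 : 2 ^ w ≤ 3 ^ w := Nat.pow_le_pow_left (by norm_num) w
      have e1 : 2 ^ (w + 1) = 2 * 2 ^ w := by rw [pow_succ]; ring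
      have e2 : 2 ^ (w + 2) = 4 * 2 ^ w := by rw [pow_add]; ring
      have e3 : 3 ^ (w + 1) = 3 * 3 ^ w := by rw [pow_succ]; ring
      have e4 : 3 ^ (w + 2) = 9 * 3 ^ w := by rw [pow_add]; ring
      constructor <;> intro _
      · have := h1a (by omega)
        have := h2a (by omega)
        omega
      · have := h1b (by omega)
        have := h2b (by omega)
        omega

theorem conv_fib_le : ∀ {p : ℕ}, 3 ≤ p → ∀ u, conv fibB p u ≤ p ^ u := by
  intro p hp
  induction p, hp using Nat.le_induction with
  | base =>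
    intro u
    induction u using Nat.strong_induction_on with
    | _ u ih =>
      match u with
      | 0 => simp [conv_fib_zero]
      | 1 => simp [conv_fib_one]
      | w + 2 =>
        rw [conv_fib_rec]
        have := ih w (by omega)
        have := ih (w + 1) (by omega)
        have h := (conv_fib_two_bounds (w + 2)).2 (by omega)
        have e3 : 3 ^ (w + 1) = 3 * 3 ^ w := by rw [pow_succ]; ring
        have e4 : 3 ^ (w + 2) = 9 * 3 ^ w := by rw [pow_add]; ring
        simp only [Nat.reduceAdd] at *
        omega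
  | succ p hp ihp =>
    intro u
    induction u using Nat.strong_induction_on with
    | _ u ih =>
      match u with
      | 0 => simp [conv_fib_zero]
      | 1 => simp [conv_fib_one]
      | w + 2 =>
        rw [conv_fib_rec]
        calc conv fibB (p + 1) (w + 1) + conv fibB (p + 1) w + conv fibB p (w + 2)
            ≤ (p + 1) ^ (w + 1) + (p + 1) ^ w + p ^ (w + 2) :=
              Nat.add_le_add (Nat.add_le_add (ih _ (by omega)) (ih _ (by omega))) (ihp _)
          _ ≤ (p + 1) ^ (w + 1) + (p + 1) ^ w + p ^ 2 * (p + 1) ^ w := by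
              rw [pow_add p w 2, Nat.mul_comm (p ^ w)]
              gcongr
              omega
          _ = ((p + 1) + 1 + p ^ 2) * (p + 1) ^ w := by ring
          _ ≤ (p + 1) ^ 2 * (p + 1) ^ w := Nat.mul_le_mul_right _ (by ring_nf; nlinarith)
          _ = (p + 1) ^ (w + 2) := by ring

theorem conv_part_two {u : ℕ} (hu : 2 ≤ u) : conv (fun q => part q q) 2 u ≤ 2 ^ u + u := by
  rcases Nat.lt_or_ge u 8 with h | h
  · interval_cases u <;> simp [conv, Finset.sum_range_succ, part]
  · exact ((conv_mono (B' := fibB) (fun q => part_le_fib q q) 2 u).trans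
      ((conv_fib_two_bounds u).1 h)).trans (Nat.le_add_right _ _)

/-- The shapes with the runner counts of a core are few. -/
theorem card_shapes_le {p : ℕ} [NeZero p] {m n r u : ℕ} (hnr : n = r + p * u) {S₀ : Finset ℕ}
    (h₀ : IsShape m r S₀) (hcore : IsCore p S₀) (T : Finset (Finset ℕ))
    (hT : ∀ S ∈ T, IsShape m n S ∧ ∀ x, runnerCount p S x = runnerCount p S₀ x)
    (B : ℕ → ℕ) (hB : ∀ c q, (runnerSets c q).card ≤ B q) : T.card ≤ conv B p u := by
  have hp : 0 < p := Nat.pos_of_ne_zero (NeZero.ne p)
  have hc : ∀ S ∈ T, ∀ i : Fin p, (levels p S i).card = (levels p S₀ i).card := fun S hS i => by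
    rw [card_levels, card_levels, (hT S hS).2]
  have hinj : Set.InjOn (fun S => fun i : Fin p => levels p S i) (T : Set (Finset ℕ)) := by
    intro S _ S' _ e
    ext s
    have h := congrArg (fun F : Fin p → Finset ℕ => s / p ∈ F ⟨s % p, Nat.mod_lt _ hp⟩) e
    simp only [mem_levels hp (Nat.mod_lt _ hp), Nat.div_add_mod] at h
    exact Iff.of_eq h
  rw [← Finset.card_image_of_injOn hinj]
  refine card_families_le B hB p (fun i => (levels p S₀ i).card) u _ fun Φ hΦ => ?_
  obtain ⟨S, hS, rfl⟩ := Finset.mem_image.mp hΦ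
  refine ⟨hc S hS, Nat.eq_of_mul_eq_mul_left hp ?_⟩
  have e1 := sum_eq_sum_levels hp S
  have e2 := sum_eq_sum_levels hp S₀
  rw [(hT S hS).1.2, Finset.sum_add_distrib, ← Finset.mul_sum,
    Finset.sum_congr rfl fun (i : Fin p) (_ : i ∈ Finset.univ) =>
      congrArg (· * (i : ℕ)) (hc S hS i)] at e1
  rw [h₀.2, Finset.sum_add_distrib, ← Finset.mul_sum] at e2
  have e3 : ∑ i : Fin p, ∑ x ∈ Finset.range (levels p S₀ i).card, x =
      ∑ i : Fin p, ∑ x ∈ levels p S₀ i, x :=
    Finset.sum_congr rfl fun i _ => by rw [← levels_core hp hcore i]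
  rw [Nat.mul_add, e3]
  simp only at e1 e2 ⊢
  omega

end CfsgLib.SymBlock
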