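import Cfsg.Agent.Lib.SymBlock.Core
import Cfsg.Agent.Lib.SymBlock.Residue

/-!
# The hook valuations of the shapes over a core

The shapes with the runner counts of a core of weight `w`: the valuation of the hook product, its
largest value, and shapes attaining this value and one less.
-/

set_option autoImplicit false

namespace CfsgLib.SymBlock

/-- A bead position with a free position `x` has excess at least the number of beads above `x`. -/
theorem sub_le_excess (x : ℕ) : ∀ (S : Finset ℕ), x ∉ S →
    (∑ y ∈ Finset.range S.card, y) + (S.card - x) ≤ ∑ y ∈ S, y := by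
  intro S
  induction S using Finset.induction_on_max with
  | empty => simp
  | insert a T hlt ih =>
    intro hx
    rw [Finset.mem_insert, not_or] at hx
    have hnot : a ∉ T := fun h => lt_irrefl a (hlt a h)
    rw [Finset.card_insert_of_notMem hnot, Finset.sum_range_succ, Finset.sum_insert hnot]
    have h1 := ih hx.2
    have hle : T.card ≤ a := by
      simpa using Finset.card_le_card (show T ⊆ Finset.range a from fun y hy => Finset.mem_range.mpr (hlt y hy))
    rcases Nat.lt_or_ge x a with h | h
    · have h2 : T.card + 1 ≤ a := by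
        have h3 := Finset.card_le_card (show insert x T ⊆ Finset.range a from fun y hy => by
          rcases Finset.mem_insert.mp hy with rfl | hy
          · exact Finset.mem_range.mpr h
          · exact Finset.mem_range.mpr (hlt y hy))
        rwa [Finset.card_insert_of_notMem hx.2, Finset.card_range] at h3
      omega
    · have : a < x := lt_of_le_of_ne h (fun e => hx.1 e.symm)
      omega

/-- The position with prescribed levels on the runners. -/
def mkShape (p : ℕ) (L : Fin p → Finset ℕ) : Finset ℕ :=
  Finset.univ.biUnion fun q => (L q).image fun j => p * j + q.val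

theorem mem_mkShape {p : ℕ} {L : Fin p → Finset ℕ} {j : ℕ} (q : Fin p) :
    p * j + q.val ∈ mkShape p L ↔ j ∈ L q := by
  simp only [mkShape, Finset.mem_biUnion, Finset.mem_univ, true_and, Finset.mem_image]
  constructor
  · rintro ⟨q', j', hj', e⟩
    have h1 : q' = q := Fin.ext (by
      have := congrArg (· % p) e
      simpa [Nat.mul_add_mod, Nat.mod_eq_of_lt q'.2, Nat.mod_eq_of_lt q.2] using this)
    subst h1
    have h2 : j' = j := Nat.eq_of_mul_eq_mul_left q'.pos (by omega)
    exact h2 ▸ hj'
  · exact fun h => ⟨q, j, h, rfl⟩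

theorem levels_mkShape {p : ℕ} (L : Fin p → Finset ℕ) (q : Fin p) : levels p (mkShape p L) q = L q := by
  ext j
  rw [mem_levels q.pos q.2, mem_mkShape]

theorem card_eq_sum_levels {p : ℕ} (hp : 0 < p) (S : Finset ℕ) :
    S.card = ∑ q : Fin p, (levels p S q).card := by
  rw [Finset.card_eq_sum_card_fiberwise (f := fun s => (⟨s % p, Nat.mod_lt _ hp⟩ : Fin p))
    (t := Finset.univ) fun _ _ => Finset.mem_coe.mpr (Finset.mem_univ _)]
  refine Finset.sum_congr rfl fun q _ => ?_
  rw [levels, Finset.card_image_of_injOn (levels_injOn p S q)]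
  exact congrArg Finset.card (Finset.filter_congr fun s _ => Fin.ext_iff)

theorem gap_count (L : Finset ℕ) :
    (∑ j ∈ L, (Finset.range j \ L).card) + ∑ y ∈ Finset.range L.card, y = ∑ j ∈ L, j := by
  induction L using Finset.induction_on_max with
  | empty => simp
  | insert a T hlt ih =>
    have hnot : a ∉ T := fun h => lt_irrefl a (hlt a h)
    have hsame : ∀ j ∈ T, (Finset.range j \ insert a T) = Finset.range j \ T := fun j hj => by
      ext y
      have := hlt j hj
      simp only [Finset.mem_sdiff, Finset.mem_range, Finset.mem_insert]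
      constructor
      · exact fun h => ⟨h.1, fun h' => h.2 (Or.inr h')⟩
      · rintro ⟨h1, h2⟩
        exact ⟨h1, not_or.mpr ⟨by omega, h2⟩⟩
    have htop : (Finset.range a \ insert a T).card + T.card = a := by
      have e : Finset.range a \ insert a T = Finset.range a \ T := by
        ext y
        simp only [Finset.mem_sdiff, Finset.mem_range, Finset.mem_insert]
        constructor
        · exact fun h => ⟨h.1, fun h' => h.2 (Or.inr h')⟩
        · rintro ⟨h1, h2⟩
          exact ⟨h1, not_or.mpr ⟨by omega, h2⟩⟩
      rw [e, Finset.card_sdiff_of_subset (fun y hy => Finset.mem_range.mpr (hlt y hy)), Finset.card_range]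
      have := Finset.card_le_card (show T ⊆ Finset.range a from fun y hy => Finset.mem_range.mpr (hlt y hy))
      rw [Finset.card_range] at this
      omega
    rw [Finset.sum_insert hnot, Finset.sum_insert hnot, Finset.card_insert_of_notMem hnot,
      Finset.sum_range_succ, Finset.sum_congr rfl fun j hj => congrArg Finset.card (hsame j hj)]
    omega

section Valuation

variable {p : ℕ} [hp : Fact p.Prime]

theorem factorization_prime_mul {d : ℕ} (hd : d ≠ 0) : (p * d).factorization p = 1 + d.factorization p := by
  rw [Nat.factorization_mul hp.out.ne_zero hd, Finsupp.add_apply, hp.out.factorization_self]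

theorem factorization_hookProd (S : Finset ℕ) :
    (hookProd S).factorization p =
      ∑ s ∈ S, ∑ k ∈ Finset.range s \ S, (s - k).factorization p := by
  have h : ∀ s, ∀ k ∈ Finset.range s \ S, s - k ≠ 0 := fun s k hk => by
    have := Finset.mem_range.mp (Finset.mem_sdiff.mp hk).1
    omega
  rw [hookProd, Nat.factorization_prod fun s _ => Finset.prod_ne_zero_iff.mpr (h s),
    Finsupp.finsetSum_apply]
  refine Finset.sum_congr rfl fun s _ => ?_
  rw [Nat.factorization_prod (h s), Finsupp.finsetSum_apply]

/-- The hooks of length divisible by `p` are the hooks on the runners. -/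
theorem factorization_hookProd_levels (S : Finset ℕ) :
    (hookProd S).factorization p =
      ∑ q : Fin p, ((∑ j ∈ levels p S q, (Finset.range j \ levels p S q).card) +
        (hookProd (levels p S q)).factorization p) := by
  have hp0 : 0 < p := hp.out.pos
  rw [factorization_hookProd S, ← Finset.sum_fiberwise_of_maps_to
    (g := fun s => (⟨s % p, Nat.mod_lt _ hp0⟩ : Fin p)) (t := Finset.univ) fun _ _ => Finset.mem_univ _]
  refine Finset.sum_congr rfl fun q _ => ?_
  rw [factorization_hookProd (levels p S q), ← Finset.sum_add_distrib]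
  conv_rhs => rw [levels, Finset.sum_image (levels_injOn p S q)]
  refine Finset.sum_congr (Finset.filter_congr fun s _ => Fin.ext_iff) fun s hs => ?_
  obtain ⟨hsS, hsq⟩ := Finset.mem_filter.mp hs
  rw [show Finset.image (fun s => s / p) (Finset.filter (fun s => s % p = (q : ℕ)) S) = levels p S q from rfl,
    Finset.card_eq_sum_ones, ← Finset.sum_add_distrib]
  have hsum : ∑ k ∈ Finset.range s \ S, (s - k).factorization p =
      ∑ k ∈ (Finset.range s \ S).filter (fun k => k % p = (q : ℕ)), (s - k).factorization p := by
    refine (Finset.sum_subset (Finset.filter_subset _ _) fun k hk hn => ?_).symm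
    rw [Finset.mem_filter] at hn
    have hks := Finset.mem_range.mp (Finset.mem_sdiff.mp hk).1
    refine Nat.factorization_eq_zero_of_not_dvd fun hd => hn ⟨hk, ?_⟩
    have := (Nat.modEq_iff_dvd' hks.le).mpr hd
    rw [this, hsq]
  rw [hsum]
  have hes : p * (s / p) + (q : ℕ) = s := by rw [← hsq]; exact Nat.div_add_mod s p
  refine (Finset.sum_bij (fun i _ => p * i + (q : ℕ)) ?_ ?_ ?_ ?_).symm
  · intro i hi
    obtain ⟨hi1, hi2⟩ := Finset.mem_sdiff.mp hi
    rw [Finset.mem_range] at hi1
    rw [mem_levels hp0 q.2] at hi2
    refine Finset.mem_filter.mpr ⟨Finset.mem_sdiff.mpr ⟨Finset.mem_range.mpr ?_, hi2⟩, ?_⟩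
    · have := (Nat.mul_lt_mul_left hp0).mpr hi1
      omega
    · rw [Nat.mul_add_mod, Nat.mod_eq_of_lt q.2]
  · intro i _ i' _ e
    exact Nat.eq_of_mul_eq_mul_left hp0 (by omega)
  · intro k hk
    obtain ⟨hk1, hk2⟩ := Finset.mem_filter.mp hk
    obtain ⟨hk3, hk4⟩ := Finset.mem_sdiff.mp hk1
    rw [Finset.mem_range] at hk3
    have hek : p * (k / p) + (q : ℕ) = k := by rw [← hk2]; exact Nat.div_add_mod k p
    refine ⟨k / p, Finset.mem_sdiff.mpr ⟨Finset.mem_range.mpr ?_, ?_⟩, hek⟩
    · exact Nat.lt_of_mul_lt_mul_left (a := p) (by omega)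
    · rw [mem_levels hp0 q.2, hek]
      exact hk4
  · intro i hi
    have hi1 := Finset.mem_range.mp (Finset.mem_sdiff.mp hi).1
    have e : s - (p * i + (q : ℕ)) = p * (s / p - i) := by
      rw [Nat.mul_sub]
      omega
    rw [e, factorization_prime_mul (by omega)]

theorem factorization_factorial_mul (w : ℕ) :
    (p * w).factorial.factorization p = w + w.factorial.factorization p := by
  rw [Nat.factorization_def _ hp.out, Nat.factorization_def _ hp.out, padicValNat_factorial_mul]
  omega

theorem factorization_factorial_mul_add (w : ℕ) {d : ℕ} (hd : d < p) :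
    (p * w + d).factorial.factorization p = w + w.factorial.factorization p := by
  rw [← factorization_factorial_mul]
  rw [Nat.factorization_def _ hp.out, Nat.factorization_def _ hp.out, padicValNat_factorial_mul_add w hd]

end Valuation

/-- One row on a runner with `c` beads. -/
def rowSet (c a : ℕ) : Finset ℕ := insert (c - 1 + a) (Finset.range (c - 1))

/-- The shape `(a - 1, 1)` on a runner with `c` beads. -/
def hookSet (c a : ℕ) : Finset ℕ := insert (c + a - 2) (insert (c - 1) (Finset.range (c - 2)))

theorem rowSet_spec {c : ℕ} (a : ℕ) (h : 0 < a → 0 < c) (hc : 0 < c) :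
    IsShape c a (rowSet c a) ∧ hookProd (rowSet c a) = a.factorial := by
  obtain ⟨c, rfl⟩ : ∃ c', c = c' + 1 := ⟨c - 1, by omega⟩
  have hn : c + a ∉ Finset.range c := by simp
  have e : rowSet (c + 1) a = insert (c + a) (Finset.range c) := rfl
  rw [e]
  refine ⟨⟨?_, ?_⟩, ?_⟩
  · rw [Finset.card_insert_of_notMem hn, Finset.card_range]
  · rw [Finset.sum_insert hn, ground, Finset.sum_range_succ]
    omega
  · rw [hookProd, Finset.prod_insert hn, Finset.prod_eq_one (s := Finset.range c), mul_one]
    · have e2 : Finset.range (c + a) \ insert (c + a) (Finset.range c) = Finset.Ico c (c + a) := by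
        ext y
        simp only [Finset.mem_sdiff, Finset.mem_range, Finset.mem_insert, Finset.mem_Ico]
        omega
      rw [e2, Finset.prod_Ico_eq_prod_range, Nat.add_sub_cancel_left, ← Finset.prod_range_add_one_eq_factorial]
      conv_lhs => rw [← Finset.prod_range_reflect]
      refine Finset.prod_congr rfl fun k hk => ?_
      have := Finset.mem_range.mp hk
      omega
    · intro s hs
      rw [Finset.sdiff_eq_empty_iff_subset.mpr, Finset.prod_empty]
      intro y hy
      have := Finset.mem_range.mp hs
      have := Finset.mem_range.mp hy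
      exact Finset.mem_insert_of_mem (Finset.mem_range.mpr (by omega))

theorem hookSet_spec {c a : ℕ} (hc : 2 ≤ c) (ha : 2 ≤ a) :
    IsShape c a (hookSet c a) ∧ hookProd (hookSet c a) = (a - 2).factorial * a := by
  obtain ⟨c, rfl⟩ : ∃ c', c = c' + 2 := ⟨c - 2, by omega⟩
  obtain ⟨a, rfl⟩ : ∃ a', a = a' + 2 := ⟨a - 2, by omega⟩
  have e : hookSet (c + 2) (a + 2) = insert (c + a + 2) (insert (c + 1) (Finset.range c)) := by
    show insert (c + 2 + (a + 2) - 2) (insert (c + 1) (Finset.range c)) = _
    rw [show c + 2 + (a + 2) - 2 = c + a + 2 by omega]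
  rw [e]
  have hn2 : c + 1 ∉ Finset.range c := by simp
  have hn : c + a + 2 ∉ insert (c + 1) (Finset.range c) := by
    simp only [Finset.mem_insert, Finset.mem_range]
    omega
  refine ⟨⟨?_, ?_⟩, ?_⟩
  · rw [Finset.card_insert_of_notMem hn, Finset.card_insert_of_notMem hn2, Finset.card_range]
  · rw [Finset.sum_insert hn, Finset.sum_insert hn2, ground, Finset.sum_range_succ, Finset.sum_range_succ]
    omega
  · rw [hookProd, Finset.prod_insert hn, Finset.prod_insert hn2, Finset.prod_eq_one (s := Finset.range c), mul_one]
    · have e1 : Finset.range (c + a + 2) \ insert (c + a + 2) (insert (c + 1) (Finset.range c)) =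
          insert c (Finset.Ico (c + 2) (c + 2 + a)) := by
        ext y
        simp only [Finset.mem_sdiff, Finset.mem_range, Finset.mem_insert, Finset.mem_Ico]
        omega
      have e2 : Finset.range (c + 1) \ insert (c + a + 2) (insert (c + 1) (Finset.range c)) = {c} := by
        ext y
        simp only [Finset.mem_sdiff, Finset.mem_range, Finset.mem_insert, Finset.mem_singleton]
        omega
      rw [e1, e2, Finset.prod_singleton, Nat.add_sub_cancel_left, mul_one, Finset.prod_insert (by simp),
        Finset.prod_Ico_eq_prod_range, Nat.add_sub_cancel_left, Nat.add_sub_cancel, mul_comm]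
      congr 1
      · rw [← Finset.prod_range_add_one_eq_factorial]
        conv_lhs => rw [← Finset.prod_range_reflect]
        refine Finset.prod_congr rfl fun k hk => ?_
        have := Finset.mem_range.mp hk
        omega
      · omega
    · intro s hs
      rw [Finset.sdiff_eq_empty_iff_subset.mpr, Finset.prod_empty]
      intro y hy
      have := Finset.mem_range.mp hs
      have := Finset.mem_range.mp hy
      exact Finset.mem_insert_of_mem (Finset.mem_insert_of_mem (Finset.mem_range.mpr (by omega)))

/-- One less than the valuation of the multinomial coefficient zero: `p` rows with one carry. -/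
theorem exists_one_carry {p : ℕ} [hp : Fact p.Prime] : ∀ (H : ℕ), 1 ≤ H → ∀ d, d < p →
    (p ∣ H ∨ d + 1 < p ∨ 3 ≤ p) →
    ∃ a : Fin p → ℕ, ∑ q, a q = p * H + d ∧
      (∑ q, (a q).factorial.factorization p) + 1 = (p * H + d).factorial.factorization p ∧
      (p = 2 → ∀ q, 1 ≤ a q) := by
  have hp2 := hp.out.two_le
  intro H
  induction H using Nat.strong_induction_on with
  | _ H ih =>
    intro hH d hd hcond
    by_cases hdvd : p ∣ H
    · obtain ⟨H', rfl⟩ := hdvd
      have hH' : 1 ≤ H' := Nat.pos_of_mul_pos_left hH
      obtain ⟨a, ha, hva, ha2⟩ := ih H' (by nlinarith) hH' 0 hp.out.pos (Or.inr (Or.inl (by omega)))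
      simp only [Nat.add_zero] at ha hva
      refine ⟨fun q => p * a q + if q = ⟨0, hp.out.pos⟩ then d else 0, ?_, ?_, fun h2 q => ?_⟩
      · rw [Finset.sum_add_distrib, ← Finset.mul_sum, ha, Finset.sum_ite_eq' Finset.univ _ fun _ => d,
          if_pos (Finset.mem_univ _)]
      · rw [Finset.sum_congr rfl fun q _ => factorization_factorial_mul_add (a q)
          (show (if q = ⟨0, hp.out.pos⟩ then d else 0) < p by split <;> omega),
          factorization_factorial_mul_add (p * H') hd, Finset.sum_add_distrib, ha]
        omega
      · have h5 := Nat.mul_le_mul_left p (ha2 h2 q)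
        show 1 ≤ p * a q + _
        omega
    · obtain ⟨K, rfl⟩ : ∃ K, H = K + 1 := ⟨H - 1, by omega⟩
      have hval : (p * (K + 1) + d).factorial.factorization p = K + K.factorial.factorization p + 1 := by
        rw [factorization_factorial_mul_add _ hd, Nat.factorial_succ,
          Nat.factorization_mul (by omega) (Nat.factorial_ne_zero K), Finsupp.add_apply,
          Nat.factorization_eq_zero_of_not_dvd hdvd]
        omega
      have hone : ∀ k, k < p → k.factorial.factorization p = 0 := fun k hk =>
        Nat.factorization_eq_zero_of_not_dvd fun h => absurd ((hp.out.dvd_factorial).mp h) (by omega)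
      by_cases hd1 : d + 1 < p
      · refine ⟨fun q => if q = ⟨0, hp.out.pos⟩ then p * K + (d + 1) else 1, ?_, ?_, fun _ q => ?_⟩
        · rw [Finset.sum_ite, Finset.filter_eq' Finset.univ, if_pos (Finset.mem_univ _),
            Finset.filter_ne' Finset.univ, Finset.sum_singleton, Finset.sum_const, smul_eq_mul, mul_one,
            Finset.card_erase_of_mem (Finset.mem_univ _), Finset.card_univ, Fintype.card_fin]
          rw [Nat.mul_succ]
          omega
        · rw [hval, Finset.sum_eq_single (⟨0, hp.out.pos⟩ : Fin p)]
          · beta_reduce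
            rw [if_pos rfl, factorization_factorial_mul_add K hd1]
          · intro q _ hq
            beta_reduce
            rw [if_neg hq, Nat.factorial_one, Nat.factorization_one, Finsupp.zero_apply]
          · simp
        · simp only
          split <;> omega
      · have hp3 : 3 ≤ p := hcond.resolve_left hdvd |>.resolve_left hd1
        let q₀ : Fin p := ⟨0, hp.out.pos⟩
        let q₁ : Fin p := ⟨1, by omega⟩
        let q₂ : Fin p := ⟨2, by omega⟩
        have h01 : q₁ ≠ q₀ := fun h => absurd (congrArg Fin.val h) (by simp [q₀, q₁])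
        have h02 : q₂ ≠ q₀ := fun h => absurd (congrArg Fin.val h) (by simp [q₀, q₂])
        have h12 : q₂ ≠ q₁ := fun h => absurd (congrArg Fin.val h) (by simp [q₁, q₂])
        refine ⟨fun q => if q = q₀ then p * K + 1 else if q = q₁ then d else if q = q₂ then d else 0, ?_, ?_,
          fun h2 => absurd h2 (by omega)⟩
        · rw [Finset.sum_congr rfl (fun q _ => show (if q = q₀ then p * K + 1 else if q = q₁ then d else if q = q₂ then d else 0) =
              ((if q = q₀ then p * K + 1 else 0) + (if q = q₁ then d else 0)) + (if q = q₂ then d else 0) from ?_),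
            Finset.sum_add_distrib, Finset.sum_add_distrib, Finset.sum_ite_eq', Finset.sum_ite_eq',
            Finset.sum_ite_eq', if_pos (Finset.mem_univ _), if_pos (Finset.mem_univ _), if_pos (Finset.mem_univ _),
            Nat.mul_succ]
          · omega
          · split_ifs <;> first | omega | (subst_vars; first | omega | exact absurd rfl h01 | exact absurd rfl h02 | exact absurd rfl h12)
        · rw [hval, Finset.sum_eq_single q₀]
          · beta_reduce
            rw [if_pos rfl, factorization_factorial_mul_add K (by omega)]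
          · intro q _ hq
            beta_reduce
            rw [if_neg hq]
            split
            · exact hone d hd
            · split
              · exact hone d hd
              · exact hone 0 hp.out.pos
          · simp

section Main

variable {p : ℕ} [Fact p.Prime] {m n r w : ℕ} {S₀ : Finset ℕ}

theorem levels_card_eq {S : Finset ℕ} (hrun : ∀ x : ZMod p, runnerCount p S x = runnerCount p S₀ x) (q : Fin p) :
    (levels p S q).card = (levels p S₀ q).card := by
  rw [card_levels, card_levels, hrun]

/-- The weights on the runners add up to the weight. -/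
theorem levels_shapes (h0 : IsShape m r S₀) (hc : IsCore p S₀) (hn : n = r + p * w) {S : Finset ℕ}
    (hS : IsShape m n S) (hrun : ∀ x : ZMod p, runnerCount p S x = runnerCount p S₀ x) :
    ∃ a : Fin p → ℕ, ∑ q, a q = w ∧
      ∀ q : Fin p, IsShape (levels p S₀ q).card (a q) (levels p S q) := by
  have hp : 0 < p := (Fact.out : p.Prime).pos
  have hle : ∀ q : Fin p, ∑ y ∈ Finset.range (levels p S₀ q).card, y ≤ ∑ y ∈ levels p S q, y := fun q => by
    rw [← levels_card_eq hrun q]
    exact sum_range_le _
  refine ⟨fun q => (∑ y ∈ levels p S q, y) - ∑ y ∈ Finset.range (levels p S₀ q).card, y, ?_, fun q =>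
    ⟨levels_card_eq hrun q, (Nat.add_sub_of_le (hle q)).symm⟩⟩
  refine Nat.eq_of_mul_eq_mul_left hp ?_
  have e1 := sum_eq_sum_levels hp S
  have e2 := sum_eq_sum_levels hp S₀
  rw [hS.2, Finset.sum_add_distrib, ← Finset.mul_sum,
    Finset.sum_congr rfl fun (i : Fin p) (_ : i ∈ Finset.univ) =>
      congrArg (· * (i : ℕ)) (levels_card_eq hrun i)] at e1
  rw [h0.2, Finset.sum_add_distrib, ← Finset.mul_sum] at e2
  have e3 : ∑ i : Fin p, ∑ y ∈ Finset.range (levels p S₀ i).card, y =
      ∑ i : Fin p, ∑ y ∈ levels p S₀ i, y :=
    Finset.sum_congr rfl fun i _ => by rw [← levels_core hp hc i]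
  rw [Finset.sum_tsub_distrib _ fun q _ => hle q, e3, Nat.mul_sub]
  simp only at e1 e2
  omega

/-- The valuation of a hook product over a core. -/
theorem factorization_hookProd_shape (h0 : IsShape m r S₀) (hc : IsCore p S₀) (hn : n = r + p * w) {S : Finset ℕ}
    (hS : IsShape m n S) (hrun : ∀ x : ZMod p, runnerCount p S x = runnerCount p S₀ x) :
    (hookProd S).factorization p = w + ∑ q : Fin p, (hookProd (levels p S q)).factorization p := by
  obtain ⟨a, ha, hsh⟩ := levels_shapes h0 hc hn hS hrun
  rw [factorization_hookProd_levels S, Finset.sum_add_distrib, ← ha]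
  refine congrArg (· + _) (Finset.sum_congr rfl fun q _ => ?_)
  have h1 := gap_count (levels p S q)
  have h2 := (hsh q).2
  rw [(hsh q).1, ground] at *
  omega

/-- The product of the hook products on the runners divides `w!`. -/
theorem prod_hookProd_levels_dvd (h0 : IsShape m r S₀) (hc : IsCore p S₀) (hn : n = r + p * w) {S : Finset ℕ}
    (hS : IsShape m n S) (hrun : ∀ x : ZMod p, runnerCount p S x = runnerCount p S₀ x) :
    ∏ q : Fin p, hookProd (levels p S q) ∣ w.factorial := by
  obtain ⟨a, ha, hsh⟩ := levels_shapes h0 hc hn hS hrun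
  refine dvd_trans (Finset.prod_dvd_prod_of_dvd _ _ fun q _ => Dvd.intro_left _ (card_tab_mul_hookProd (hsh q))) ?_
  rw [← ha]
  exact Nat.prod_factorial_dvd_factorial_sum _ _

/-- The largest valuation of a hook product over a core. -/
theorem factorization_hookProd_le (h0 : IsShape m r S₀) (hc : IsCore p S₀) (hn : n = r + p * w) {S : Finset ℕ}
    (hS : IsShape m n S) (hrun : ∀ x : ZMod p, runnerCount p S x = runnerCount p S₀ x) :
    (hookProd S).factorization p ≤ (p * w).factorial.factorization p := by
  rw [factorization_hookProd_shape h0 hc hn hS hrun, factorization_factorial_mul, Nat.add_le_add_iff_left,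
    ← Finsupp.finsetSum_apply, ← Nat.factorization_prod fun q _ => (hookProd_pos _).ne']
  exact (Nat.factorization_le_iff_dvd (Finset.prod_ne_zero_iff.mpr fun q _ => (hookProd_pos _).ne')
    (Nat.factorial_ne_zero w)).mpr (prod_hookProd_levels_dvd h0 hc hn hS hrun) p

/-- Each runner of the core has at least `w` beads. -/
theorem le_card_levels (h0 : IsShape m r S₀) (hn : n = r + p * w) (hm : n ≤ m) (q : Fin p) :
    w ≤ (levels p S₀ q).card := by
  rw [← Finset.card_range w]
  refine Finset.card_le_card fun j hj => ?_
  rw [mem_levels (Fact.out : p.Prime).pos q.2]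
  by_contra hx
  have h1 := sub_le_excess _ _ hx
  rw [h0.1, h0.2, ground] at h1
  have h2 : p * (j + 1) ≤ p * w := Nat.mul_le_mul_left p (Finset.mem_range.mp hj)
  rw [Nat.mul_succ] at h2
  have := q.2
  omega

/-- A shape with prescribed runners over the core. -/
theorem mkShape_spec (h0 : IsShape m r S₀) (hc : IsCore p S₀) (hn : n = r + p * w) (L : Fin p → Finset ℕ)
    (a : Fin p → ℕ) (ha : ∑ q, a q = w) (hL : ∀ q : Fin p, IsShape (levels p S₀ q).card (a q) (L q)) :
    IsShape m n (mkShape p L) ∧ (∀ x : ZMod p, runnerCount p (mkShape p L) x = runnerCount p S₀ x) ∧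
      (hookProd (mkShape p L)).factorization p = w + ∑ q : Fin p, (hookProd (L q)).factorization p := by
  have hp : 0 < p := (Fact.out : p.Prime).pos
  have hcard : ∀ q : Fin p, (L q).card = (levels p S₀ q).card := fun q => (hL q).1
  have hrun : ∀ x : ZMod p, runnerCount p (mkShape p L) x = runnerCount p S₀ x := fun x => by
    haveI : NeZero p := ⟨hp.ne'⟩
    have h := card_levels (mkShape p L) (⟨x.val, x.val_lt⟩ : Fin p)
    rw [levels_mkShape, hcard, card_levels] at h
    simpa using h.symm
  have hshape : IsShape m n (mkShape p L) := by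
    constructor
    · rw [card_eq_sum_levels hp, ← h0.1, card_eq_sum_levels hp S₀]
      exact Finset.sum_congr rfl fun q _ => by rw [levels_mkShape, hcard]
    · have e2 := h0.2
      rw [sum_eq_sum_levels hp S₀, Finset.sum_add_distrib, ← Finset.mul_sum] at e2
      rw [sum_eq_sum_levels hp, Finset.sum_add_distrib, ← Finset.mul_sum]
      have e4 : ∑ q : Fin p, ∑ y ∈ levels p (mkShape p L) q, y = (∑ q : Fin p, ∑ y ∈ levels p S₀ q, y) + w := by
        rw [← ha, ← Finset.sum_add_distrib]
        refine Finset.sum_congr rfl fun q _ => ?_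
        rw [levels_mkShape, (hL q).2, ground, ← levels_core hp hc q]
      have e5 : ∑ q : Fin p, (levels p (mkShape p L) q).card * (q : ℕ) =
          ∑ q : Fin p, (levels p S₀ q).card * (q : ℕ) :=
        Finset.sum_congr rfl fun q _ => by rw [levels_mkShape, hcard]
      rw [e4, e5, Nat.mul_add]
      omega
  refine ⟨hshape, hrun, ?_⟩
  rw [factorization_hookProd_shape h0 hc hn hshape hrun]
  exact congrArg (w + ·) (Finset.sum_congr rfl fun q _ => by rw [levels_mkShape])

/-- A shape over the core of height zero. -/
theorem exists_shape_height_zero (h0 : IsShape m r S₀) (hc : IsCore p S₀) (hn : n = r + p * w) (hm : n ≤ m) :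
    ∃ S, IsShape m n S ∧ (∀ x : ZMod p, runnerCount p S x = runnerCount p S₀ x) ∧
      (hookProd S).factorization p = (p * w).factorial.factorization p := by
  have hp : 0 < p := (Fact.out : p.Prime).pos
  rcases Nat.eq_zero_or_pos w with rfl | hw
  · have hnr : n = r := by simpa using hn
    subst hnr
    refine ⟨S₀, h0, fun _ => rfl, ?_⟩
    have h := factorization_hookProd_le (w := 0) h0 hc hn h0 fun _ => rfl
    rw [Nat.mul_zero, Nat.factorial_zero, Nat.factorization_one, Finsupp.zero_apply] at h ⊢
    omega
  let q₀ : Fin p := ⟨0, hp⟩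
  let a : Fin p → ℕ := fun q => if q = q₀ then w else 0
  have hsum : ∑ q, a q = w := by simp [a]
  have hpos : ∀ q : Fin p, 0 < (levels p S₀ q).card := fun q => by
    have := le_card_levels h0 hn hm q
    omega
  obtain ⟨h1, h2, h3⟩ := mkShape_spec h0 hc hn (fun q => rowSet (levels p S₀ q).card (a q)) a hsum
    fun q => (rowSet_spec (a q) (fun _ => hpos q) (hpos q)).1
  refine ⟨_, h1, h2, ?_⟩
  rw [h3, factorization_factorial_mul]
  refine congrArg (w + ·) ((Finset.sum_eq_single q₀ (fun q _ hq => ?_) (by simp)).trans ?_)
  · rw [(rowSet_spec (a q) (fun _ => hpos q) (hpos q)).2, show a q = 0 from if_neg hq, Nat.factorial_zero,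
      Nat.factorization_one, Finsupp.zero_apply]
  · rw [(rowSet_spec (a q₀) (fun _ => hpos q₀) (hpos q₀)).2, show a q₀ = w from if_pos rfl]

/-- A shape over the core of height one; for `p = 2` it is not self-conjugate. -/
theorem exists_shape_height_one (h0 : IsShape m r S₀) (hc : IsCore p S₀) (hn : n = r + p * w) (hm : n ≤ m)
    (hpw : p ≤ w) (h3 : p = 2 → 3 ≤ w) :
    ∃ S, IsShape m n S ∧ (∀ x : ZMod p, runnerCount p S x = runnerCount p S₀ x) ∧
      (hookProd S).factorization p + 1 = (p * w).factorial.factorization p ∧
      (p = 2 → ¬ ∀ x < 2 * m, (x ∈ S ↔ 2 * m - 1 - x ∉ S)) := by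
  have hp : p.Prime := Fact.out
  have hp0 := hp.pos
  have hpos : ∀ q : Fin p, w ≤ (levels p S₀ q).card := le_card_levels h0 hn hm
  have hwd := Nat.div_add_mod w p
  have hH : 1 ≤ w / p := (Nat.one_le_div_iff hp0).mpr hpw
  have hd := Nat.mod_lt w hp0
  have hflip : ∀ (L : Fin p → Finset ℕ), p = 2 → ∀ (u v : Fin p), u ≠ v → ∀ i j, i + j + 1 = m →
      ((i ∈ L u ∧ j ∈ L v) ∨ (i ∉ L u ∧ j ∉ L v)) →
      ¬ ∀ x < 2 * m, (x ∈ mkShape p L ↔ 2 * m - 1 - x ∉ mkShape p L) := by
    intro L hp2 u v huv i j hij hcase hall
    have hu := u.2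
    have hv := v.2
    have huv' : (u : ℕ) ≠ v := fun e => huv (Fin.ext e)
    have hx := hall (p * i + u) (by subst hp2; omega)
    rw [show 2 * m - 1 - (p * i + (u : ℕ)) = p * j + (v : ℕ) by subst hp2; omega, mem_mkShape,
      mem_mkShape] at hx
    tauto
  have hm2 : p = 2 → ∀ u v : Fin p, u ≠ v → (levels p S₀ u).card + (levels p S₀ v).card = m := by
    intro hp2 u v huv
    subst hp2
    rw [← h0.1, card_eq_sum_levels hp0 S₀, Fin.sum_univ_two]
    fin_cases u <;> fin_cases v <;> first | exact absurd rfl huv | rfl | exact Nat.add_comm _ _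
  by_cases hspec : p = 2 ∧ w % p = 1 ∧ ¬ p ∣ w / p
  · obtain ⟨hp2, hd1, hH1⟩ := hspec
    have hw3 := h3 hp2
    let q₀ : Fin p := ⟨0, hp0⟩
    let q₁ : Fin p := ⟨1, by omega⟩
    have h01 : q₀ ≠ q₁ := fun h => absurd (congrArg Fin.val h) (by simp [q₀, q₁])
    let L : Fin p → Finset ℕ := fun q =>
      if q = q₀ then hookSet (levels p S₀ q).card w else Finset.range (levels p S₀ q).card
    have hL : ∀ q : Fin p, IsShape (levels p S₀ q).card (if q = q₀ then w else 0) (L q) := fun q => by
      by_cases hq : q = q₀
      · simp only [L, if_pos hq]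
        exact (hookSet_spec (by have := hpos q; omega) (by omega)).1
      · simp only [L, if_neg hq]
        exact ⟨Finset.card_range _, by simp⟩
    obtain ⟨h1, h2, h4⟩ := mkShape_spec h0 hc hn L _ (by simp) hL
    refine ⟨_, h1, h2, ?_, fun _ => ?_⟩
    · rw [h4, factorization_factorial_mul, Nat.add_assoc]
      refine congrArg (w + ·) ?_
      rw [Finset.sum_eq_single q₀]
      · rw [show L q₀ = hookSet (levels p S₀ q₀).card w from if_pos rfl,
          (hookSet_spec (by have := hpos q₀; omega) (by omega)).2]
        obtain ⟨u, rfl⟩ : ∃ u, w = u + 2 := ⟨w - 2, by omega⟩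
        rw [Nat.add_sub_cancel, Nat.factorial_succ, Nat.factorial_succ,
          Nat.factorization_mul (Nat.factorial_ne_zero u) (by omega),
          Nat.factorization_mul (by omega) (Nat.mul_ne_zero (by omega) (Nat.factorial_ne_zero u)),
          Nat.factorization_mul (by omega) (Nat.factorial_ne_zero u)]
        simp only [Finsupp.add_apply]
        have h5 : (u + 1).factorization p = 1 := by
          have h6 := Nat.div_add_mod (u + 2) p
          rw [hd1] at h6
          rw [show u + 1 = p * ((u + 2) / p) by omega, factorization_prime_mul (by omega),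
            Nat.factorization_eq_zero_of_not_dvd hH1]
        simp only [show u + 1 + 1 = u + 2 from rfl]
        omega
      · intro q _ hq
        rw [show L q = Finset.range (levels p S₀ q).card from if_neg hq]
        have hs := card_tab_mul_hookProd (m := (levels p S₀ q).card) (r := 0)
          (S := Finset.range (levels p S₀ q).card) ⟨Finset.card_range _, by simp⟩
        rw [Nat.factorial_zero] at hs
        rw [Nat.eq_one_of_mul_eq_one_left hs, Nat.factorization_one, Finsupp.zero_apply]
      · simp
    · have hsum := hm2 hp2 q₀ q₁ h01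
      have hc0 := hpos q₀
      have hc1 := hpos q₁
      refine hflip L hp2 q₀ q₁ h01 ((levels p S₀ q₀).card + w - 2) ((levels p S₀ q₁).card + 1 - w)
        (by omega) (Or.inl ⟨?_, ?_⟩)
      · rw [show L q₀ = hookSet (levels p S₀ q₀).card w from if_pos rfl]
        exact Finset.mem_insert_self _ _
      · rw [show L q₁ = Finset.range (levels p S₀ q₁).card from if_neg h01.symm, Finset.mem_range]
        omega
  · obtain ⟨a, ha, hva, ha2⟩ := exists_one_carry (p := p) (w / p) hH (w % p) hd (by
      by_cases h : p ∣ w / p
      · exact Or.inl h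
      · rcases Nat.lt_or_ge p 3 with h' | h'
        · right; left
          have : p = 2 := by have := hp.two_le; omega
          have : w % p ≠ 1 := fun e => hspec ⟨this, e, h⟩
          omega
        · exact Or.inr (Or.inr h'))
    rw [hwd] at ha hva
    obtain ⟨h1, h2, h4⟩ := mkShape_spec h0 hc hn (fun q => rowSet (levels p S₀ q).card (a q)) a ha
      fun q => (rowSet_spec (a q) (fun _ => by have := hpos q; omega) (by have := hpos q; omega)).1
    refine ⟨_, h1, h2, ?_, fun hp2 => ?_⟩
    · rw [h4, factorization_factorial_mul, Nat.add_assoc, ← hva]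
      refine congrArg (fun k => w + (k + 1)) (Finset.sum_congr rfl fun q _ => ?_)
      rw [(rowSet_spec (a q) (fun _ => by have := hpos q; omega) (by have := hpos q; omega)).2]
    · obtain ⟨u, hu⟩ : ∃ u, 2 ≤ a u := by
        by_contra hcon
        push Not at hcon
        have : ∑ q, a q ≤ ∑ _q : Fin p, 1 := Finset.sum_le_sum fun q _ => by have := hcon q; omega
        rw [ha, Finset.sum_const, Finset.card_univ, Fintype.card_fin, smul_eq_mul, mul_one] at this
        have := h3 hp2
        omega
      obtain ⟨v, hv⟩ : ∃ v : Fin p, u ≠ v := by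
        obtain ⟨v, hv⟩ := Fintype.exists_ne_of_one_lt_card (by rw [Fintype.card_fin]; exact hp.one_lt) u
        exact ⟨v, hv.symm⟩
      have hva' := ha2 hp2 v
      have hsum := hm2 hp2 u v hv
      have hcu := hpos u
      have hcv := hpos v
      refine hflip _ hp2 u v hv (levels p S₀ u).card ((levels p S₀ v).card - 1) (by omega) (Or.inr ⟨?_, ?_⟩) <;>
      · simp only [rowSet, Finset.mem_insert, Finset.mem_range]
        omega

end Main

end CfsgLib.SymBlock
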