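import Cfsg.Agent.Lib.SymBlock.Murphy
import Cfsg.Agent.Lib.SymBlock.AltRestrict
import Cfsg.Agent.Lib.SymBlock.AltOdd
import Cfsg.Agent.Lib.SymBlock.HeightShapes
import Cfsg.Agent.Lib.Blocks.Sections
import Cfsg.Agent.Lib.Char.OddDegreeSum

/-!
# Heights in the blocks of alternating groups

A block of the alternating group is covered by a block of the symmetric group whose members are the
shapes over one core.  The heights of both blocks are read off the hook products.
-/

set_option autoImplicit false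
set_option linter.unusedSectionVars false
set_option linter.style.haveILetI false

namespace CfsgLib.SymBlock

open Cfsg CfsgLib.Blocks
open scoped ComplexConjugate CfsgLib.Char

variable {p : ℕ} [Fact p.Prime] {n m : ℕ}

theorem charDegree_semiChar (S : {S : Finset ℕ // IsShape m n S}) :
    charDegree (semiChar S : Equiv.Perm (Fin n) → ℂ) = Nat.card (Tab m n S.1) := by
  have h : (semiChar S : Equiv.Perm (Fin n) → ℂ) 1 = (Nat.card (Tab m n S.1) : ℂ) := by
    rw [Nat.card_eq_fintype_card]
    show (seminormal m n S.1).character 1 = _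
    rw [Representation.char_one, Module.finrank_finsupp_self]
  rw [charDegree, h, Complex.natCast_re, Nat.floor_natCast]

theorem factorization_charDegree_semiChar (S : {S : Finset ℕ // IsShape m n S}) :
    (charDegree (semiChar S : Equiv.Perm (Fin n) → ℂ)).factorization p +
      (hookProd S.1).factorization p = n.factorial.factorization p := by
  have h := card_tab_mul_hookProd S.2
  have hne : Nat.card (Tab m n S.1) * hookProd S.1 ≠ 0 := h ▸ Nat.factorial_ne_zero n
  rw [charDegree_semiChar, ← h, Nat.factorization_mul (left_ne_zero_of_mul hne)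
    (right_ne_zero_of_mul hne), Finsupp.add_apply]

/-- Equal runner counts give equal residues of the moved positions. -/
theorem residues_eq_of_runnerCount (S S' : {S : Finset ℕ // IsShape m n S})
    (h : ∀ x : ZMod p, runnerCount p S.1 x = runnerCount p S'.1 x) :
    (((someTab S).1.map fun a : ℕ => (a : ZMod p)) : Multiset (ZMod p)) =
      (((someTab S').1.map fun a : ℕ => (a : ZMod p)) : Multiset (ZMod p)) := by
  classical
  haveI : NeZero p := ⟨(Fact.out : p.Prime).ne_zero⟩
  set R : {S : Finset ℕ // IsShape m n S} → Multiset (ZMod p) :=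
    fun T => (((someTab T).1.map fun a : ℕ => (a : ZMod p)) : Multiset (ZMod p)) with hR
  have hbal : ∀ (T : {S : Finset ℕ // IsShape m n S}) (x : ZMod p),
      runnerCount p T.1 x + (R T).count x = runnerCount p (ground m) x + (R T).count (x - 1) := by
    intro T x
    have h1 := runnerCount_endOf p x (someTab T).2.2.1
    rw [(someTab T).2.2.2] at h1
    simp only [hR, Multiset.coe_count]
    rw [h1]
    congr 1
    have h2 := List.count_map_of_injective ((someTab T).1.map fun a : ℕ => (a : ZMod p))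
      (fun y : ZMod p => y + 1) (add_left_injective (1 : ZMod p)) (x - 1)
    rw [List.map_map, sub_add_cancel] at h2
    exact h2
  set f : ZMod p → ℤ := fun x => ((R S).count x : ℤ) - ((R S').count x : ℤ) with hf
  have hstep : ∀ x : ZMod p, f (x + 1) = f x := fun x => by
    have h1 := hbal S (x + 1)
    have h2 := hbal S' (x + 1)
    rw [add_sub_cancel_right] at h1 h2
    have h3 := h (x + 1)
    simp only [hf]
    omega
  have hnat : ∀ k : ℕ, f (k : ZMod p) = f 0 := fun k => by
    induction k with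
    | zero => rw [Nat.cast_zero]
    | succ k ih => rw [Nat.cast_succ, hstep, ih]
  have hconst : ∀ x : ZMod p, f x = f 0 := fun x => by
    have := hnat x.val
    rwa [ZMod.natCast_zmod_val] at this
  have hlen : ∀ T, ∑ x : ZMod p, ((R T).count x : ℤ) = n := fun T => by
    rw [← Nat.cast_sum, Multiset.sum_count_eq_card fun a _ => Finset.mem_univ a]
    simp [hR, (someTab T).2.1]
  have hsum : ∑ x : ZMod p, f x = 0 := by
    simp only [hf, Finset.sum_sub_distrib, hlen, sub_self]
  rw [Finset.sum_congr rfl fun x _ => hconst x, Finset.sum_const, Finset.card_univ, ZMod.card,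
    smul_eq_zero] at hsum
  have hf0 := hsum.resolve_left (Fact.out : p.Prime).ne_zero
  refine Multiset.ext.mpr fun x => ?_
  have := hconst x
  rw [hf0] at this
  simp only [hf, sub_eq_zero] at this
  exact_mod_cast this

variable {M : Ideal AlgInt} (hM : IsPModular p M)
  {B : Set (IrrCharacter (alternatingGroup (Fin n)))} (hB : IsPBlock M B)
  {D : Subgroup (alternatingGroup (Fin n))} (hD : IsDefectGroup p M B D)
include hM hB hD

/-- With trivial defect group all heights are zero. -/
theorem blockHeight_eq_zero_of_eq_bot (hD1 : D = ⊥) :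
    ∀ θ ∈ B, blockHeight p B (θ : alternatingGroup (Fin n) → ℂ) = 0 := by
  intro θ hθ
  have hd : blockDefect p B = 0 := by
    have h := IsDefectGroup.card_eq hM hB hD
    rw [hD1, Subgroup.card_bot] at h
    rcases Nat.pow_eq_one.mp h.symm with h' | h'
    · exact absurd h' (Fact.out : p.Prime).one_lt.ne'
    · exact h'
  rw [blockHeight_eq_zero_iff hM hB hθ, hd, Nat.sub_zero]
  refine le_antisymm ?_ ?_
  · exact (Nat.factorization_le_iff_dvd (irr_degree_eq θ).2.ne' Nat.card_pos.ne').mpr
      (CfsgLib.Char.OddDegreeSum.charDegree_dvd_card θ) p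
  · have := (blockDefect_le_and_degree hM hB).2.2.1 θ hθ
    rwa [hd, Nat.sub_zero] at this

/-- The covering block of the symmetric group and the heights it gives. -/
theorem exists_alt_block_data (hD1 : D ≠ ⊥) :
    ∃ (u r : ℕ) (e : (Fin u × ZMod p) ⊕ Fin r ≃ Fin n) (g : Equiv.Perm (Fin n))
      (Dt : Subgroup (Equiv.Perm (Fin n))),
      1 ≤ u ∧ ¬ p ∣ orderOf g ∧ IsSylowCent p g Dt ∧
      (p ≠ 2 → Dt ≤ alternatingGroup (Fin n)) ∧
      Nonempty (D ≃* ↥(Dt ⊓ alternatingGroup (Fin n))) ∧
      (∃ c : Equiv.Perm (Fin n), (cycleSub e).map (MulAut.conj c).toMonoidHom ≤ Dt) ∧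
      Nat.card Dt = p ^ (p * u).factorial.factorization p ∧
      Nat.card D = p ^ ((p * u).factorial.factorization p - Nat.factorization 2 p) ∧
      (u < p → ∀ θ ∈ B, blockHeight p B (θ : alternatingGroup (Fin n) → ℂ) = 0) ∧
      (p ≤ u → (p = 2 → 3 ≤ u) →
        ∃ θ ∈ B, blockHeight p B (θ : alternatingGroup (Fin n) → ℂ) = 1) := by
  classical
  have := isPrime_of_isPModular hM
  have hp : p.Prime := Fact.out
  have hn2 : 2 ≤ n := by
    by_contra hlt
    haveI : Subsingleton (Fin n) := Fin.subsingleton_iff_le_one.mpr (by omega)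
    exact hD1 (Subgroup.eq_bot_of_subsingleton D)
  haveI : Nontrivial (Fin n) := Fin.nontrivial_iff_two_le.mpr hn2
  obtain ⟨θ₀, hθ₀⟩ := IsPBlock.nonempty hB
  obtain ⟨χ₀, hχ₀⟩ := exists_irr_above (G := Equiv.Perm (Fin n)) θ₀
  set Bt := blockOf M (χ₀ : Equiv.Perm (Fin n) → ℂ) with hBt
  have hBtB : IsPBlock M Bt := isPBlock_blockOf χ₀
  have hχmem : χ₀ ∈ Bt := mem_blockOf_self χ₀
  set Q := D.map (alternatingGroup (Fin n)).subtype with hQdef
  have hQN : Q ≤ alternatingGroup (Fin n) := Subgroup.map_subtype_le D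
  have hQ : IsDefectGroup p M B (Q.subgroupOf (alternatingGroup (Fin n))) := by
    have e : Q.subgroupOf (alternatingGroup (Fin n)) = D :=
      Subgroup.comap_map_eq_self_of_injective (Subgroup.subtype_injective _) D
    rw [e]
    exact hD
  obtain ⟨P, hP⟩ := exists_isDefectGroup hM hBtB
  obtain ⟨Dt, hDt, hinf⟩ := exists_defectGroup_inf_eq hB hBtB hχmem hθ₀ hχ₀ hM hQN hQ hP
  have hDtp : IsPGroup p Dt := IsDefectGroup.isPGroup hM hDt
  have hDt1 : Dt ≠ ⊥ := fun h => by
    rw [h, bot_inf_eq] at hinf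
    exact hD1 ((Subgroup.map_eq_bot_iff_of_injective _ (Subgroup.subtype_injective _)).mp hinf.symm)
  have hDtA : p ≠ 2 → Dt ≤ alternatingGroup (Fin n) := fun hp2 z hz => by
    rw [Equiv.Perm.mem_alternatingGroup]
    obtain ⟨j, hj⟩ := hDtp ⟨z, hz⟩
    have hz' : z ^ p ^ j = 1 := congrArg Subtype.val hj
    rcases Int.units_eq_one_or (Equiv.Perm.sign z) with hs | hs
    · exact hs
    · have h := congrArg Equiv.Perm.sign hz'
      rw [map_pow, hs, map_one, Odd.neg_one_pow ((hp.odd_of_ne_two hp2).pow (n := j))] at h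
      exact absurd h (by decide)
  obtain ⟨u, r, e, hn, -, -, ⟨c, hc⟩, -, -, hu1, hdata⟩ := exists_block_data hM hBtB hDt
  have hu : 1 ≤ u := hu1 hDt1
  obtain ⟨g, hg, hsyl⟩ := isDefectGroup_iff.mp hDt
  have hgreg : ¬ p ∣ orderOf g := IsDefectClass.isPRegular hM hBtB hg
  obtain ⟨S₀, -, -, -, -, -, -, -, hcore, hrun⟩ := hdata n le_rfl
  have hnr : n = r + p * u := hn.symm
  set a := n.factorial.factorization p with ha
  set V := (p * u).factorial.factorization p with hV
  -- the members of the covering block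
  have hmemS : ∀ S : {S : Finset ℕ // IsShape n n S},
      (∀ x : ZMod p, runnerCount p S.1 x = runnerCount p S₀.1 x) → semiChar S ∈ Bt := by
    intro S hS
    obtain ⟨S₁, hS₁, hr₁⟩ := hrun χ₀ hχmem
    refine IsPBlock.mem_of_sameBlock hBtB hχmem ?_
    rw [← hS₁]
    exact sameBlock_of_residues hM S₁ S
      (residues_eq_of_runnerCount S₁ S fun x => (hr₁ x).trans (hS x).symm)
  have hshape : ∀ χ ∈ Bt, ∃ S : {S : Finset ℕ // IsShape n n S}, semiChar S = χ ∧
      (∀ x : ZMod p, runnerCount p S.1 x = runnerCount p S₀.1 x) ∧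
      (charDegree (χ : Equiv.Perm (Fin n) → ℂ)).factorization p + (hookProd S.1).factorization p = a ∧
      (hookProd S.1).factorization p ≤ V := by
    intro χ hχ
    obtain ⟨S, hS, hrS⟩ := hrun χ hχ
    exact ⟨S, hS, hrS, hS ▸ factorization_charDegree_semiChar S,
      factorization_hookProd_le S₀.2 hcore hnr S.2 hrS⟩
  obtain ⟨T₀, hT₀s, hT₀r, hT₀v⟩ := exists_shape_height_zero S₀.2 hcore hnr le_rfl
  have hT₀mem := hmemS ⟨T₀, hT₀s⟩ hT₀r
  have hVa : V ≤ a := by
    have h := factorization_charDegree_semiChar (p := p) (⟨T₀, hT₀s⟩ : {S : Finset ℕ // IsShape n n S})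
    simp only at h
    omega
  have hInfT : sInf ((fun χ : IrrCharacter (Equiv.Perm (Fin n)) =>
      (charDegree (χ : Equiv.Perm (Fin n) → ℂ)).factorization p) '' Bt) = a - V := by
    refine le_antisymm (Nat.sInf_le ⟨_, hT₀mem, ?_⟩) (le_csInf ⟨_, _, hT₀mem, rfl⟩ ?_)
    · have h := factorization_charDegree_semiChar (p := p) (⟨T₀, hT₀s⟩ : {S : Finset ℕ // IsShape n n S})
      simp only at h ⊢
      omega
    · rintro _ ⟨χ, hχ, rfl⟩
      obtain ⟨S, -, -, h1, h2⟩ := hshape χ hχ
      show a - V ≤ (charDegree (χ : Equiv.Perm (Fin n) → ℂ)).factorization p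
      omega
  have hcardP : (Nat.card (Equiv.Perm (Fin n))).factorization p = a := by
    rw [Nat.card_eq_fintype_card, Fintype.card_perm, Fintype.card_fin]
  have hcardDt : Nat.card Dt = p ^ V := by
    rw [IsDefectGroup.card_eq hM hBtB hDt, blockDefect, hInfT, hcardP, Nat.sub_sub_self hVa]
  have h2δ : ∀ hp2 : p = 2, Nat.factorization 2 p = 1 := fun hp2 => by
    rw [hp2, Nat.Prime.factorization_self Nat.prime_two]
  have h2δ' : p ≠ 2 → Nat.factorization 2 p = 0 := fun hp2 =>
    Nat.factorization_eq_zero_of_not_dvd fun h => hp2 ((Nat.prime_dvd_prime_iff_eq hp Nat.prime_two).mp h)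
  have hcardA : (Nat.card (alternatingGroup (Fin n))).factorization p + Nat.factorization 2 p = a := by
    have h := two_mul_card_alternatingGroup (α := Fin n)
    rw [← Nat.card_eq_fintype_card, ← Nat.card_eq_fintype_card] at h
    rw [← hcardP, ← h, Nat.factorization_mul two_ne_zero Nat.card_pos.ne', Finsupp.add_apply,
      Nat.add_comm]
  set Fix : IrrCharacter (Equiv.Perm (Fin n)) → Prop := fun χ => ∀ σ,
    ((Equiv.Perm.sign σ : ℤ) : ℂ) * (χ : Equiv.Perm (Fin n) → ℂ) σ = (χ : Equiv.Perm (Fin n) → ℂ) σ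
    with hFix
  -- members of height zero are not fixed by the sign
  have hnotfix : p = 2 → ∀ χ ∈ Bt,
      (charDegree (χ : Equiv.Perm (Fin n) → ℂ)).factorization p = a - V → ¬ Fix χ := by
    intro hp2 χ hχ hv hfix
    set v : Multiplicative (Fin u → ZMod p) :=
      Multiplicative.ofAdd (Pi.single (⟨0, hu⟩ : Fin u) (1 : ZMod p)) with hvdef
    set t := c * modelHom e (v, 1) * c⁻¹ with htdef
    have ht : t ∈ Dt := hc ⟨_, (mem_cycleSub e).mpr ⟨v, rfl⟩, by simp [htdef]⟩
    have hsigt : Equiv.Perm.sign t = -1 := by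
      rw [htdef, map_mul, map_mul, map_inv, mul_inv_cancel_comm, sign_modelHom, map_one, mul_one,
        Finset.prod_eq_single (⟨0, hu⟩ : Fin u)]
      · have : v.toAdd (⟨0, hu⟩ : Fin u) ≠ 0 := by simp [hvdef]
        rw [if_neg this, hp2]
        rfl
      · intro i _ hi
        rw [if_pos]
        simp [hvdef, Pi.single_eq_of_ne hi]
      · simp
    have hsigg : Equiv.Perm.sign g = 1 := by
      rcases Int.units_eq_one_or (Equiv.Perm.sign g) with hs | hs
      · exact hs
      · have hodd : Odd (orderOf g) := Nat.not_even_iff_odd.mp fun h =>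
          hgreg (hp2 ▸ even_iff_two_dvd.mp h)
        have h := congrArg Equiv.Perm.sign (pow_orderOf_eq_one g)
        rw [map_pow, hs, map_one, hodd.neg_one_pow] at h
        exact absurd h (by decide)
    have hcomm : Commute t g := Subgroup.mem_centralizer_singleton_iff.mp (hsyl.1 ht)
    have hord : ∃ k : ℕ, orderOf t = p ^ k := by
      obtain ⟨k, hk⟩ := IsPGroup.iff_orderOf.mp hDtp ⟨t, ht⟩
      exact ⟨k, by rw [← hk, ← Subgroup.orderOf_coe]⟩
    have hzero : (χ : Equiv.Perm (Fin n) → ℂ) (t * g) = 0 := by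
      have h := hfix (t * g)
      rw [map_mul, hsigt, hsigg] at h
      simp only [mul_one, Units.val_neg, Units.val_one, Int.cast_neg, Int.cast_one] at h
      linear_combination (-(1 : ℂ) / 2) * h
    have h0 : blockHeight p Bt (χ : Equiv.Perm (Fin n) → ℂ) = 0 := by
      rw [blockHeight, hInfT, hv, Nat.sub_self]
    refine not_memLocalIdeal_value_of_height_zero hM hBtB hχ h0 hg ?_
    rw [← memLocalIdeal_value_mul_pElement_iff hM χ.2 hcomm hord, hzero]
    exact memLocalIdeal_zero
  -- constituents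
  have hcon : ∀ (χ : IrrCharacter (Equiv.Perm (Fin n))) (θ : IrrCharacter (alternatingGroup (Fin n))),
      classInner (fun x : alternatingGroup (Fin n) => (χ : Equiv.Perm (Fin n) → ℂ) x)
        (θ : alternatingGroup (Fin n) → ℂ) ≠ 0 →
      (Fix χ → (charDegree (χ : Equiv.Perm (Fin n) → ℂ)).factorization p =
        Nat.factorization 2 p + (charDegree (θ : alternatingGroup (Fin n) → ℂ)).factorization p) ∧
      (¬ Fix χ → (charDegree (χ : Equiv.Perm (Fin n) → ℂ)).factorization p =
        (charDegree (θ : alternatingGroup (Fin n) → ℂ)).factorization p) := fun χ θ h => by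
    refine ⟨fun hf => ?_, fun hf => ?_⟩
    · rw [(degree_of_constituent hn2 χ θ h).1 hf,
        Nat.factorization_mul two_ne_zero (irr_degree_eq θ).2.ne', Finsupp.add_apply]
    · rw [(degree_of_constituent hn2 χ θ h).2 hf]
  have hdown : ∀ χ ∈ Bt, ∃ θ ∈ B, classInner
      (fun x : alternatingGroup (Fin n) => (χ : Equiv.Perm (Fin n) → ℂ) x)
      (θ : alternatingGroup (Fin n) → ℂ) ≠ 0 := by
    intro χ hχ
    obtain ⟨ψ, hψ⟩ := CfsgLib.Char.exists_constituent (N := alternatingGroup (Fin n))
      (CfsgLib.Char.isCharacter_of_isIrr χ.2) (CfsgLib.Char.irr_degree_ne_zero χ.2)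
    obtain ⟨x, hx⟩ := exists_conjI_mem_of_congr hB hθ₀
      (fun v hv hl hs => omega_congr_of_covering hBtB hB hχmem hθ₀ hχ₀ hχ hθ₀ hv hl hs) hψ
    refine ⟨conjI x ψ, hx, ?_⟩
    rw [coe_conjI, ← CfsgLib.Char.conjBy_restrict (alternatingGroup (Fin n)) (irr_classFunction χ) x,
      CfsgLib.Char.classInner_conjBy]
    exact hψ
  have hlow : ∀ θ ∈ B, ∃ χ ∈ Bt, classInner
        (fun x : alternatingGroup (Fin n) => (χ : Equiv.Perm (Fin n) → ℂ) x)
        (θ : alternatingGroup (Fin n) → ℂ) ≠ 0 ∧
      a - V ≤ (charDegree (θ : alternatingGroup (Fin n) → ℂ)).factorization p := by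
    intro θ hθ
    obtain ⟨χ, hχ, hcn⟩ := exists_constituent_mem_of_covering hM hB hBtB hχmem hθ₀ hχ₀ hθ
    refine ⟨χ, hχ, hcn, ?_⟩
    obtain ⟨S, -, -, h1, h2⟩ := hshape χ hχ
    by_cases hf : Fix χ
    · have h3 := (hcon χ θ hcn).1 hf
      by_cases hp2 : p = 2
      · have h4 : (charDegree (χ : Equiv.Perm (Fin n) → ℂ)).factorization p ≠ a - V :=
          fun h => hnotfix hp2 χ hχ h hf
        rw [h2δ hp2] at h3
        omega
      · rw [h2δ' hp2] at h3
        omega
    · have h3 := (hcon χ θ hcn).2 hf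
      omega
  have hup : ∀ S : {S : Finset ℕ // IsShape n n S},
      (∀ x : ZMod p, runnerCount p S.1 x = runnerCount p S₀.1 x) →
      (p = 2 → ¬ Fix (semiChar S)) → ∃ θ ∈ B,
      (charDegree (θ : alternatingGroup (Fin n) → ℂ)).factorization p +
        (hookProd S.1).factorization p = a := by
    intro S hS hnf
    obtain ⟨θ, hθ, hcn⟩ := hdown _ (hmemS S hS)
    refine ⟨θ, hθ, ?_⟩
    have h1 := factorization_charDegree_semiChar (p := p) S
    by_cases hf : Fix (semiChar S)
    · have h3 := (hcon _ θ hcn).1 hf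
      rw [h2δ' fun hp2 => hnf hp2 hf] at h3
      omega
    · have h3 := (hcon _ θ hcn).2 hf
      omega
  have hInf : sInf ((fun θ : IrrCharacter (alternatingGroup (Fin n)) =>
      (charDegree (θ : alternatingGroup (Fin n) → ℂ)).factorization p) '' B) = a - V := by
    obtain ⟨θ, hθ, hv⟩ := hup ⟨T₀, hT₀s⟩ hT₀r fun hp2 => hnotfix hp2 _ hT₀mem (by
      have h := factorization_charDegree_semiChar (p := p)
        (⟨T₀, hT₀s⟩ : {S : Finset ℕ // IsShape n n S})
      simp only at h
      omega)
    refine le_antisymm (Nat.sInf_le ⟨θ, hθ, ?_⟩) (le_csInf ⟨_, θ₀, hθ₀, rfl⟩ ?_)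
    · simp only at hv ⊢
      omega
    · rintro _ ⟨θ', hθ', rfl⟩
      obtain ⟨-, -, -, h⟩ := hlow θ' hθ'
      exact h
  have hcardD : Nat.card D = p ^ (V - Nat.factorization 2 p) := by
    rw [IsDefectGroup.card_eq hM hB hD, blockDefect, hInf]
    congr 1
    omega
  have hiso : Nonempty (D ≃* ↥(Dt ⊓ alternatingGroup (Fin n))) :=
    ⟨(D.equivMapOfInjective _ (Subgroup.subtype_injective _)).trans (MulEquiv.subgroupCongr hinf.symm)⟩
  refine ⟨u, r, e, g, Dt, hu, hgreg, hsyl, hDtA, hiso, ⟨c, hc⟩, hcardDt, hcardD, fun hup' θ hθ => ?_,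
    fun hpu h3 => ?_⟩
  · obtain ⟨χ, hχ, hcn, hge⟩ := hlow θ hθ
    obtain ⟨S, -, hSr, h1, h2⟩ := hshape χ hχ
    have hVu : V = u := by
      rw [hV, factorization_factorial_mul, Nat.factorization_eq_zero_of_not_dvd fun h =>
        absurd ((Nat.Prime.dvd_factorial hp).mp h) (by omega), Nat.add_zero]
    have hle : u ≤ (hookProd S.1).factorization p := by
      rw [factorization_hookProd_shape S₀.2 hcore hnr S.2 hSr]
      exact Nat.le_add_right _ _
    rw [blockHeight, hInf]
    by_cases hf : Fix χ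
    · have := (hcon χ θ hcn).1 hf
      omega
    · have := (hcon χ θ hcn).2 hf
      omega
  · obtain ⟨T₁, hT₁s, hT₁r, hT₁v, hT₁nf⟩ := exists_shape_height_one S₀.2 hcore hnr le_rfl hpu h3
    obtain ⟨θ, hθ, hv⟩ := hup ⟨T₁, hT₁s⟩ hT₁r fun hp2 hf =>
      hT₁nf hp2 (antisymm_of_fixed _ (by omega) hf).2
    refine ⟨θ, hθ, ?_⟩
    simp only at hv
    rw [blockHeight, hInf]
    omega

end CfsgLib.SymBlock
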