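import Mathlib

/-!
# Bead moves: standard tableaux as sequences of moved positions
-/

set_option autoImplicit false

namespace CfsgLib.SymBlock

/-- The bead at `a` can move one step up. -/
def Movable (S : Finset ℕ) (a : ℕ) : Prop := a ∈ S ∧ a + 1 ∉ S

instance (S : Finset ℕ) (a : ℕ) : Decidable (Movable S a) :=
  inferInstanceAs (Decidable (_ ∧ _))

/-- Move the bead at `a`. -/
def move (S : Finset ℕ) (a : ℕ) : Finset ℕ := insert (a + 1) (S.erase a)

/-- A sequence of legal moves. -/
def Valid : Finset ℕ → List ℕ → Prop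
  | _, [] => True
  | S, a :: l => Movable S a ∧ Valid (move S a) l

instance decValid : ∀ (S : Finset ℕ) (l : List ℕ), Decidable (Valid S l)
  | _, [] => inferInstanceAs (Decidable True)
  | S, a :: l => @instDecidableAnd _ _ _ (decValid (move S a) l)

/-- The final position. -/
def endOf (S : Finset ℕ) (l : List ℕ) : Finset ℕ := l.foldl move S

@[simp] theorem valid_nil (S : Finset ℕ) : Valid S [] := trivial

@[simp] theorem valid_cons {S : Finset ℕ} {a : ℕ} {l : List ℕ} :
    Valid S (a :: l) ↔ Movable S a ∧ Valid (move S a) l := Iff.rfl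

@[simp] theorem endOf_nil (S : Finset ℕ) : endOf S [] = S := rfl

@[simp] theorem endOf_cons (S : Finset ℕ) (a : ℕ) (l : List ℕ) :
    endOf S (a :: l) = endOf (move S a) l := rfl

theorem endOf_append (S : Finset ℕ) (l l' : List ℕ) :
    endOf S (l ++ l') = endOf (endOf S l) l' := List.foldl_append ..

theorem valid_append : ∀ {S : Finset ℕ} {l l' : List ℕ},
    Valid S (l ++ l') ↔ Valid S l ∧ Valid (endOf S l) l'
  | S, [], l' => by simp
  | S, a :: l, l' => by simp [valid_append (S := move S a), and_assoc]

theorem mem_move {S : Finset ℕ} {a x : ℕ} :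
    x ∈ move S a ↔ x = a + 1 ∨ (x ≠ a ∧ x ∈ S) := by simp [move]

theorem card_move {S : Finset ℕ} {a : ℕ} (h : Movable S a) : (move S a).card = S.card := by
  rw [move, Finset.card_insert_of_notMem (fun hh => h.2 (Finset.mem_of_mem_erase hh)),
    Finset.card_erase_of_mem h.1, Nat.sub_add_cancel (Finset.card_pos.mpr ⟨a, h.1⟩)]

theorem sum_move {S : Finset ℕ} {a : ℕ} (h : Movable S a) :
    ∑ x ∈ move S a, x = (∑ x ∈ S, x) + 1 := by
  rw [move, Finset.sum_insert (fun hh => h.2 (Finset.mem_of_mem_erase hh)),
    ← Finset.add_sum_erase S _ h.1]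
  omega

theorem card_endOf : ∀ {S : Finset ℕ} {l : List ℕ}, Valid S l → (endOf S l).card = S.card
  | _, [], _ => rfl
  | S, a :: l, h => by rw [endOf_cons, card_endOf h.2, card_move h.1]

theorem sum_endOf : ∀ {S : Finset ℕ} {l : List ℕ}, Valid S l →
    ∑ x ∈ endOf S l, x = (∑ x ∈ S, x) + l.length
  | _, [], _ => rfl
  | S, a :: l, h => by rw [endOf_cons, sum_endOf h.2, sum_move h.1, List.length_cons]; omega

/-- Moves at distance at least two commute. -/
theorem valid_pair_swap {S : Finset ℕ} {a b : ℕ} (h : Valid S [a, b]) (h1 : a + 1 ≠ b)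
    (h2 : b + 1 ≠ a) : Valid S [b, a] ∧ endOf S [b, a] = endOf S [a, b] := by
  simp only [valid_cons, valid_nil, and_true, Movable, mem_move, endOf_cons, endOf_nil] at h ⊢
  obtain ⟨⟨ha, ha'⟩, hb, hb'⟩ := h
  have hab : b ≠ a := by
    rintro rfl
    rcases hb with hb | hb
    · omega
    · exact hb.1 rfl
  have hbS : b ∈ S := by rcases hb with hb | hb; · omega
                         · exact hb.2
  push Not at hb'
  have hb'S : b + 1 ∉ S := hb'.2 (by omega)
  refine ⟨⟨⟨hbS, hb'S⟩, Or.inr ⟨by omega, ha⟩, ?_⟩, ?_⟩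
  · push Not
    exact ⟨by omega, fun _ => ha'⟩
  · ext x
    simp only [mem_move]
    grind

theorem pair_ne {S : Finset ℕ} {a b : ℕ} (h : Valid S [a, b]) : a ≠ b := by
  simp only [valid_cons, valid_nil, and_true, Movable, mem_move] at h
  grind

theorem triple_ne {S : Finset ℕ} {a b c : ℕ} (h : Valid S [a, b, c]) :
    a ≠ b ∧ b ≠ c ∧ a ≠ c := by
  simp only [valid_cons, valid_nil, and_true, Movable, mem_move] at h
  grind

/-- The last move of a sequence. -/
theorem valid_concat {S : Finset ℕ} {l : List ℕ} {a : ℕ} :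
    Valid S (l ++ [a]) ↔ Valid S l ∧ Movable (endOf S l) a := by
  simp [valid_append]

theorem endOf_concat (S : Finset ℕ) (l : List ℕ) (a : ℕ) :
    endOf S (l ++ [a]) = move (endOf S l) a := by simp [endOf_append]

theorem move_inj {R R' : Finset ℕ} {a : ℕ} (h : Movable R a) (h' : Movable R' a)
    (e : move R a = move R' a) : R = R' := by
  ext x
  have := Finset.ext_iff.mp e x
  simp only [mem_move] at this
  simp only [Movable] at h h'
  grind

/-- A sequence is determined by its values. -/
theorem eq_range_of_sum {S : Finset ℕ} {m : ℕ} (hc : S.card = m)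
    (hs : ∑ x ∈ S, x ≤ ∑ x ∈ Finset.range m, x) : S = Finset.range m := by
  by_contra hne
  obtain ⟨a, ha, ha'⟩ : ∃ a ∈ S, a ∉ Finset.range m := by
    by_contra h
    push Not at h
    exact hne (Finset.eq_of_subset_of_card_le h (by simp [hc]))
  have key : ∀ (T : Finset ℕ), ∑ x ∈ Finset.range T.card, x ≤ ∑ x ∈ T, x := by
    intro T
    induction T using Finset.induction_on_max with
    | empty => simp
    | insert a T hlt ih =>
      have hnot : a ∉ T := fun h => lt_irrefl a (hlt a h)
      rw [Finset.card_insert_of_notMem hnot, Finset.sum_range_succ, Finset.sum_insert hnot]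
      have : T.card ≤ a := by
        have := Finset.card_le_card (show T ⊆ Finset.range a from fun x hx => Finset.mem_range.mpr (hlt x hx))
        simpa using this
      omega
  have h1 := key (S.erase a)
  rw [Finset.card_erase_of_mem ha, hc] at h1
  have h2 := Finset.add_sum_erase S (fun x => x) ha
  obtain ⟨k, rfl⟩ : ∃ k, m = k + 1 := ⟨m - 1, by
    have := Finset.card_pos.mpr ⟨a, ha⟩; omega⟩
  rw [Finset.sum_range_succ] at hs
  rw [Nat.add_sub_cancel] at h1
  simp at ha'
  omega

/-- Some bead can move down unless all are packed. -/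
theorem exists_unmove {S : Finset ℕ} (h : S ≠ Finset.range S.card) :
    ∃ R a, Movable R a ∧ move R a = S := by
  obtain ⟨b, hb, hb'⟩ : ∃ b, b + 1 ∈ S ∧ b ∉ S := by
    by_contra hcon
    push Not at hcon
    have hdown : ∀ y, y ∈ S → ∀ x ≤ y, x ∈ S := by
      intro y
      induction y with
      | zero => intro hy x hx; rwa [Nat.le_zero.mp hx]
      | succ y ih =>
        intro hy x hx
        rcases Nat.lt_or_eq_of_le hx with h' | h'
        · exact ih (hcon y hy) x (by omega)
        · rwa [h']
    refine h (Finset.eq_of_subset_of_card_le (fun y hy => ?_) (by simp))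
    rw [Finset.mem_range]
    have := Finset.card_le_card (show Finset.range (y + 1) ⊆ S from fun x hx =>
      hdown y hy x (by simp at hx; omega))
    simp at this
    omega
  refine ⟨insert b (S.erase (b + 1)), b, ⟨by simp, by simp⟩, ?_⟩
  ext x
  simp only [mem_move, Finset.mem_insert, Finset.mem_erase]
  grind

/-- The packed position. -/
abbrev ground (m : ℕ) : Finset ℕ := Finset.range m

/-- The positions of weight `n`. -/
def IsShape (m n : ℕ) (S : Finset ℕ) : Prop :=
  S.card = m ∧ ∑ x ∈ S, x = (∑ x ∈ ground m, x) + n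

theorem isShape_endOf {m : ℕ} {l : List ℕ} (h : Valid (ground m) l) :
    IsShape m l.length (endOf (ground m) l) :=
  ⟨by rw [card_endOf h, Finset.card_range], sum_endOf h⟩

theorem exists_valid_endOf {m : ℕ} : ∀ {n : ℕ} {S : Finset ℕ}, IsShape m n S →
    ∃ l, l.length = n ∧ Valid (ground m) l ∧ endOf (ground m) l = S
  | 0, S, h => ⟨[], rfl, trivial, (eq_range_of_sum h.1 (by simpa using h.2.le)).symm⟩
  | n + 1, S, h => by
    obtain ⟨R, a, hR, rfl⟩ := exists_unmove (S := S) (by
      intro e
      have := h.2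
      rw [show S = ground m from e.trans (by rw [h.1])] at this
      omega)
    have hs : IsShape m n R := ⟨(card_move hR).symm.trans h.1, by
      have := h.2
      rw [sum_move hR] at this
      omega⟩
    obtain ⟨l, hl, hv, he⟩ := exists_valid_endOf hs
    exact ⟨l ++ [a], by simp [hl], valid_concat.mpr ⟨hv, he ▸ hR⟩, by rw [endOf_concat, he]⟩

theorem Valid.bound : ∀ {S : Finset ℕ} {l : List ℕ} {B : ℕ}, Valid S l → (∀ x ∈ S, x < B) →
    ∀ a ∈ l, a < B + l.length
  | S, b :: l, B, h, hB, a, ha => by
    rcases List.mem_cons.mp ha with rfl | ha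
    · have := hB a h.1.1
      simp
      omega
    · have := Valid.bound (B := B + 1) h.2 (fun x hx => by
        rcases mem_move.mp hx with rfl | hx
        · have := hB b h.1.1; omega
        · have := hB x hx.2; omega) a ha
      simp
      omega

/-- No bead can move down `p` steps. -/
def IsCore (p : ℕ) (S : Finset ℕ) : Prop := ∀ s ∈ S, p ≤ s → s - p ∈ S

/-- The tableaux of shape `S`. -/
abbrev Tab (m n : ℕ) (S : Finset ℕ) : Type :=
  {l : List ℕ // l.length = n ∧ Valid (ground m) l ∧ endOf (ground m) l = S}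

theorem setOf_tab_finite (m n : ℕ) (S : Finset ℕ) :
    {l : List ℕ | l.length = n ∧ Valid (ground m) l ∧ endOf (ground m) l = S}.Finite := by
  refine Set.Finite.subset ((Set.finite_univ (α := List.Vector (Fin (m + n)) n)).image
    (fun v => v.1.map Fin.val)) ?_
  rintro l ⟨hl, hv, -⟩
  have hb := hv.bound (B := m) (fun x hx => Finset.mem_range.mp hx)
  refine ⟨⟨l.pmap (fun a h => (⟨a, h⟩ : Fin (m + n))) (fun a ha => by have := hb a ha; omega),
    by simp [hl]⟩, Set.mem_univ _, ?_⟩
  simp [List.map_pmap]

instance instFiniteTab (m n : ℕ) (S : Finset ℕ) : Finite (Tab m n S) := (setOf_tab_finite m n S).to_subtype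

noncomputable instance (m n : ℕ) (S : Finset ℕ) : Fintype (Tab m n S) := Fintype.ofFinite _

end CfsgLib.SymBlock
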