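import Cfsg.Agent.Lib.SymBlock.Irreducible
import Cfsg.Prelude.Def_Blocks

/-!
# The signed cycle polynomial acts by the product of the contents
-/

set_option autoImplicit false

namespace CfsgLib.SymBlock

open Finsupp Cfsg Polynomial
open scoped CfsgLib.Char

section Orbits

variable {α β : Type*}

/-- The number of orbits of a permutation. -/
noncomputable def orbCount (σ : Equiv.Perm α) : ℕ :=
  Nat.card (Quotient (Equiv.Perm.SameCycle.setoid σ))

/-- The colourings constant on orbits. -/
def InvColor (σ : Equiv.Perm α) (τ : ℕ) : Type _ := {c : α → Fin τ // ∀ x, c (σ x) = c x}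

theorem card_invColor [Finite α] (σ : Equiv.Perm α) (τ : ℕ) :
    Nat.card (InvColor σ τ) = τ ^ orbCount σ := by
  classical
  have key : ∀ (c : α → Fin τ), (∀ x, c (σ x) = c x) → ∀ x y, σ.SameCycle x y → c x = c y := by
    rintro c hc x _ ⟨i, rfl⟩
    induction i using Int.induction_on with
    | zero => rfl
    | succ i ih => rw [add_comm, zpow_add, zpow_one, Equiv.Perm.mul_apply, hc, ih]
    | pred i ih =>
      rw [sub_eq_neg_add, zpow_add, zpow_neg_one, Equiv.Perm.mul_apply, ih]
      generalize (σ ^ (-(i : ℤ))) x = y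
      calc c y = c (σ (σ⁻¹ y)) := congrArg c (σ.apply_symm_apply y).symm
        _ = c (σ⁻¹ y) := hc _
  let e : InvColor σ τ ≃ (Quotient (Equiv.Perm.SameCycle.setoid σ) → Fin τ) :=
    { toFun := fun c => Quotient.lift c.1 (key c.1 c.2)
      invFun := fun f => ⟨fun x => f ⟦x⟧, fun x => congrArg f (Quotient.sound
        (s := Equiv.Perm.SameCycle.setoid σ) (Equiv.Perm.sameCycle_apply_left.mpr (Equiv.Perm.SameCycle.refl σ x)))⟩
      left_inv := fun c => rfl
      right_inv := fun f => funext fun q => by induction q using Quotient.inductionOn; rfl }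
  rw [Nat.card_congr e, Nat.card_fun, Nat.card_fin, orbCount]

theorem orbCount_eq_of_card [Finite α] [Finite β] {σ : Equiv.Perm α} {π : Equiv.Perm β} {k : ℕ}
    (e : InvColor σ 2 ≃ InvColor π 2 × (Fin k → Fin 2)) : orbCount σ = orbCount π + k := by
  have h := Nat.card_congr e
  rw [Nat.card_prod, card_invColor, card_invColor, Nat.card_fun, Nat.card_fin, Nat.card_fin,
    ← pow_add] at h
  exact Nat.pow_right_injective le_rfl h

theorem orbCount_one [Finite α] : orbCount (1 : Equiv.Perm α) = Nat.card α := by
  have h := card_invColor (1 : Equiv.Perm α) 2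
  rw [Nat.card_congr (Equiv.subtypeUnivEquiv (α := α → Fin 2)
    (p := fun c => ∀ x, c ((1 : Equiv.Perm α) x) = c x) fun c x => rfl) |> fun e =>
      (show Nat.card (InvColor (1 : Equiv.Perm α) 2) = _ from e), Nat.card_fun, Nat.card_fin] at h
  exact (Nat.pow_right_injective le_rfl h).symm

theorem orbCount_mul_swap [Finite α] [DecidableEq α] {π : Equiv.Perm α} {i k : α} (hk : π k = k)
    (hik : i ≠ k) : orbCount π = orbCount (π * Equiv.swap i k) + 1 := by
  classical
  refine orbCount_eq_of_card (k := 1) ?_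
  have hiff : ∀ c : α → Fin 2, (∀ x, c ((π * Equiv.swap i k) x) = c x) ↔
      (∀ x, c (π x) = c x) ∧ c k = c i := by
    intro c
    constructor
    · intro h
      have h1 : c k = c i := by simpa [hk] using h i
      refine ⟨fun x => ?_, h1⟩
      by_cases hxi : x = i
      · subst hxi
        have := h k
        simp at this
        rw [this, h1]
      · by_cases hxk : x = k
        · rw [hxk, hk]
        · simpa [Equiv.swap_apply_of_ne_of_ne hxi hxk] using h x
    · rintro ⟨h, hki⟩ x
      by_cases hxi : x = i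
      · subst hxi; simp [hk, hki]
      · by_cases hxk : x = k
        · subst hxk; simp [h, hki]
        · simp [Equiv.swap_apply_of_ne_of_ne hxi hxk, h]
  have hne : ∀ c : α → Fin 2, (∀ x, c (π x) = c x) → ∀ d : Fin 2, ∀ x,
      Function.update c k d (π x) = Function.update c k d x := by
    intro c hc d x
    by_cases hx : x = k
    · subst hx; rw [hk]
    · have : π x ≠ k := fun h => hx (π.injective (h.trans hk.symm))
      rw [Function.update_of_ne hx, Function.update_of_ne this, hc]
  exact
    { toFun := fun c => (⟨Function.update c.1 k (c.1 i), (hiff _).mpr ⟨hne c.1 c.2 _, by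
        rw [Function.update_self, Function.update_of_ne hik]⟩⟩, fun _ => c.1 k)
      invFun := fun p => ⟨Function.update p.1.1 k (p.2 0), hne p.1.1 ((hiff _).mp p.1.2).1 _⟩
      left_inv := fun c => Subtype.ext (funext fun x => by
        by_cases hx : x = k
        · subst hx; simp
        · simp [Function.update_of_ne hx])
      right_inv := fun p => by
        obtain ⟨⟨c, hc⟩, d⟩ := p
        refine Prod.ext (Subtype.ext (funext fun x => ?_)) (funext fun j => ?_)
        · by_cases hx : x = k
          · subst hx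
            simp [Function.update_of_ne hik, ((hiff c).mp hc).2]
          · simp [Function.update_of_ne hx]
        · simp [Subsingleton.elim j 0] }

end Orbits

variable {m n : ℕ} {S : Finset ℕ}

/-- The signed cycle weight. -/
noncomputable def cycleWeight (τ : ℂ) (σ : Equiv.Perm (Fin n)) : ℂ :=
  ((Equiv.Perm.sign σ : ℤ) : ℂ) * τ ^ orbCount σ

theorem cycleWeight_mul_swap (τ : ℂ) {π : Equiv.Perm (Fin n)} {i k : Fin n} (hk : π k = k)
    (hik : i ≠ k) : τ * cycleWeight τ (π * Equiv.swap i k) = -cycleWeight τ π := by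
  rw [cycleWeight, cycleWeight, orbCount_mul_swap hk hik, map_mul, Equiv.Perm.sign_swap hik,
    pow_succ]
  push_cast
  ring

/-- The permutations fixing every index at least `k`. -/
noncomputable def headPerms (n k : ℕ) : Finset (Equiv.Perm (Fin n)) :=
  Finset.univ.filter fun σ => ∀ j : Fin n, k ≤ (j : ℕ) → σ j = j

theorem sum_headPerms_succ {M : Type*} [AddCommMonoid M] {k : ℕ} (hk : k < n)
    (F : Equiv.Perm (Fin n) → M) :
    ∑ σ ∈ headPerms n (k + 1), F σ =
      ∑ π ∈ headPerms n k, ∑ i ∈ Finset.Iic (⟨k, hk⟩ : Fin n), F (π * Equiv.swap i ⟨k, hk⟩) := by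
  classical
  rw [← Finset.sum_product']
  refine Finset.sum_bij' (fun σ _ => (σ * Equiv.swap (σ⁻¹ ⟨k, hk⟩) ⟨k, hk⟩, σ⁻¹ ⟨k, hk⟩))
    (fun x _ => x.1 * Equiv.swap x.2 ⟨k, hk⟩) ?_ ?_ ?_ ?_ ?_
  · intro σ hσ
    simp only [headPerms, Finset.mem_filter, Finset.mem_univ, true_and] at hσ
    simp only [Finset.mem_product, headPerms, Finset.mem_filter, Finset.mem_univ, true_and,
      Finset.mem_Iic]
    have hle : σ⁻¹ ⟨k, hk⟩ ≤ ⟨k, hk⟩ := by
      by_contra h
      have h' : k + 1 ≤ ((σ⁻¹ ⟨k, hk⟩ : Fin n) : ℕ) := by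
        simp only [not_le, Fin.lt_def] at h
        omega
      have e : σ⁻¹ ⟨k, hk⟩ = ⟨k, hk⟩ := (hσ _ h').symm.trans (σ.apply_symm_apply _)
      exact h e.le
    refine ⟨fun j hj => ?_, hle⟩
    rw [Equiv.Perm.mul_apply]
    by_cases hjk : j = ⟨k, hk⟩
    · simp [hjk]
    · have hj' : k + 1 ≤ (j : ℕ) := by
        rcases Nat.lt_or_eq_of_le hj with h | h
        · omega
        · exact absurd (Fin.ext h.symm) hjk
      rw [Equiv.swap_apply_of_ne_of_ne (fun h => ?_) hjk, hσ j hj']
      have : (j : ℕ) ≤ k := by rw [h]; exact hle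
      omega
  · rintro ⟨π, i⟩ hx
    simp only [Finset.mem_product, headPerms, Finset.mem_filter, Finset.mem_univ, true_and,
      Finset.mem_Iic] at hx
    simp only [headPerms, Finset.mem_filter, Finset.mem_univ, true_and]
    intro j hj
    have hi : (i : ℕ) ≤ k := hx.2
    rw [Equiv.Perm.mul_apply, Equiv.swap_apply_of_ne_of_ne (fun h => by rw [h] at hj; omega)
      (fun h => by rw [h] at hj; simp at hj), hx.1 j (by omega)]
  · intro σ _
    simp [mul_assoc, Equiv.swap_mul_self]
  · rintro ⟨π, i⟩ hx
    simp only [Finset.mem_product, headPerms, Finset.mem_filter, Finset.mem_univ, true_and] at hx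
    have hπ : π ⟨k, hk⟩ = ⟨k, hk⟩ := hx.1 _ le_rfl
    have hinv : (π * Equiv.swap i ⟨k, hk⟩)⁻¹ ⟨k, hk⟩ = i := by
      rw [Equiv.Perm.inv_eq_iff_eq, Equiv.Perm.mul_apply, Equiv.swap_apply_left, hπ]
    simp only [hinv, Prod.mk.injEq, and_true]
    rw [mul_assoc, Equiv.swap_mul_self, mul_one]
  · intro σ _
    simp [mul_assoc, Equiv.swap_mul_self]

theorem sum_cycleWeight_single {τ : ℂ} (hτ : τ ≠ 0) (t : Tab m n S) : ∀ k, k ≤ n →
    ∑ π ∈ headPerms n k, cycleWeight τ π • seminormal m n S π (single t 1) =
      (τ ^ (n - k) * ((t.1.take k).map fun a => τ - content m a).prod) • single t 1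
  | 0, _ => by
    have : headPerms n 0 = {1} := by
      ext σ
      simp only [headPerms, Finset.mem_filter, Finset.mem_univ, true_and, Finset.mem_singleton]
      exact ⟨fun h => Equiv.ext fun j => h j (Nat.zero_le _), fun h => by simp [h]⟩
    simp [this, cycleWeight, orbCount_one]
  | k + 1, hk => by
    have ih := sum_cycleWeight_single hτ t k (by omega)
    have hstep : τ • (∑ σ ∈ headPerms n (k + 1), cycleWeight τ σ • seminormal m n S σ (single t 1)) =
        (τ - content m (entry t ⟨k, by omega⟩)) •
          ∑ π ∈ headPerms n k, cycleWeight τ π • seminormal m n S π (single t 1) := by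
      rw [sum_headPerms_succ (by omega : k < n), Finset.smul_sum, Finset.smul_sum]
      refine Finset.sum_congr rfl fun π hπ => ?_
      simp only [headPerms, Finset.mem_filter, Finset.mem_univ, true_and] at hπ
      have hfix : π ⟨k, by omega⟩ = ⟨k, by omega⟩ := hπ _ le_rfl
      rw [← Finset.insert_erase (Finset.mem_Iic.mpr le_rfl : (⟨k, by omega⟩ : Fin n) ∈ Finset.Iic _),
        Finset.sum_insert (Finset.notMem_erase _ _)]
      have he : (Finset.Iic (⟨k, by omega⟩ : Fin n)).erase ⟨k, by omega⟩ = Finset.Iio ⟨k, by omega⟩ := by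
        ext x; simp [lt_iff_le_and_ne, and_comm]
      rw [he, Equiv.swap_self, ← Equiv.Perm.one_def, mul_one, smul_add, Finset.smul_sum]
      have hsum : ∑ i ∈ Finset.Iio (⟨k, by omega⟩ : Fin n),
          τ • (cycleWeight τ (π * Equiv.swap i ⟨k, by omega⟩) •
            seminormal m n S (π * Equiv.swap i ⟨k, by omega⟩) (single t 1)) =
          -(cycleWeight τ π • seminormal m n S π (jm m n S ⟨k, by omega⟩ (single t 1))) := by
        rw [jm, LinearMap.sum_apply, map_sum, Finset.smul_sum, ← Finset.sum_neg_distrib]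
        refine Finset.sum_congr rfl fun i hi => ?_
        rw [smul_smul, cycleWeight_mul_swap τ hfix (ne_of_lt (Finset.mem_Iio.mp hi)), map_mul,
          Module.End.mul_apply, neg_smul]
      rw [hsum, jm_single', map_smul, sub_smul, smul_comm (cycleWeight τ π), smul_comm τ, sub_eq_add_neg]
    rw [ih, smul_smul] at hstep
    refine smul_right_injective _ hτ ?_
    simp only [hstep, smul_smul]
    congr 1
    rw [List.take_succ_eq_append_getElem (by rw [t.2.1]; omega), List.map_append, List.prod_append]
    simp only [List.map_cons, List.map_nil, List.prod_singleton]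
    rw [show n - k = n - (k + 1) + 1 by omega, pow_succ]
    show (τ - content m t.1[k]) * _ = _
    ring

theorem entries_perm (t t' : Tab m n S) : t.1.Perm t'.1 := by
  refine connected_valid (m := m) n (fun u => t.1.Perm u) ?_ t.1 t'.1 t.2.1 t'.2.1 t.2.2.1 t'.2.2.1
    (t.2.2.2.trans t'.2.2.2.symm) (List.Perm.refl _)
  intro l₁ l₂ a b _ _ _ _ h
  exact h.trans (List.Perm.append_left _ (List.Perm.swap _ _ _))

/-- Some sequence of the given shape. -/
noncomputable def someTab (S : {S : Finset ℕ // IsShape m n S}) : Tab m n S.1 :=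
  ⟨(exists_valid_endOf S.2).choose, (exists_valid_endOf S.2).choose_spec⟩

theorem sum_cycleWeight_char (S : {S : Finset ℕ // IsShape m n S}) {τ : ℂ} (hτ : τ ≠ 0) :
    ∑ σ : Equiv.Perm (Fin n), cycleWeight τ σ * (semiChar S : Equiv.Perm (Fin n) → ℂ) σ =
      ((someTab S).1.map fun a => τ - content m a).prod *
        (semiChar S : Equiv.Perm (Fin n) → ℂ) 1 := by
  have hall : headPerms n n = Finset.univ := by
    refine Finset.filter_true_of_mem fun σ _ j hj => ?_
    omega
  set A : Module.End ℂ (Tab m n S.1 →₀ ℂ) := ∑ σ, cycleWeight τ σ • seminormal m n S.1 σ with hA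
  have htr : LinearMap.trace ℂ _ A =
      ∑ _t : Tab m n S.1, ((someTab S).1.map fun a => τ - content m a).prod := by
    rw [trace_of_diag A (fun t => (t.1.map fun a => τ - content m a).prod) fun t => ?_]
    · exact Finset.sum_congr rfl fun t _ => (List.Perm.map _ (entries_perm t _)).prod_eq
    · have := sum_cycleWeight_single hτ t n le_rfl
      rw [hall, List.take_of_length_le t.2.1.le, Nat.sub_self, pow_zero, one_mul] at this
      rw [hA, LinearMap.sum_apply]
      simpa only [LinearMap.smul_apply] using this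
  have h1 : (semiChar S : Equiv.Perm (Fin n) → ℂ) 1 = (Fintype.card (Tab m n S.1) : ℂ) := by
    show (seminormal m n S.1).character 1 = _
    rw [Representation.char_one, Module.finrank_finsupp_self]
  rw [hA, map_sum, Finset.sum_const, Finset.card_univ, nsmul_eq_mul] at htr
  rw [h1, mul_comm]
  rw [← htr]
  refine Finset.sum_congr rfl fun σ _ => ?_
  rw [map_smul, smul_eq_mul]
  rfl

/-- The content polynomial. -/
theorem contentPoly (S : {S : Finset ℕ // IsShape m n S}) :
    ∑ σ : Equiv.Perm (Fin n), Polynomial.C (((Equiv.Perm.sign σ : ℤ) : ℂ) *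
        (semiChar S : Equiv.Perm (Fin n) → ℂ) σ / (semiChar S : Equiv.Perm (Fin n) → ℂ) 1) * X ^ orbCount σ =
      ((someTab S).1.map fun a => X - Polynomial.C (content m a)).prod := by
  refine Polynomial.eq_of_infinite_eval_eq _ _ (Set.Infinite.mono (s := Set.range fun k : ℕ => ((k + 1 : ℕ) : ℂ)) ?_ ?_)
  · rintro _ ⟨k, rfl⟩
    simp only [Set.mem_setOf_eq, eval_finsetSum, eval_mul, eval_C, eval_pow, eval_X, eval_list_prod,
      List.map_map]
    have hne : ((k + 1 : ℕ) : ℂ) ≠ 0 := Nat.cast_ne_zero.mpr (Nat.succ_ne_zero k)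
    have h1 : (semiChar S : Equiv.Perm (Fin n) → ℂ) 1 ≠ 0 := by
      show (seminormal m n S.1).character 1 ≠ 0
      rw [Representation.char_one, Module.finrank_finsupp_self, Nat.cast_ne_zero]
      exact (Fintype.card_pos_iff.mpr ⟨someTab S⟩).ne'
    have := sum_cycleWeight_char S hne
    replace this := (eq_div_iff h1).mpr this.symm
    rw [show ((someTab S).1.map ((fun p => eval ((k + 1 : ℕ) : ℂ) p) ∘ fun a => X - Polynomial.C (content m a))) =
      (someTab S).1.map fun a => ((k + 1 : ℕ) : ℂ) - content m a from List.map_congr_left fun a _ => by simp,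
      this, Finset.sum_div]
    refine Finset.sum_congr rfl fun σ _ => ?_
    rw [cycleWeight]
    ring
  · exact Set.infinite_range_of_injective fun a b h => by simpa using h

end CfsgLib.SymBlock
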