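import Cfsg.Agent.Lib.SymBlock.ContentPoly
import Cfsg.Agent.Lib.Blocks.MainFirst
import Cfsg.Agent.Lib.Char.Virtual

/-!
# Content residues of a character of an induced block
-/

set_option autoImplicit false

namespace CfsgLib.SymBlock

open Cfsg CfsgLib.Blocks Polynomial

/-- Induced blocks see every integral class function alike. -/
theorem omega_congr_of_isInducedBlock {G : Type*} [Group G] [Fintype G] {p : ℕ} {M : Ideal AlgInt}
    (hM : IsPModular p M) {H : Subgroup G} [Fintype H] {b : Set (IrrCharacter H)}
    {B : Set (IrrCharacter G)} (h : IsInducedBlock M H b B) {ξ : IrrCharacter H} (hξ : ξ ∈ b)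
    {χ : IrrCharacter G} (hχ : χ ∈ B) {f : G → ℂ} (hf : IsClassFunction G f)
    (hint : ∀ g, MemLocalRing M (f g)) :
    MemLocalIdeal M (omega (ξ : H → ℂ) (fun x => f (x : G)) - omega (χ : G → ℂ) f) := by
  classical
  have := isPrime_of_isPModular hM
  have : Fintype (ConjClasses G) := Fintype.ofFinite _
  have hq : ∀ (c : ConjClasses G) (x : G), IsConj (Quotient.out c) x ↔ c = ConjClasses.mk x :=
    fun c x => by
      rw [← ConjClasses.mk_eq_mk_iff_isConj,
        show ConjClasses.mk (Quotient.out c) = c from Quotient.out_eq c]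
  have hexp : omega (ξ : H → ℂ) (fun x => f (x : G)) = ∑ c : ConjClasses G,
      f (Quotient.out c) * inducedCentralChar H (ξ : H → ℂ) (Quotient.out c) := by
    simp only [inducedCentralChar_eq_omega, ← omega_smul, ← omega_sum]
    congr 1
    funext x
    simp only [Finset.sum_apply, Pi.smul_apply, smul_eq_mul, classInd, hq, mul_ite, mul_one,
      mul_zero, Finset.sum_ite_eq', Finset.mem_univ, if_true]
    exact (IsClassFunction.eq_of_isConj hf ((hq _ _).mpr rfl)).symm
  rw [hexp, omega_eq_sum_classes χ hf, ← Finset.sum_sub_distrib]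
  refine memLocalIdeal_sum _ _ fun c _ => ?_
  rw [← mul_sub]
  exact memLocalIdeal_mul_left (hint _) (h.2.2 ξ hξ χ hχ _)

/-- An irreducible character of a product with abelian factor. -/
theorem exists_eq_linear_mul {A K : Type*} [CommGroup A] [Group K] [Finite A] [Finite K]
    (ξ : IrrCharacter (A × K)) :
    ∃ (l : A →* ℂ) (μ : IrrCharacter K), ∀ a k, (ξ : A × K → ℂ) (a, k) = l a * (μ : K → ℂ) k := by
  obtain ⟨d, ρ, hρ, hd⟩ := ξ.2
  have hc : ∀ a : A, ∃ c : ℂ, ρ (a, 1) = c • LinearMap.id := by
    intro a
    let T : Representation.IntertwiningMap ρ ρ := ⟨ρ (a, 1), fun h => by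
      rw [← Module.End.mul_eq_comp, ← Module.End.mul_eq_comp, ← map_mul, ← map_mul]
      congr 1
      exact Prod.ext (mul_comm _ _) (by simp)⟩
    obtain ⟨c, hc⟩ :=
      (Representation.IsIrreducible.algebraMap_intertwiningMap_bijective_of_isAlgClosed (ρ := ρ)).2 T
    refine ⟨c, ?_⟩
    rw [show ρ (a, 1) = T.toLinearMap from rfl, ← hc, Algebra.algebraMap_eq_smul_one]
    rfl
  choose c hc using hc
  set σ : Representation ℂ K (Fin d → ℂ) := ρ.comp (MonoidHom.inr A K) with hσ
  have hsplit : ∀ a k, ρ (a, k) = c a • σ k := by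
    intro a k
    rw [show ((a, k) : A × K) = (a, 1) * (1, k) by simp, map_mul, hc]
    rfl
  have hirr : σ.IsIrreducible := by
    refine (OrderIso.isSimpleOrder_iff ?_).mp hρ
    exact
      { toFun := fun U => ⟨U.toSubmodule, fun k v hv => U.apply_mem_toSubmodule (1, k) hv⟩
        invFun := fun U => ⟨U.toSubmodule, fun g v hv => by
          rw [hsplit g.1 g.2, LinearMap.smul_apply]
          exact U.toSubmodule.smul_mem _ (U.apply_mem_toSubmodule g.2 hv)⟩
        left_inv := fun U => rfl
        right_inv := fun U => rfl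
        map_rel_iff' := Iff.rfl }
  have hpos := CfsgLib.Char.finrank_pos_of_irreducible ρ
  obtain ⟨v, hv⟩ : ∃ v : Fin d → ℂ, v ≠ 0 := by
    have := Module.nontrivial_of_finrank_pos hpos
    exact exists_ne 0
  have hinj : ∀ a b : ℂ, a • v = b • v → a = b := fun a b h => smul_left_injective ℂ hv h
  refine ⟨{ toFun := c, map_one' := hinj _ _ ?_, map_mul' := fun a b => hinj _ _ ?_ },
    ⟨σ.character, CfsgLib.Char.isIrrCharacter_character σ⟩, fun a k => ?_⟩
  · have h := LinearMap.congr_fun (hc 1) v
    rw [← Prod.one_eq_mk, map_one] at h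
    simpa using h.symm
  · have h1 := LinearMap.congr_fun (hc (a * b)) v
    rw [show ((a * b, 1) : A × K) = (a, 1) * (b, 1) by simp, map_mul, hc, hc] at h1
    simpa [smul_smul, mul_comm] using h1.symm
  · rw [← hd]
    show LinearMap.trace ℂ _ (ρ (a, k)) = c a * LinearMap.trace ℂ _ (σ k)
    rw [hsplit, map_smul, smul_eq_mul]

/-- The coefficient class functions. -/
noncomputable def orbFun (n k : ℕ) (σ : Equiv.Perm (Fin n)) : ℂ :=
  if orbCount σ = k then ((Equiv.Perm.sign σ : ℤ) : ℂ) else 0

theorem orbCount_conj {α : Type*} [Finite α] (σ τ : Equiv.Perm α) :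
    orbCount (τ * σ * τ⁻¹) = orbCount σ := by
  refine (orbCount_eq_of_card (k := 0) ?_).trans (Nat.add_zero _)
  exact
    { toFun := fun c => (⟨fun x => c.1 (τ x), fun x => by simpa using c.2 (τ x)⟩, Fin.elim0)
      invFun := fun q => ⟨fun x => q.1.1 (τ⁻¹ x), fun x => by simpa using q.1.2 (τ⁻¹ x)⟩
      left_inv := fun c => Subtype.ext (funext fun x => by simp)
      right_inv := fun q => Prod.ext (Subtype.ext (funext fun x => by simp)) (funext fun i => i.elim0) }

theorem isClassFunction_orbFun (n k : ℕ) : IsClassFunction (Equiv.Perm (Fin n)) (orbFun n k) := by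
  intro g h
  simp only [orbFun, orbCount_conj, map_mul, map_inv, mul_comm (Equiv.Perm.sign h), mul_inv_cancel_right]

variable {p : ℕ} {M : Ideal AlgInt} [M.IsPrime]

theorem memLocalRing_orbFun (n k : ℕ) (σ : Equiv.Perm (Fin n)) : MemLocalRing M (orbFun n k σ) := by
  rw [orbFun]
  split_ifs
  exacts [memLocalRing_intCast _, memLocalRing_zero]

theorem res_intCast (z : ℤ) : res M (z : ℂ) = (z : ResField M) := by
  rw [res_mk (memLocalRing_intCast z), ← map_intCast (Ideal.Quotient.mk (locIdeal M))]
  rfl

variable (M) in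
/-- The content polynomial over the residue field. -/
noncomputable def resPoly {m n : ℕ} (S : {S : Finset ℕ // IsShape m n S}) : (ResField M)[X] :=
  ((someTab S).1.map fun a : ℕ => X - C (((a : ℤ) + 1 - m : ℤ) : ResField M)).prod

theorem coeff_resPoly {m n : ℕ} (S : {S : Finset ℕ // IsShape m n S}) (k : ℕ) :
    (resPoly M S).coeff k = res M (omega (semiChar S : Equiv.Perm (Fin n) → ℂ) (orbFun n k)) := by
  set P : ℤ[X] := ((someTab S).1.map fun a : ℕ => X - C ((a : ℤ) + 1 - m)).prod with hP
  have h1 : resPoly M S = P.map (Int.castRingHom (ResField M)) := by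
    rw [hP, ← coe_mapRingHom, map_list_prod, List.map_map, resPoly]
    congr 1
    exact List.map_congr_left fun a _ => by simp
  have h2 : ((someTab S).1.map fun a => X - Polynomial.C (content m a)).prod =
      P.map (Int.castRingHom ℂ) := by
    rw [hP, ← coe_mapRingHom, map_list_prod, List.map_map]
    congr 1
    exact List.map_congr_left fun a _ => by simp [content]
  have h3 := congrArg (fun Q : ℂ[X] => Q.coeff k) (contentPoly S)
  simp only [h2, finsetSum_coeff, coeff_C_mul_X_pow, coeff_map, eq_intCast] at h3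
  have h4 : omega (semiChar S : Equiv.Perm (Fin n) → ℂ) (orbFun n k) = ((P.coeff k : ℤ) : ℂ) := by
    rw [← h3, omega, Finset.sum_div]
    refine Finset.sum_congr rfl fun σ _ => ?_
    by_cases h : orbCount σ = k
    · simp [orbFun, h]
    · simp [orbFun, h, Ne.symm h]
  rw [h4, res_intCast, h1, coeff_map, eq_intCast]

theorem orbCount_le_card {α : Type*} [Finite α] (σ : Equiv.Perm α) : orbCount σ ≤ Nat.card α :=
  Nat.card_le_card_of_surjective _ Quotient.mk_surjective

/-- The content polynomials of a block of `E × Sym r` and of the induced block. -/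
theorem resPoly_eq (hM : IsPModular p M) {A : Type*} [CommGroup A] [Fintype A] {m n r : ℕ}
    (hA : ∀ a : A, a ^ p = 1) (hrm : r ≤ m)
    (φ : A × Equiv.Perm (Fin r) →* Equiv.Perm (Fin n)) (hφ : Function.Injective φ)
    (j : A → ℕ) (hj : ∀ a π, orbCount (φ (a, π)) = orbCount π + j a)
    (hsgn : ∀ a π, Equiv.Perm.sign (φ (a, π)) = Equiv.Perm.sign (φ (a, 1)) * Equiv.Perm.sign π)
    {b : Set (IrrCharacter φ.range)} {B : Set (IrrCharacter (Equiv.Perm (Fin n)))}
    (h : IsInducedBlock M φ.range b B) {ξ : IrrCharacter φ.range} (hξ : ξ ∈ b) :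
    ∃ (l : A →* ℂ) (S₀ : {S : Finset ℕ // IsShape m r S}),
      (∀ a π, (ξ : φ.range → ℂ) ⟨φ (a, π), (a, π), rfl⟩ =
        l a * (semiChar S₀ : Equiv.Perm (Fin r) → ℂ) π) ∧
      ∀ S : {S : Finset ℕ // IsShape m n S}, semiChar S ∈ B →
        resPoly M S = (∑ a : A, C ((Equiv.Perm.sign (φ (a, 1)) : ℤ) : ResField M) * X ^ j a) *
          resPoly M S₀ := by
  classical
  let e : A × Equiv.Perm (Fin r) ≃* φ.range := MonoidHom.ofInjective hφ
  obtain ⟨l, μ, hμ⟩ := exists_eq_linear_mul
    (⟨fun x => (ξ : φ.range → ℂ) (e x), CfsgLib.Char.isIrrCharacter_comp_equiv e |>.mpr ξ.2⟩ :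
      IrrCharacter (A × Equiv.Perm (Fin r)))
  obtain ⟨S₀, rfl⟩ := semiChar_surjective hrm μ
  have hl1 : ∀ a, l a ^ p ^ 1 = 1 := fun a => by rw [pow_one, ← map_pow, hA, map_one]
  refine ⟨l, S₀, fun a π => hμ a π, fun S hS => ?_⟩
  ext k
  rw [coeff_resPoly, Finset.sum_mul, finsetSum_coeff]
  have hcongr := omega_congr_of_isInducedBlock hM h hξ hS (isClassFunction_orbFun n k)
    (memLocalRing_orbFun n k)
  rw [← (res_eq_iff (memLocalRing_omega ξ (fun g x => isClassFunction_orbFun n k _ _)
    (fun g => memLocalRing_orbFun n k _)) (memLocalRing_omega _ (isClassFunction_orbFun n k)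
    (memLocalRing_orbFun n k))).mpr hcongr]
  -- expansion of the restricted sum
  have hsum : omega (ξ : φ.range → ℂ) (fun x => orbFun n k (x : Equiv.Perm (Fin n))) =
      ∑ a : A, l a * (if j a ≤ k then ((Equiv.Perm.sign (φ (a, 1)) : ℤ) : ℂ) *
        omega (semiChar S₀ : Equiv.Perm (Fin r) → ℂ) (orbFun r (k - j a)) else 0) := by
    have h1 : (ξ : φ.range → ℂ) 1 = (semiChar S₀ : Equiv.Perm (Fin r) → ℂ) 1 := by
      have := hμ 1 1
      rw [map_one, one_mul] at this
      rw [← this]
      show _ = (ξ : φ.range → ℂ) (e (1, 1))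
      rw [← Prod.one_eq_mk, map_one]
    rw [omega, ← e.toEquiv.sum_comp, Fintype.sum_prod_type, Finset.sum_div, h1]
    refine Finset.sum_congr rfl fun a _ => ?_
    have hx : ∀ π, (ξ : φ.range → ℂ) (e (a, π)) = l a * (semiChar S₀ : Equiv.Perm (Fin r) → ℂ) π :=
      hμ a
    have he : ∀ π, ((e (a, π) : φ.range) : Equiv.Perm (Fin n)) = φ (a, π) := fun π => rfl
    simp only [MulEquiv.toEquiv_eq_coe, EquivLike.coe_coe, hx, he]
    split_ifs with hk
    · rw [omega, ← mul_div_assoc, ← mul_div_assoc, Finset.mul_sum, Finset.mul_sum]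
      congr 1
      refine Finset.sum_congr rfl fun π _ => ?_
      have : orbCount π + j a = k ↔ orbCount π = k - j a := by omega
      simp only [orbFun, hj, this, hsgn a π, Units.val_mul, Int.cast_mul]
      split_ifs <;> ring
    · rw [mul_zero, Finset.sum_eq_zero, zero_div]
      intro π _
      simp only [orbFun, hj, show ¬ orbCount π + j a = k by omega, if_false, zero_mul]
  have hmem : ∀ i, MemLocalRing M (omega (semiChar S₀ : Equiv.Perm (Fin r) → ℂ) (orbFun r i)) :=
    fun i => memLocalRing_omega _ (isClassFunction_orbFun r i) (memLocalRing_orbFun r i)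
  have hlmem : ∀ a, MemLocalRing M (l a) := fun a => memLocalRing_of_isIntegral
    (IsIntegral.of_pow (pow_pos hM.1.pos 1) (hl1 a ▸ isIntegral_one))
  rw [hsum, res_sum _ _ fun a _ => by
    refine memLocalRing_mul (hlmem a) ?_
    split_ifs
    exacts [memLocalRing_mul (memLocalRing_intCast _) (hmem _), memLocalRing_zero]]
  refine Finset.sum_congr rfl fun a _ => ?_
  rw [mul_assoc, coeff_C_mul, coeff_X_pow_mul']
  have hl : res M (l a) = 1 := by
    rw [← res_one]
    exact (res_eq_iff (hlmem a) memLocalRing_one).mpr (memLocalIdeal_root_sub_one hM (hl1 a))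
  split_ifs with hk
  · rw [res_mul (hlmem a) (memLocalRing_mul (memLocalRing_intCast _) (hmem _)), hl, one_mul,
      res_mul (memLocalRing_intCast _) (hmem _), res_intCast, coeff_resPoly]
  · rw [mul_zero, mul_zero, res_zero]

/-- Equality of content polynomials as equality of residues. -/
theorem residues_of_resPoly_eq (hM : IsPModular p M) [Fact p.Prime] {m n r u : ℕ}
    (S : {S : Finset ℕ // IsShape m n S}) (S₀ : {S : Finset ℕ // IsShape m r S})
    (h : resPoly M S = (X ^ p - X) ^ u * resPoly M S₀) :
    (((someTab S).1.map fun a : ℕ => (a : ZMod p)) : Multiset (ZMod p)) =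
      (((someTab S₀).1.map fun a : ℕ => (a : ZMod p)) : Multiset (ZMod p)) +
        u • (Finset.univ : Finset (ZMod p)).val := by
  classical
  have := charP_resField hM
  set ι : ZMod p →+* ResField M := ZMod.castHom dvd_rfl _
  have hι : Function.Injective ι := ι.injective
  let sh : ZMod p → ResField M := fun x => ι (x + 1 - (m : ZMod p))
  have hsh : Function.Injective sh := fun x y hxy => sub_left_injective.comp (add_left_injective 1) (hι hxy)
  have hroots : ∀ {k : ℕ} (T : {S : Finset ℕ // IsShape m k S}),
      resPoly M T = ((((someTab T).1.map fun a : ℕ => (a : ZMod p)) : Multiset (ZMod p)).map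
        fun x => X - C (sh x)).prod := by
    intro k T
    rw [Multiset.map_coe, Multiset.prod_coe, List.map_map, resPoly]
    congr 1
    exact List.map_congr_left fun a _ => by simp [sh, Int.cast_sub, Int.cast_add]
  have huniv : (((Finset.univ : Finset (ZMod p)).val.map fun x => X - C (sh x)).prod : (ResField M)[X]) =
      X ^ p - X := by
    have hmap : (Finset.univ : Finset (ZMod p)).val.map sh = (Finset.univ : Finset (ZMod p)).val.map ι := by
      have : (Finset.univ : Finset (ZMod p)).val.map (fun x => x + 1 - (m : ZMod p)) = Finset.univ.val := by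
        have := congrArg Finset.val (Finset.map_univ_equiv
          ((Equiv.addRight (1 : ZMod p)).trans (Equiv.subRight (m : ZMod p))))
        rwa [Finset.map_val] at this
      calc _ = ((Finset.univ : Finset (ZMod p)).val.map (fun x => x + 1 - (m : ZMod p))).map ι := by
            rw [Multiset.map_map]; rfl
        _ = _ := by rw [this]
    calc _ = (((Finset.univ : Finset (ZMod p)).val.map sh).map fun y => X - C y).prod := by
          rw [Multiset.map_map]; rfl
      _ = (((Finset.univ : Finset (ZMod p)).val.map ι).map fun y => X - C y).prod := by rw [hmap]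
      _ = Polynomial.map ι (((Finset.univ : Finset (ZMod p)).val.map fun y => X - C y).prod) := by
          rw [Polynomial.map_multiset_prod, Multiset.map_map, Multiset.map_map]
          congr 1
          exact Multiset.map_congr rfl fun x _ => by simp
      _ = _ := by
          have h1 := FiniteField.roots_X_pow_card_sub_X (ZMod p)
          rw [ZMod.card] at h1
          have hdeg : (X ^ p - X : (ZMod p)[X]).natDegree = p :=
            FiniteField.X_pow_card_sub_X_natDegree_eq _ (Fact.out : p.Prime).one_lt
          have hmon : (X ^ p - X : (ZMod p)[X]).Monic :=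
            monic_X_pow_sub (by rw [degree_X]; exact_mod_cast (Fact.out : p.Prime).one_lt)
          have h2 := prod_multiset_X_sub_C_of_monic_of_roots_card_eq hmon
            (by rw [hdeg, h1, Finset.card_val, Finset.card_univ, ZMod.card])
          rw [h1] at h2
          rw [h2]
          simp
  refine Multiset.map_injective hsh ?_
  have key := congrArg Polynomial.roots h
  have hu : (X ^ p - X) ^ u * resPoly M S₀ = (((((someTab S₀).1.map fun a : ℕ => (a : ZMod p)) :
      Multiset (ZMod p)) + u • (Finset.univ : Finset (ZMod p)).val).map fun x => X - C (sh x)).prod := by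
    rw [Multiset.map_add, Multiset.prod_add, Multiset.map_nsmul, Multiset.prod_nsmul, huniv, ← hroots, mul_comm]
  rw [hu, hroots] at key
  rw [← roots_multiset_prod_X_sub_C (Multiset.map sh _), ← roots_multiset_prod_X_sub_C (Multiset.map sh (_ + _))]
  simpa only [Multiset.map_map, Function.comp_def] using key

end CfsgLib.SymBlock
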