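import Cfsg.Agent.Lib.SymBlock.Beads

/-!
# The hook formula for bead positions, and shapes of defect zero

The number of bead-move sequences ending in `S`, times the product of the hook lengths
`s - k` (`s ∈ S`, `k < s` free), is `r!`.  If the number of sequences carries the full `p`-part of
`r!`, no hook length is divisible by `p`, so `S` is a `p`-core.
-/

set_option autoImplicit false

namespace CfsgLib.SymBlock

/-- The product of the hook lengths. -/
def hookProd (S : Finset ℕ) : ℕ := ∏ s ∈ S, ∏ k ∈ Finset.range s \ S, (s - k)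

/-- The product of the differences inside the position. -/
def diffProd (S : Finset ℕ) : ℕ := ∏ s ∈ S, ∏ k ∈ S.filter (· < s), (s - k)

/-- The weight of a bead in the branching identity. -/
def weight (S : Finset ℕ) (s : ℕ) : ℚ := ∏ k ∈ S.erase s, (1 - 1 / ((s : ℚ) - k))

theorem hookProd_mul_diffProd (S : Finset ℕ) :
    hookProd S * diffProd S = ∏ s ∈ S, s.factorial := by
  rw [hookProd, diffProd, ← Finset.prod_mul_distrib]
  refine Finset.prod_congr rfl fun s _ => ?_
  have hdis : Disjoint (Finset.range s \ S) (S.filter (· < s)) :=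
    Finset.disjoint_left.mpr fun x hx hx' =>
      (Finset.mem_sdiff.mp hx).2 (Finset.mem_filter.mp hx').1
  rw [← Finset.prod_union hdis,
    show Finset.range s \ S ∪ S.filter (· < s) = Finset.range s by
      ext x
      simp only [Finset.mem_union, Finset.mem_sdiff, Finset.mem_range, Finset.mem_filter]
      tauto]
  rw [← Finset.prod_range_add_one_eq_factorial]
  conv_lhs => rw [← Finset.prod_range_reflect]
  refine Finset.prod_congr rfl fun k hk => ?_
  have := Finset.mem_range.mp hk
  omega

theorem diffProd_pos (S : Finset ℕ) : 0 < diffProd S :=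
  Finset.prod_pos fun s _ => Finset.prod_pos fun k hk => by
    have := (Finset.mem_filter.mp hk).2
    omega

theorem hookProd_pos (S : Finset ℕ) : 0 < hookProd S :=
  Finset.prod_pos fun s _ => Finset.prod_pos fun k hk => by
    have := Finset.mem_range.mp (Finset.mem_sdiff.mp hk).1
    omega

theorem diffProd_insert {T : Finset ℕ} {s : ℕ} (hs : s ∉ T) :
    diffProd (insert s T) = diffProd T * ∏ k ∈ T, Nat.dist s k := by
  have h1 : ∀ x ∈ T, ∏ k ∈ (insert s T).filter (· < x), (x - k) =
      (if s < x then x - s else 1) * ∏ k ∈ T.filter (· < x), (x - k) := by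
    intro x _
    rw [Finset.filter_insert]
    split_ifs with h
    · rw [Finset.prod_insert fun hh => hs (Finset.mem_filter.mp hh).1]
    · rw [one_mul]
  have h2 : (insert s T).filter (· < s) = T.filter (· < s) := by
    rw [Finset.filter_insert, if_neg (lt_irrefl s)]
  rw [diffProd, Finset.prod_insert hs, h2, Finset.prod_congr rfl h1, Finset.prod_mul_distrib,
    Finset.prod_filter, diffProd, ← mul_assoc, ← Finset.prod_mul_distrib, mul_comm]
  refine congrArg _ (Finset.prod_congr rfl fun k hk => ?_)
  have : k ≠ s := fun h => hs (h ▸ hk)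
  rcases lt_or_gt_of_ne this with h | h
  · rw [if_pos h, if_neg (by omega), mul_one, Nat.dist_eq_sub_of_le_right h.le]
  · rw [if_neg (by omega), if_pos h, one_mul, Nat.dist_eq_sub_of_le h.le]

/-- Moving the bead at `a + 1` down changes the hook product by the weight. -/
theorem hookProd_eq {S : Finset ℕ} {a : ℕ} (hs : a + 1 ∈ S) (ha : a ∉ S) :
    (hookProd S : ℚ) =
      hookProd (insert a (S.erase (a + 1))) * (((a + 1 : ℕ) : ℚ) * weight S (a + 1)) := by
  set T := S.erase (a + 1) with hT
  have hS : S = insert (a + 1) T := (Finset.insert_erase hs).symm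
  have hsT : a + 1 ∉ T := Finset.notMem_erase _ _
  have haT : a ∉ T := fun h => ha (Finset.mem_of_mem_erase h)
  have e1 := hookProd_mul_diffProd S
  have e2 := hookProd_mul_diffProd (insert a T)
  rw [hS, diffProd_insert hsT, Finset.prod_insert hsT, ← hS, Nat.factorial_succ] at e1
  rw [diffProd_insert haT, Finset.prod_insert haT] at e2
  have e3 : hookProd S * ∏ k ∈ T, Nat.dist (a + 1) k =
      hookProd (insert a T) * ((a + 1) * ∏ k ∈ T, Nat.dist a k) := by
    refine Nat.eq_of_mul_eq_mul_left (diffProd_pos T) ?_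
    calc diffProd T * (hookProd S * ∏ k ∈ T, Nat.dist (a + 1) k)
        = hookProd S * (diffProd T * ∏ k ∈ T, Nat.dist (a + 1) k) := by ring
      _ = (a + 1) * (a.factorial * ∏ s ∈ T, s.factorial) := by rw [e1]; ring
      _ = (a + 1) * (hookProd (insert a T) * (diffProd T * ∏ k ∈ T, Nat.dist a k)) := by rw [e2]
      _ = _ := by ring
  have hw : weight S (a + 1) * ((∏ k ∈ T, Nat.dist (a + 1) k : ℕ) : ℚ) =
      ((∏ k ∈ T, Nat.dist a k : ℕ) : ℚ) := by
    rw [weight, Nat.cast_prod, Nat.cast_prod, ← hT, ← Finset.prod_mul_distrib]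
    refine Finset.prod_congr rfl fun k hk => ?_
    have hk1 : k ≠ a + 1 := fun h => hsT (h ▸ hk)
    have hka : k ≠ a := fun h => haT (h ▸ hk)
    have hne : ((a + 1 : ℕ) : ℚ) - k ≠ 0 := sub_ne_zero.mpr (by exact_mod_cast hk1.symm)
    rcases lt_or_gt_of_ne hka with h | h
    · rw [Nat.dist_eq_sub_of_le_right (by omega), Nat.dist_eq_sub_of_le_right h.le,
        Nat.cast_sub (by omega), Nat.cast_sub h.le, sub_mul, one_mul, one_div, inv_mul_cancel₀ hne]
      push_cast
      ring
    · rw [Nat.dist_eq_sub_of_le (by omega), Nat.dist_eq_sub_of_le h.le,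
        Nat.cast_sub (by omega), Nat.cast_sub h.le, sub_mul, one_mul, one_div,
        show ((k : ℚ) - ((a + 1 : ℕ) : ℚ)) = -(((a + 1 : ℕ) : ℚ) - k) by ring, mul_neg,
        inv_mul_cancel₀ hne]
      push_cast
      ring
  have hd : ((∏ k ∈ T, Nat.dist (a + 1) k : ℕ) : ℚ) ≠ 0 := by
    refine Nat.cast_ne_zero.mpr (Finset.prod_ne_zero_iff.mpr fun k hk h => ?_)
    exact hsT ((Nat.eq_of_dist_eq_zero h) ▸ hk)
  refine mul_right_cancel₀ hd ?_
  have h4 := congrArg (Nat.cast : ℕ → ℚ) e3
  rw [Nat.cast_mul, Nat.cast_mul, Nat.cast_mul, ← hw] at h4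
  rw [h4]
  ring

theorem weight_insert {S : Finset ℕ} {u s : ℕ} (hu : u ∉ S) (hs : s ∈ S) :
    weight (insert u S) s = weight S s * (1 - 1 / ((s : ℚ) - u)) := by
  have hne : u ≠ s := fun h => hu (h ▸ hs)
  rw [weight, weight, Finset.erase_insert_of_ne hne,
    Finset.prod_insert fun h => hu (Finset.mem_of_mem_erase h), mul_comm]

theorem weight_new {S : Finset ℕ} {u : ℕ} (hu : u ∉ S) :
    weight (insert u S) u = ∏ k ∈ S, (1 - 1 / ((u : ℚ) - k)) := by
  rw [weight, Finset.erase_insert hu]

theorem sum_weight_div (S : Finset ℕ) : ∀ t : ℕ, t ∉ S →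
    ∑ s ∈ S, weight S s / ((s : ℚ) - t) = (∏ k ∈ S, (1 - 1 / ((t : ℚ) - k))) - 1 := by
  induction S using Finset.induction with
  | empty => intro t _; simp
  | insert u S hu ih =>
    intro t ht
    rw [Finset.mem_insert, not_or] at ht
    have hut : (u : ℚ) - t ≠ 0 := sub_ne_zero.mpr (by exact_mod_cast Ne.symm ht.1)
    have htu : (t : ℚ) - u ≠ 0 := sub_ne_zero.mpr (by exact_mod_cast ht.1)
    rw [Finset.sum_insert hu, weight_new hu, Finset.prod_insert hu]
    have hsum : ∑ s ∈ S, weight (insert u S) s / ((s : ℚ) - t) =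
        ∑ s ∈ S, weight S s / ((s : ℚ) - t) -
          (∑ s ∈ S, weight S s / ((s : ℚ) - u) - ∑ s ∈ S, weight S s / ((s : ℚ) - t)) /
            ((u : ℚ) - t) := by
      rw [← Finset.sum_sub_distrib, Finset.sum_div, ← Finset.sum_sub_distrib]
      refine Finset.sum_congr rfl fun s hs => ?_
      have h1 : (s : ℚ) - u ≠ 0 := sub_ne_zero.mpr (by
        exact_mod_cast show s ≠ u from fun h => hu (h ▸ hs))
      have h2 : (s : ℚ) - t ≠ 0 := sub_ne_zero.mpr (by
        exact_mod_cast show s ≠ t from fun h => ht.2 (h ▸ hs))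
      rw [weight_insert hu hs]
      field_simp
      ring
    rw [hsum, ih t ht.2, ih u hu]
    field_simp
    ring

theorem sum_weight (S : Finset ℕ) : ∑ s ∈ S, weight S s = (S.card : ℚ) := by
  induction S using Finset.induction with
  | empty => simp
  | insert u S hu ih =>
    have hsum : ∑ s ∈ S, weight (insert u S) s =
        ∑ s ∈ S, weight S s - ∑ s ∈ S, weight S s / ((s : ℚ) - u) := by
      rw [← Finset.sum_sub_distrib]
      refine Finset.sum_congr rfl fun s hs => ?_
      rw [weight_insert hu hs]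
      ring
    rw [Finset.sum_insert hu, weight_new hu, hsum, ih, sum_weight_div S u hu,
      Finset.card_insert_of_notMem hu]
    push_cast
    ring

/-- The branching identity. -/
theorem sum_mul_weight (S : Finset ℕ) :
    ∑ s ∈ S, (s : ℚ) * weight S s =
      ∑ s ∈ S, (s : ℚ) - ∑ i ∈ Finset.range S.card, (i : ℚ) := by
  induction S using Finset.induction with
  | empty => simp
  | insert u S hu ih =>
    have hsum : ∑ s ∈ S, (s : ℚ) * weight (insert u S) s =
        ∑ s ∈ S, (s : ℚ) * weight S s -
          (∑ s ∈ S, weight S s + (u : ℚ) * ∑ s ∈ S, weight S s / ((s : ℚ) - u)) := by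
      rw [Finset.mul_sum, ← Finset.sum_add_distrib, ← Finset.sum_sub_distrib]
      refine Finset.sum_congr rfl fun s hs => ?_
      have h1 : (s : ℚ) - u ≠ 0 := sub_ne_zero.mpr (by
        exact_mod_cast show s ≠ u from fun h => hu (h ▸ hs))
      rw [weight_insert hu hs]
      field_simp
      ring
    rw [Finset.sum_insert hu, Finset.sum_insert hu, weight_new hu, hsum, ih, sum_weight,
      sum_weight_div S u hu, Finset.card_insert_of_notMem hu, Finset.sum_range_succ]
    ring

/-- The beads that can move down. -/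
def downSet (S : Finset ℕ) : Finset ℕ := S.filter fun s => 0 < s ∧ s - 1 ∉ S

/-- Move the bead at `s` down. -/
def unmove (S : Finset ℕ) (s : ℕ) : Finset ℕ := insert (s - 1) (S.erase s)

theorem unmove_spec {S : Finset ℕ} {s : ℕ} (h : s ∈ downSet S) :
    Movable (unmove S s) (s - 1) ∧ move (unmove S s) (s - 1) = S := by
  obtain ⟨hs, h0, hp⟩ := Finset.mem_filter.mp h
  have he : s - 1 + 1 = s := by omega
  have hne : s ≠ s - 1 := by omega
  refine ⟨⟨Finset.mem_insert_self _ _, ?_⟩, ?_⟩
  · rw [he, unmove]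
    simp [hne]
  · rw [move, he, unmove, Finset.erase_insert fun hh => hp (Finset.mem_of_mem_erase hh),
      Finset.insert_erase hs]

theorem of_move_eq {R S : Finset ℕ} {a : ℕ} (h : Movable R a) (he : move R a = S) :
    a + 1 ∈ downSet S ∧ R = unmove S (a + 1) := by
  subst he
  have hmem : a + 1 ∈ downSet (move R a) := Finset.mem_filter.mpr
    ⟨mem_move.mpr (Or.inl rfl), Nat.succ_pos a, by simp [mem_move]⟩
  obtain ⟨h1, h2⟩ := unmove_spec hmem
  simp only [Nat.add_sub_cancel] at h1 h2
  exact ⟨hmem, move_inj h h1 h2.symm⟩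

theorem isShape_unmove {m r : ℕ} {S : Finset ℕ} {s : ℕ} (h : IsShape m (r + 1) S)
    (hs : s ∈ downSet S) : IsShape m r (unmove S s) := by
  obtain ⟨h1, h2⟩ := unmove_spec hs
  refine ⟨?_, ?_⟩
  · rw [← card_move h1, h2, h.1]
  · have := sum_move h1
    rw [h2, h.2] at this
    omega

/-- The branching rule for the sequences. -/
theorem card_tab_succ {m r : ℕ} (S : Finset ℕ) :
    Nat.card (Tab m (r + 1) S) = ∑ s ∈ downSet S, Nat.card (Tab m r (unmove S s)) := by
  have hv : ∀ (s : downSet S) (l : Tab m r (unmove S s)),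
      (l.1 ++ [s.1 - 1]).length = r + 1 ∧ Valid (ground m) (l.1 ++ [s.1 - 1]) ∧
        endOf (ground m) (l.1 ++ [s.1 - 1]) = S := fun s l => by
    obtain ⟨h1, h2⟩ := unmove_spec s.2
    exact ⟨by simp [l.2.1], valid_concat.mpr ⟨l.2.2.1, by rw [l.2.2.2]; exact h1⟩,
      by rw [endOf_concat, l.2.2.2, h2]⟩
  let φ : (Σ s : downSet S, Tab m r (unmove S s)) → Tab m (r + 1) S :=
    fun x => ⟨x.2.1 ++ [x.1.1 - 1], hv x.1 x.2⟩
  have hφ : Function.Bijective φ := by
    refine ⟨?_, ?_⟩
    · rintro ⟨⟨s, hs⟩, l⟩ ⟨⟨t, ht⟩, l'⟩ h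
      obtain ⟨e1, e2⟩ := List.append_inj' (congrArg Subtype.val h) rfl
      have hst : s = t := by
        have := (Finset.mem_filter.mp hs).2.1
        have := (Finset.mem_filter.mp ht).2.1
        simp only [List.cons.injEq, and_true] at e2
        omega
      subst hst
      simp only [Sigma.mk.injEq, heq_eq_eq, true_and]
      exact Subtype.ext e1
    · rintro ⟨l, hl, hval, hend⟩
      rcases l.eq_nil_or_concat with rfl | ⟨l₀, a, rfl⟩
      · simp at hl
      rw [List.concat_eq_append] at hl hval hend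
      rw [valid_concat] at hval
      rw [endOf_concat] at hend
      obtain ⟨hmem, hR⟩ := of_move_eq hval.2 hend
      exact ⟨⟨⟨a + 1, hmem⟩, ⟨l₀, by simpa using hl, hval.1, hR⟩⟩,
        Subtype.ext (by simp [φ, List.concat_eq_append])⟩
  rw [← Nat.card_eq_of_bijective φ hφ, Nat.card_sigma]
  exact Finset.sum_coe_sort (downSet S) fun s => Nat.card (Tab m r (unmove S s))

/-- The hook formula. -/
theorem card_tab_mul_hookProd {m : ℕ} : ∀ {r : ℕ} {S : Finset ℕ}, IsShape m r S →
    Nat.card (Tab m r S) * hookProd S = r.factorial := by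
  intro r
  induction r with
  | zero =>
    intro S h
    have hS : S = ground m := eq_range_of_sum h.1 (by simpa using h.2.le)
    subst hS
    haveI : Unique (Tab m 0 (ground m)) :=
      { default := ⟨[], rfl, trivial, rfl⟩
        uniq := fun l => Subtype.ext (List.length_eq_zero_iff.mp l.2.1) }
    rw [Nat.card_unique, one_mul, Nat.factorial_zero]
    refine Finset.prod_eq_one fun s hs => ?_
    rw [Finset.sdiff_eq_empty_iff_subset.mpr
      (Finset.range_subset_range.mpr (Finset.mem_range.mp hs).le), Finset.prod_empty]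
  | succ r ih =>
    intro S h
    suffices hq : ((Nat.card (Tab m (r + 1) S) : ℚ) * hookProd S) = (r + 1).factorial by
      exact_mod_cast hq
    rw [card_tab_succ, Nat.cast_sum, Finset.sum_mul]
    have hterm : ∀ s ∈ downSet S, (Nat.card (Tab m r (unmove S s)) : ℚ) * hookProd S =
        (r.factorial : ℚ) * ((s : ℚ) * weight S s) := by
      intro s hs
      obtain ⟨hsS, h0, hp⟩ := Finset.mem_filter.mp hs
      obtain ⟨a, rfl⟩ : ∃ a, s = a + 1 := ⟨s - 1, by omega⟩
      have hc := ih (isShape_unmove h hs)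
      simp only [unmove, Nat.add_sub_cancel] at hp hc ⊢
      rw [hookProd_eq hsS hp, ← hc, Nat.cast_mul]
      ring
    rw [Finset.sum_congr rfl hterm, ← Finset.mul_sum]
    have hall : ∑ s ∈ downSet S, (s : ℚ) * weight S s = ∑ s ∈ S, (s : ℚ) * weight S s := by
      refine Finset.sum_subset (Finset.filter_subset _ _) fun s hs hn => ?_
      rcases Nat.eq_zero_or_pos s with rfl | h0
      · simp
      have hp : s - 1 ∈ S := by
        by_contra hp
        exact hn (Finset.mem_filter.mpr ⟨hs, h0, hp⟩)
      refine mul_eq_zero_of_right _ (Finset.prod_eq_zero (i := s - 1) ?_ ?_)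
      · exact Finset.mem_erase.mpr ⟨by omega, hp⟩
      · rw [Nat.cast_sub h0, Nat.cast_one]
        ring
    have hs2 : (∑ s ∈ S, (s : ℚ)) = (∑ i ∈ Finset.range m, (i : ℚ)) + (r + 1 : ℕ) := by
      have h2 := congrArg (Nat.cast : ℕ → ℚ) h.2
      simp only [Nat.cast_add, Nat.cast_sum] at h2 ⊢
      exact h2
    rw [hall, sum_mul_weight, h.1, hs2, add_sub_cancel_left, Nat.factorial_succ, Nat.cast_mul,
      mul_comm]

/-- A shape whose number of sequences has the full `p`-part of `r!` is a core. -/
theorem isCore_of_factorization_card_le {p m r : ℕ} [Fact p.Prime] {S : Finset ℕ}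
    (h : IsShape m r S)
    (hv : r.factorial.factorization p ≤ (Nat.card (Tab m r S)).factorization p) : IsCore p S := by
  have hp : p.Prime := Fact.out
  have hH := card_tab_mul_hookProd h
  have hf0 : Nat.card (Tab m r S) ≠ 0 := fun e => by
    rw [e, zero_mul] at hH
    exact (Nat.factorial_pos r).ne hH
  rw [← hH, Nat.factorization_mul hf0 (hookProd_pos S).ne', Finsupp.add_apply] at hv
  intro s hs hps
  by_contra hn
  have hmem : s - p ∈ Finset.range s \ S :=
    Finset.mem_sdiff.mpr ⟨Finset.mem_range.mpr (by have := hp.pos; omega), hn⟩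
  have hd : p ∣ hookProd S := by
    refine dvd_trans ?_ (Finset.dvd_prod_of_mem _ hs)
    have e : s - (s - p) = p := by omega
    exact (dvd_of_eq e.symm).trans (Finset.dvd_prod_of_mem (fun k => s - k) hmem)
  have := hp.factorization_pos_of_dvd (hookProd_pos S).ne' hd
  omega

end CfsgLib.SymBlock
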