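import Mathlib

/-!
# Homomorphisms out of the symmetric group from Coxeter relations
-/

set_option autoImplicit false

namespace CfsgLib.SymBlock

open Pointwise

section

variable {G : Type*} [Group G]

/-- The relations of the symmetric group between `k` generators. -/
structure Relations (k : ℕ) (s : ℕ → G) : Prop where
  sq : ∀ i < k, s i * s i = 1
  comm : ∀ i j, i + 1 < j → j < k → s i * s j = s j * s i
  braid : ∀ i, i + 1 < k → s i * s (i + 1) * s i = s (i + 1) * s i * s (i + 1)

theorem Relations.mono {k : ℕ} {s : ℕ → G} (h : Relations (k + 1) s) : Relations k s :=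
  ⟨fun i hi => h.sq i (by omega), fun i j hij hj => h.comm i j hij (by omega),
    fun i hi => h.braid i (by omega)⟩

/-- The product `s (k-1) * ... * s (k - j)`. -/
def descWord (s : ℕ → G) (k : ℕ) : ℕ → G
  | 0 => 1
  | j + 1 => descWord s k j * s (k - (j + 1))

theorem Relations.commute_descWord {k : ℕ} {s : ℕ → G} (h : Relations k s) {i j : ℕ}
    (hj : j ≤ k) (hij : i + 1 < k - j) : Commute (s i) (descWord s k j) := by
  induction j with
  | zero => exact Commute.one_right _
  | succ j ih =>
    exact (ih (by omega) (by omega)).mul_right (h.comm i _ (by omega) (by omega))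

theorem Relations.descWord_mul_high {k : ℕ} {s : ℕ → G} (h : Relations (k + 1) s) :
    ∀ {j i : ℕ}, j ≤ k + 1 → k + 2 ≤ i + j → i ≤ k →
      descWord s (k + 1) j * s i = s (i - 1) * descWord s (k + 1) j := by
  intro j
  induction j with
  | zero => intro i _ h1 h2; omega
  | succ j ih =>
    intro i hj h1 h2
    simp only [descWord]
    rcases Nat.lt_or_eq_of_le h1 with hlt | heq
    · rw [mul_assoc, h.comm (k + 1 - (j + 1)) i (by omega) (by omega), ← mul_assoc,
        ih (by omega) (by omega) h2, mul_assoc]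
    · obtain ⟨j, rfl⟩ : ∃ t, j = t + 1 := ⟨j - 1, by omega⟩
      simp only [descWord]
      have e1 : k + 1 - (j + 1) = i := by omega
      have e2 : k + 1 - (j + 1 + 1) = i - 1 := by omega
      rw [e1, e2]
      have hb := h.braid (i - 1) (by omega)
      rw [show i - 1 + 1 = i from by omega] at hb
      have hc : Commute (s (i - 1)) (descWord s (k + 1) j) :=
        h.commute_descWord (by omega) (by omega)
      calc descWord s (k + 1) j * s i * s (i - 1) * s i
          = descWord s (k + 1) j * (s i * s (i - 1) * s i) := by simp [mul_assoc]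
        _ = descWord s (k + 1) j * s (i - 1) * (s i * s (i - 1)) := by rw [← hb]; simp [mul_assoc]
        _ = _ := by rw [← hc.eq]; simp [mul_assoc]

/-- Right multiplication by a generator permutes the cosets. -/
theorem Relations.descWord_mul {k : ℕ} {s : ℕ → G} (h : Relations (k + 1) s) {i j : ℕ}
    (hi : i ≤ k) (hj : j ≤ k + 1) :
    ∃ j' ≤ k + 1, ∃ x ∈ Subgroup.closure (s '' Set.Iio k),
      descWord s (k + 1) j * s i = x * descWord s (k + 1) j' := by
  rcases Nat.lt_trichotomy (i + j) k with hlt | heq | hgt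
  · exact ⟨j, hj, s i, Subgroup.subset_closure ⟨i, by simp; omega, rfl⟩,
      (h.commute_descWord hj (by omega)).eq.symm⟩
  · refine ⟨j + 1, by omega, 1, one_mem _, ?_⟩
    rw [one_mul, descWord]
    congr 2
    omega
  · rcases Nat.lt_or_eq_of_le (Nat.succ_le_of_lt hgt) with h2 | h2
    · exact ⟨j, hj, s (i - 1), Subgroup.subset_closure ⟨i - 1, by simp; omega, rfl⟩,
        h.descWord_mul_high hj (by omega) hi⟩
    · obtain ⟨j, rfl⟩ : ∃ t, j = t + 1 := ⟨j - 1, by omega⟩
      refine ⟨j, by omega, 1, one_mem _, ?_⟩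
      rw [one_mul, descWord, show k + 1 - (j + 1) = i from by omega, mul_assoc, h.sq i (by omega),
        mul_one]

/-- A group with the relations of the symmetric group is not larger. -/
theorem Relations.card_closure_le {k : ℕ} {s : ℕ → G} (h : Relations k s) :
    Finite (Subgroup.closure (s '' Set.Iio k)) ∧
      Nat.card (Subgroup.closure (s '' Set.Iio k)) ≤ (k + 1).factorial := by
  induction k with
  | zero =>
    have : Subgroup.closure (s '' Set.Iio 0) = ⊥ := by simp
    rw [this]
    exact ⟨inferInstance, by simp⟩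
  | succ k ih =>
    obtain ⟨hfin, hcard⟩ := ih h.mono
    set H := Subgroup.closure (s '' Set.Iio k) with hH
    set K := Subgroup.closure (s '' Set.Iio (k + 1)) with hK
    have hHK : H ≤ K := Subgroup.closure_mono (Set.image_mono (Set.Iio_subset_Iio (by omega)))
    let f : H × Fin (k + 2) → G := fun x => (x.1 : G) * descWord s (k + 1) x.2
    have hsub : (K : Set G) ⊆ Set.range f := by
      intro g hg
      refine Subgroup.closure_induction_right (p := fun g _ => g ∈ Set.range f) ⟨(1, 0), by simp [f, descWord]⟩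
        ?_ ?_ hg
      · rintro x - _ ⟨i, hi, rfl⟩ ⟨⟨a, j⟩, rfl⟩
        obtain ⟨j', hj', y, hy, e⟩ := h.descWord_mul (i := i) (j := j) (Nat.lt_succ_iff.mp hi) (by omega)
        exact ⟨(a * ⟨y, hy⟩, ⟨j', by omega⟩), by simp [f, mul_assoc, e]⟩
      · rintro x - _ ⟨i, hi, rfl⟩ ⟨⟨a, j⟩, rfl⟩
        rw [inv_eq_of_mul_eq_one_right (h.sq i hi)]
        obtain ⟨j', hj', y, hy, e⟩ := h.descWord_mul (i := i) (j := j) (Nat.lt_succ_iff.mp hi) (by omega)
        exact ⟨(a * ⟨y, hy⟩, ⟨j', by omega⟩), by simp [f, mul_assoc, e]⟩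
    have hfinr : (Set.range f).Finite := Set.finite_range f
    have hKfin : Finite K := (hfinr.subset hsub).to_subtype
    refine ⟨hKfin, ?_⟩
    calc Nat.card K ≤ Nat.card (Set.range f) := Nat.card_mono hfinr hsub
      _ ≤ Nat.card (H × Fin (k + 2)) := Finite.card_range_le f
      _ ≤ (k + 2).factorial := by
        rw [Nat.card_prod, Nat.card_fin, Nat.factorial_succ (k + 1), mul_comm]
        exact Nat.mul_le_mul_left _ hcard

/-- The adjacent transposition of `Fin n`. -/
def adj (n i : ℕ) : Equiv.Perm (Fin n) :=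
  if h : i + 1 < n then Equiv.swap ⟨i, by omega⟩ ⟨i + 1, h⟩ else 1

theorem adj_relations (n : ℕ) : Relations (n - 1) (adj n) where
  sq i hi := by rw [adj, dif_pos (by omega), Equiv.swap_mul_self]
  comm i j hij hj := by
    rw [adj, adj, dif_pos (by omega), dif_pos (by omega)]
    refine Equiv.Perm.Disjoint.commute fun x => ?_
    simp only [Equiv.swap_apply_def, Fin.ext_iff]
    split_ifs <;> first | (left; rfl) | (right; rfl) | omega
  braid i hi := by
    rw [adj, adj, dif_pos (by omega), dif_pos (by omega)]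
    set a : Fin n := ⟨i, by omega⟩
    set b : Fin n := ⟨i + 1, by omega⟩
    set c : Fin n := ⟨i + 1 + 1, by omega⟩
    have hab : a ≠ b := by simp [a, b, Fin.ext_iff]
    have hac : a ≠ c := by simp [a, c, Fin.ext_iff]; omega
    have hbc : b ≠ c := by simp [b, c, Fin.ext_iff]
    have e1 := Equiv.swap_mul_swap_mul_swap (x := a) (y := b) (z := c) hab hac
    have e2 := Equiv.swap_mul_swap_mul_swap (x := c) (y := b) (z := a) hbc.symm hac.symm
    rw [Equiv.swap_comm b a, Equiv.swap_comm c b] at e2
    rw [e2, e1, Equiv.swap_comm]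

theorem closure_adj (n : ℕ) : Subgroup.closure (adj n '' Set.Iio (n - 1)) = ⊤ := by
  obtain _ | n := n
  · exact Subsingleton.elim _ _
  rw [← top_le_iff, ← Subgroup.closure_eq_top_of_mclosure_eq_top (Equiv.Perm.mclosure_swap_castSucc_succ n)]
  refine Subgroup.closure_mono ?_
  rintro _ ⟨i, rfl⟩
  exact ⟨i, by simp, by rw [adj, dif_pos (by omega)]; rfl⟩

/-- The homomorphism with prescribed values at the adjacent transpositions. -/
theorem exists_hom (n : ℕ) (s : ℕ → G) (h : Relations (n - 1) s) :
    ∃ φ : Equiv.Perm (Fin n) →* G, ∀ i, i + 1 < n → φ (adj n i) = s i := by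
  classical
  let t : ℕ → G × Equiv.Perm (Fin n) := fun i => (s i, adj n i)
  have ht : Relations (n - 1) t :=
    ⟨fun i hi => Prod.ext (h.sq i hi) ((adj_relations n).sq i hi),
      fun i j a b => Prod.ext (h.comm i j a b) ((adj_relations n).comm i j a b),
      fun i hi => Prod.ext (h.braid i hi) ((adj_relations n).braid i hi)⟩
  obtain ⟨hfin, hcard⟩ := ht.card_closure_le
  set Γ := Subgroup.closure (t '' Set.Iio (n - 1))
  let π : Γ →* Equiv.Perm (Fin n) := (MonoidHom.snd G _).comp Γ.subtype
  have hπ : Function.Surjective π := by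
    rw [← MonoidHom.range_eq_top, ← top_le_iff, ← closure_adj n, Subgroup.closure_le]
    rintro _ ⟨i, hi, rfl⟩
    exact ⟨⟨t i, Subgroup.subset_closure ⟨i, hi, rfl⟩⟩, rfl⟩
  have hbij : Function.Bijective π := by
    refine hπ.bijective_of_nat_card_le ?_
    rw [Nat.card_perm, Nat.card_fin]
    obtain _ | n := n
    · simpa using hcard
    · simpa using hcard
  let e := MulEquiv.ofBijective π hbij
  refine ⟨((MonoidHom.fst G _).comp Γ.subtype).comp e.symm.toMonoidHom, fun i hi => ?_⟩
  have : e.symm (adj n i) = ⟨t i, Subgroup.subset_closure ⟨i, by simp; omega, rfl⟩⟩ := by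
    apply e.injective
    rw [e.apply_symm_apply]
    rfl
  simp [this, t]

end

end CfsgLib.SymBlock
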