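import Cfsg.Agent.Lib.SymBlock.Model
import Cfsg.Agent.Lib.Char.Counting
import Cfsg.Agent.Lib.Char.Clifford

/-!
# The defect groups of symmetric and alternating blocks as abstract groups

A maximal `p`-subgroup of the centralizer of a `p`-regular element that contains `u` disjoint
`p`-cycles and has order the `p`-part of `(pu)!` is conjugate to the wreath product of the
translations with a Sylow subgroup of the permutations of the blocks. It is abelian for `u < p`,
and otherwise it, or for `p = 2` and `u ≥ 3` its even part, has an irreducible character of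
degree `p`.
-/

set_option autoImplicit false
set_option linter.unusedSectionVars false
set_option linter.style.haveILetI false

namespace CfsgLib.SymBlock

open Cfsg CfsgLib.Char

section Degree

variable {p : ℕ} [hp : Fact p.Prime] {G : Type*} [Group G] [Finite G]

/-- A linear character of a normal subgroup of index `p` that is not invariant induces an
irreducible character of degree `p`. -/
theorem exists_degree_of_not_invariant (N : Subgroup G) [hN : N.Normal] (hi : N.index = p)
    (lam : N →* ℂˣ) (x : G) (m : N) (h : lam ⟨x * m * x⁻¹, hN.conj_mem _ m.2 x⟩ ≠ lam m) :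
    ∃ φ : IrrCharacter G, charDegree (φ : G → ℂ) = p := by
  classical
  letI := Fintype.ofFinite G
  let θ : N → ℂ := fun n => (lam n : ℂ)
  have hθ : IsIrrCharacter N θ := isIrrCharacter_monoidHom lam
  have hle : N ≤ inertia N θ := le_inertia N (isClassFunction_of_isCharacter (isCharacter_monoidHom lam))
  have hne : inertia N θ ≠ ⊤ := fun htop => h (Units.ext ((mem_inertia_iff N).1 (htop ▸ Subgroup.mem_top x) m))
  have hidx : (inertia N θ).index = p :=
    ((Nat.dvd_prime hp.out).1 (hi ▸ Subgroup.index_dvd_of_le hle)).resolve_left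
      fun h1 => hne (Subgroup.index_eq_one.1 h1)
  have hcard : Nat.card (inertia N θ) = Nat.card N := by
    refine Nat.eq_of_mul_eq_mul_right hp.out.pos ?_
    conv_lhs => rw [← hidx, Subgroup.card_mul_index]
    rw [← hi, Subgroup.card_mul_index]
  have hnorm : classInner (indFun N θ) (indFun N θ) = 1 := by
    rw [classInner_indFun_indFun N hθ hθ, if_pos (self_mem_orbit N θ), hcard,
      div_self (Nat.cast_ne_zero.2 Nat.card_pos.ne')]
  refine ⟨⟨indFun N θ, isIrr_of_norm_one (isCharacter_indFun N (isCharacter_monoidHom lam)) hnorm⟩, ?_⟩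
  show ⌊(indFun N θ 1).re⌋₊ = p
  simp [indFun_one, θ, hi]

/-- A proper subgroup of a finite `p`-group lies in a normal subgroup of index `p`. -/
theorem exists_normal_index_prime (hG : IsPGroup p G) (H : Subgroup G) (hH : H ≠ ⊤) :
    ∃ K : Subgroup G, K.Normal ∧ K.index = p ∧ H ≤ K := by
  obtain h | ⟨K, hK, hHK⟩ := eq_top_or_exists_le_coatom H
  · exact absurd h hH
  haveI : Group.IsNilpotent G := hG.isNilpotent
  have hnc : NormalizerCondition G := Group.normalizerCondition_of_isNilpotent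
  refine ⟨K, Subgroup.NormalizerCondition.normal_of_coatom K hnc hK, ?_, hHK⟩
  obtain ⟨a, ha⟩ := IsPGroup.iff_card.1 (hG.to_subgroup K)
  obtain ⟨b, hb⟩ := IsPGroup.iff_card.1 hG
  have hab : a < b := by
    by_contra hba
    exact hK.1 (Subgroup.eq_top_of_card_eq K ((Nat.le_antisymm (Subgroup.card_le_card_group K)
      (by rw [ha, hb]; exact Nat.pow_le_pow_right hp.out.pos (not_lt.1 hba)))))
  obtain ⟨L, hL, hKL⟩ := Sylow.exists_subgroup_card_pow_succ (hb ▸ pow_dvd_pow p hab) ha
  have hLtop : L = ⊤ := by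
    refine hK.2 L (lt_of_le_of_ne hKL fun h => ?_)
    subst h
    exact (Nat.pow_lt_pow_right hp.out.one_lt (Nat.lt_succ_self a)).ne (ha.symm.trans hL)
  have h1 := K.card_mul_index
  rw [ha, show Nat.card G = p ^ (a + 1) by rw [← Subgroup.card_top, ← hLtop, hL], pow_succ] at h1
  exact Nat.eq_of_mul_eq_mul_left (pow_pos hp.out.pos a) h1

variable {u : ℕ} {Q : Subgroup (Equiv.Perm (Fin u))} (π : G →* Q)

/-- A shift cocycle over a permutation group, whose sum over an invariant set of a normal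
subgroup of index `p` is not invariant, gives an irreducible character of degree `p`. -/
theorem exists_degree_shift (hπ : Function.Surjective π) (sh : G → Fin u → ZMod p)
    (hmul : ∀ g h i, sh (g * h) i = sh h i + sh g ((π h : Equiv.Perm (Fin u)) i))
    (K : Subgroup Q) [K.Normal] (hi : K.index = p) (F : Finset (Fin u))
    (hF : ∀ k ∈ K, ∀ i, (k : Equiv.Perm (Fin u)) i ∈ F ↔ i ∈ F) (s : Q) (m : G) (hm : π m = 1)
    (hne : ∑ i ∈ F, sh m ((s : Equiv.Perm (Fin u))⁻¹ i) ≠ ∑ i ∈ F, sh m i) :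
    ∃ φ : IrrCharacter G, charDegree (φ : G → ℂ) = p := by
  haveI : NeZero p := ⟨hp.out.ne_zero⟩
  have h1 : ∀ i, sh 1 i = 0 := fun i => by
    have h := hmul 1 1 i
    simp only [mul_one, map_one, OneMemClass.coe_one, Equiv.Perm.one_apply] at h
    exact left_eq_add.1 h
  let N : Subgroup G := K.comap π
  let sm : N →* Multiplicative (ZMod p) :=
    { toFun := fun g => Multiplicative.ofAdd (∑ i ∈ F, sh g i)
      map_one' := by simp [h1]
      map_mul' := fun g h => by
        rw [← ofAdd_add, add_comm]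
        apply congrArg Multiplicative.ofAdd
        simp only [Subgroup.coe_mul, hmul, Finset.sum_add_distrib]
        congr 1
        exact Finset.sum_equiv ((π h : Q) : Equiv.Perm (Fin u)) (fun i => (hF _ h.2 i).symm)
          fun i _ => rfl }
  let lam : N →* ℂˣ := (ZMod.stdAddChar (N := p)).toMonoidHom.toHomUnits.comp sm
  obtain ⟨x, hx⟩ := hπ s
  have hmN : m ∈ N := by show π m ∈ K; rw [hm]; exact one_mem K
  refine exists_degree_of_not_invariant N ((Subgroup.index_comap_of_surjective K hπ).trans hi) lam x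
    ⟨m, hmN⟩ fun h => hne ?_
  have hsum := ZMod.injective_stdAddChar (congrArg Units.val h)
  refine Eq.trans (Finset.sum_congr rfl fun i _ => ?_) hsum
  show sh m _ = sh (x * m * x⁻¹) i
  have hone := hmul x x⁻¹ i
  rw [mul_inv_cancel, h1] at hone
  rw [hmul, hmul, hm, map_inv, hx, InvMemClass.coe_inv, OneMemClass.coe_one, Equiv.Perm.one_apply]
  rw [map_inv, hx, InvMemClass.coe_inv] at hone
  linear_combination hone

/-- A transposition in a normal subgroup of index `2`, moved off an invariant set by an outer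
element, gives an irreducible character of degree `2`. -/
theorem exists_degree_swap (hπ : Function.Surjective π) (K : Subgroup Q) [K.Normal]
    (hi : K.index = p) (F : Finset (Fin u))
    (hF : ∀ k ∈ K, ∀ i, (k : Equiv.Perm (Fin u)) i ∈ F ↔ i ∈ F) (k₀ : Q) (hk₀ : k₀ ∈ K)
    {a b : Fin u} (hab : a ≠ b) (hk : (k₀ : Equiv.Perm (Fin u)) = Equiv.swap a b) (ha : a ∈ F)
    (hb : b ∈ F) (s : Q) (hs : ∀ i ∈ F, (s : Equiv.Perm (Fin u)) i ∉ F) :
    ∃ φ : IrrCharacter G, charDegree (φ : G → ℂ) = p := by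
  classical
  let N : Subgroup G := K.comap π
  let τ : N →* Equiv.Perm {i // i ∈ F} :=
    { toFun := fun g => ((π g : Q) : Equiv.Perm (Fin u)).subtypePerm fun i => hF _ g.2 i
      map_one' := Equiv.ext fun i => Subtype.ext (by simp)
      map_mul' := fun g h => Equiv.ext fun i => Subtype.ext (by
        simp only [Subgroup.coe_mul, map_mul]; rfl) }
  let ι : ℤˣ →* ℂˣ := Units.map (Int.castRingHom ℂ).toMonoidHom
  obtain ⟨x, hx⟩ := hπ s
  obtain ⟨m, hm⟩ := hπ k₀
  have hmN : m ∈ N := by show π m ∈ K; rwa [hm]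
  refine exists_degree_of_not_invariant N ((Subgroup.index_comap_of_surjective K hπ).trans hi)
    (ι.comp (Equiv.Perm.sign.comp τ)) x ⟨m, hmN⟩ fun h => ?_
  have h1 : τ ⟨m, hmN⟩ = Equiv.swap ⟨a, ha⟩ ⟨b, hb⟩ := Equiv.ext fun i => Subtype.ext <| by
    show ((π m : Q) : Equiv.Perm (Fin u)) i.1 = _
    rw [hm, hk, Equiv.swap_apply_def, Equiv.swap_apply_def]
    simp only [Subtype.ext_iff]
    split_ifs <;> rfl
  have h2 : ∀ hx' : x * m * x⁻¹ ∈ N, τ ⟨x * m * x⁻¹, hx'⟩ = 1 := fun _ => Equiv.ext fun i =>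
    Subtype.ext <| by
      show ((π (x * m * x⁻¹) : Q) : Equiv.Perm (Fin u)) i.1 = i.1
      rw [map_mul, map_mul, map_inv, hx, hm, Subgroup.coe_mul, Subgroup.coe_mul, InvMemClass.coe_inv,
        Equiv.Perm.mul_apply, Equiv.Perm.mul_apply, hk,
        Equiv.swap_apply_of_ne_of_ne (fun e => hs a ha ?_) (fun e => hs b hb ?_),
        Equiv.Perm.coe_inv, Equiv.apply_symm_apply]
      · rw [← e, Equiv.Perm.coe_inv, Equiv.apply_symm_apply]; exact i.2
      · rw [← e, Equiv.Perm.coe_inv, Equiv.apply_symm_apply]; exact i.2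
  have h3 := congrArg Units.val h
  simp only [MonoidHom.comp_apply, h1, h2, map_one,
    Equiv.Perm.sign_swap (show (⟨a, ha⟩ : {i // i ∈ F}) ≠ ⟨b, hb⟩ from
      fun e => hab (congrArg Subtype.val e))] at h3
  norm_num [ι] at h3

end Degree

section Orbit

variable {u : ℕ} {Q : Subgroup (Equiv.Perm (Fin u))} (K : Subgroup Q) [K.Normal]

open Classical in
/-- The orbit of a point under a subgroup of a permutation group. -/
noncomputable def subOrbit (a : Fin u) : Finset (Fin u) :=
  Finset.univ.filter fun i => ∃ k ∈ K, (k : Equiv.Perm (Fin u)) a = i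

theorem mem_subOrbit {a i : Fin u} :
    i ∈ subOrbit K a ↔ ∃ k ∈ K, (k : Equiv.Perm (Fin u)) a = i := by
  simp [subOrbit]

theorem self_mem_subOrbit (a : Fin u) : a ∈ subOrbit K a :=
  (mem_subOrbit K).2 ⟨1, one_mem K, rfl⟩

theorem apply_mem_subOrbit (a : Fin u) (k : Q) (hk : k ∈ K) (i : Fin u) :
    (k : Equiv.Perm (Fin u)) i ∈ subOrbit K a ↔ i ∈ subOrbit K a := by
  simp only [mem_subOrbit]
  constructor
  · rintro ⟨l, hl, h⟩
    exact ⟨k⁻¹ * l, mul_mem (inv_mem hk) hl, by simp [h]⟩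
  · rintro ⟨l, hl, rfl⟩
    exact ⟨k * l, mul_mem hk hl, rfl⟩

theorem apply_notMem_subOrbit {a : Fin u} (hst : MulAction.stabilizer Q a ≤ K) {s : Q} (hs : s ∉ K)
    {i : Fin u} (hi : i ∈ subOrbit K a) : (s : Equiv.Perm (Fin u)) i ∉ subOrbit K a := fun h => by
  obtain ⟨k, hk, rfl⟩ := (mem_subOrbit K).1 hi
  obtain ⟨l, hl, h⟩ := (mem_subOrbit K).1 h
  have h1 : l⁻¹ * s * k ∈ K := hst (by
    show ((l⁻¹ * s * k : Q) : Equiv.Perm (Fin u)) a = a
    simp [← h])
  apply hs
  have := mul_mem (mul_mem hl h1) (inv_mem hk)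
  simpa [mul_assoc] using this

theorem stabilizer_le_of_apply {i₀ : Fin u} (hst : MulAction.stabilizer Q i₀ ≤ K) (q : Q) :
    MulAction.stabilizer Q ((q : Equiv.Perm (Fin u)) i₀) ≤ K := fun t ht => by
  have h1 : q⁻¹ * t * q ∈ K := hst (by
    show ((q⁻¹ * t * q : Q) : Equiv.Perm (Fin u)) i₀ = i₀
    have ht' : (t : Equiv.Perm (Fin u)) ((q : Equiv.Perm (Fin u)) i₀) = (q : Equiv.Perm (Fin u)) i₀ := ht
    simp [ht'])
  have := Subgroup.Normal.conj_mem ‹K.Normal› _ h1 q
  simpa [mul_assoc] using this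

end Orbit

section Wreath

variable {p : ℕ} [hp : Fact p.Prime] {u : ℕ} (Q : Subgroup (Equiv.Perm (Fin u)))

/-- The wreath product of the translations of the blocks by a group of block permutations. -/
def wreath (p : ℕ) {u : ℕ} (Q : Subgroup (Equiv.Perm (Fin u))) :
    Subgroup (Equiv.Perm (Fin u × ZMod p)) where
  carrier := {f | ∃ s ∈ Q, ∃ v : Fin u → ZMod p, ∀ x, f x = (s x.1, x.2 + v x.1)}
  one_mem' := ⟨1, one_mem Q, 0, fun x => by simp⟩
  mul_mem' := by
    rintro f g ⟨s, hs, v, hf⟩ ⟨t, ht, w, hg⟩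
    refine ⟨s * t, mul_mem hs ht, fun i => w i + v (t i), fun x => ?_⟩
    rw [Equiv.Perm.mul_apply, hg, hf, add_assoc]
    rfl
  inv_mem' := by
    rintro f ⟨s, hs, v, hf⟩
    refine ⟨s⁻¹, inv_mem hs, fun i => -v (s⁻¹ i), fun x => ?_⟩
    rw [Equiv.Perm.inv_eq_iff_eq, hf]
    simp

/-- The permutation of the blocks. -/
noncomputable def wreathIdx : wreath p Q →* Q :=
  MonoidHom.mk' (fun f => ⟨f.2.choose, f.2.choose_spec.1⟩) fun f g => Subtype.ext <| Equiv.ext fun i => by
    obtain ⟨v, hv⟩ := f.2.choose_spec.2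
    obtain ⟨w, hw⟩ := g.2.choose_spec.2
    obtain ⟨z, hz⟩ := (f * g).2.choose_spec.2
    have h : (f.1 (g.1 (i, 0))).1 = _ := congrArg Prod.fst (hz (i, 0))
    rw [hw (i, 0), hv] at h
    exact h.symm

/-- The translation of each block. -/
def wreathShift (f : wreath p Q) (i : Fin u) : ZMod p := (f.1 (i, 0)).2

theorem wreath_apply (f : wreath p Q) (i : Fin u) (a : ZMod p) :
    f.1 (i, a) = ((wreathIdx Q f : Equiv.Perm (Fin u)) i, a + wreathShift Q f i) := by
  obtain ⟨v, hv⟩ := f.2.choose_spec.2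
  have h0 : wreathShift Q f i = v i := by rw [wreathShift, hv, zero_add]
  rw [hv, h0]
  rfl

theorem wreathShift_mul (f g : wreath p Q) (i : Fin u) :
    wreathShift Q (f * g) i =
      wreathShift Q g i + wreathShift Q f ((wreathIdx Q g : Equiv.Perm (Fin u)) i) := by
  show (f.1 (g.1 (i, 0))).2 = _
  rw [wreath_apply, wreath_apply, zero_add]

theorem wreath_ext {f g : wreath p Q} (h₁ : wreathIdx Q f = wreathIdx Q g)
    (h₂ : wreathShift Q f = wreathShift Q g) : f = g :=
  Subtype.ext <| Equiv.ext fun ⟨i, a⟩ => by rw [wreath_apply, wreath_apply, h₁, h₂]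

/-- The element with given block permutation and translations. -/
def wreathMk (s : Q) (v : Fin u → ZMod p) : wreath p Q :=
  ⟨(s : Equiv.Perm (Fin u)).prodCongr (Equiv.refl _) * blockHom p u (Multiplicative.ofAdd v),
    s, s.2, v, fun _ => rfl⟩

theorem wreathShift_mk (s : Q) (v : Fin u → ZMod p) : wreathShift Q (wreathMk Q s v) = v :=
  funext fun i => zero_add (v i)

theorem wreathIdx_mk (s : Q) (v : Fin u → ZMod p) : wreathIdx Q (wreathMk Q s v) = s :=
  Subtype.ext <| Equiv.ext fun i => by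
    have h := wreath_apply Q (wreathMk Q s v) i 0
    exact (congrArg Prod.fst h).symm

theorem card_wreath : Nat.card (wreath p Q) = p ^ u * Nat.card Q := by
  haveI : NeZero p := ⟨hp.out.ne_zero⟩
  let e : wreath p Q ≃ (Fin u → ZMod p) × Q :=
    { toFun := fun f => (wreathShift Q f, wreathIdx Q f)
      invFun := fun x => wreathMk Q x.2 x.1
      left_inv := fun f => wreath_ext Q (wreathIdx_mk Q _ _) (wreathShift_mk Q _ _)
      right_inv := fun x => Prod.ext (wreathShift_mk Q x.2 x.1) (wreathIdx_mk Q x.2 x.1) }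
  rw [Nat.card_congr e]
  simp

theorem isPGroup_wreath (hQ : IsPGroup p Q) : IsPGroup p (wreath p Q) := by
  obtain ⟨k, hk⟩ := IsPGroup.iff_card.1 hQ
  exact IsPGroup.iff_card.2 ⟨u + k, by rw [card_wreath, hk, pow_add]⟩

theorem isMulCommutative_wreath (hQ : ∀ s ∈ Q, s = 1) : IsMulCommutative (wreath p Q) := by
  refine ⟨⟨fun f g => ?_⟩⟩
  have h : ∀ f : wreath p Q, wreathIdx Q f = 1 := fun f => Subtype.ext (hQ _ (wreathIdx Q f).2)
  refine wreath_ext Q (by rw [h, h]) (funext fun i => ?_)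
  rw [wreathShift_mul, wreathShift_mul, h, h, add_comm]
  rfl

theorem exists_moved [Nontrivial Q] : ∃ i₀ : Fin u, MulAction.stabilizer Q i₀ ≠ ⊤ := by
  obtain ⟨q, hq⟩ := exists_ne (1 : Q)
  by_contra hcon
  push Not at hcon
  exact hq (Subtype.ext <| Equiv.ext fun i => (hcon i).ge (Subgroup.mem_top q))

/-- The wreath product with a nontrivial `p`-group has an irreducible character of degree `p`. -/
theorem exists_degree_wreath (hQ : IsPGroup p Q) [Nontrivial Q] :
    ∃ φ : IrrCharacter (wreath p Q), charDegree (φ : wreath p Q → ℂ) = p := by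
  classical
  haveI : NeZero p := ⟨hp.out.ne_zero⟩
  obtain ⟨i₀, hi₀⟩ := exists_moved Q
  obtain ⟨K, hK, hKi, hst⟩ := exists_normal_index_prime hQ _ hi₀
  obtain ⟨s, hs⟩ : ∃ s, s ∉ K := by
    by_contra hcon
    push Not at hcon
    exact hp.out.ne_one (hKi.symm.trans (Subgroup.index_eq_one.2 (eq_top_iff.2 fun x _ => hcon x)))
  refine exists_degree_shift (wreathIdx Q) (fun x => ⟨_, wreathIdx_mk Q x 0⟩) (wreathShift Q)
    (wreathShift_mul Q) K hKi (subOrbit K i₀) (apply_mem_subOrbit K i₀) s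
    (wreathMk Q 1 (Pi.single i₀ 1)) (wreathIdx_mk Q _ _) ?_
  have hout : ∀ i ∈ subOrbit K i₀, (s : Equiv.Perm (Fin u))⁻¹ i ≠ i₀ := fun i hi e =>
    apply_notMem_subOrbit K hst hs (self_mem_subOrbit K i₀)
      (by rwa [← Equiv.Perm.inv_eq_iff_eq.1 e])
  rw [wreathShift_mk, Finset.sum_pi_single', if_pos (self_mem_subOrbit K i₀),
    Finset.sum_eq_zero fun i hi => Pi.single_eq_of_ne (hout i hi) _]
  exact zero_ne_one

end Wreath

section WreathEven

variable [hp : Fact (2 : ℕ).Prime] {u : ℕ} (Q : Subgroup (Equiv.Perm (Fin u)))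

theorem sign_wreathMk_zero (s : Q) :
    Equiv.Perm.sign (wreathMk (p := 2) Q s 0 : Equiv.Perm (Fin u × ZMod 2)) = 1 := by
  have h : (wreathMk (p := 2) Q s 0 : Equiv.Perm (Fin u × ZMod 2)) =
      Equiv.prodCongrLeft fun _ : ZMod 2 => (s : Equiv.Perm (Fin u)) :=
    Equiv.ext fun x => Prod.ext rfl (add_zero x.2)
  rw [h, Equiv.Perm.sign_prodCongrLeft, Finset.prod_const, Finset.card_univ, ZMod.card, Int.units_sq]

theorem sign_blockHom_single (i : Fin u) :
    Equiv.Perm.sign (blockHom 2 u (Multiplicative.ofAdd (Pi.single i 1))) = -1 := by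
  show Equiv.Perm.sign (Equiv.prodCongrRight fun k => Equiv.addRight (_ : ZMod 2)) = _
  rw [Equiv.Perm.sign_prodCongrRight, Finset.prod_eq_single i
    (fun j _ hj => by rw [sign_addRight, if_pos]; simp [hj]) (by simp)]
  rw [sign_addRight, if_neg (by simp)]
  decide

/-- The even part of the wreath product with a `2`-group containing a transposition has an
irreducible character of degree `2` when there are at least three blocks. -/
theorem exists_degree_wreath_even (hQ : IsPGroup 2 Q) {a b j : Fin u} (hab : a ≠ b) (hja : j ≠ a)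
    (hjb : j ≠ b) (hswap : Equiv.swap a b ∈ Q) :
    ∃ φ : IrrCharacter ↥(wreath 2 Q ⊓ alternatingGroup (Fin u × ZMod 2)),
      charDegree (φ : ↥(wreath 2 Q ⊓ alternatingGroup (Fin u × ZMod 2)) → ℂ) = 2 := by
  classical
  let E := wreath 2 Q ⊓ alternatingGroup (Fin u × ZMod 2)
  have hEle : E ≤ wreath 2 Q := inf_le_left
  let π : E →* Q := (wreathIdx Q).comp (Subgroup.inclusion hEle)
  have hπ : Function.Surjective π := fun s =>
    ⟨⟨(wreathMk (p := 2) Q s 0).1, (wreathMk Q s 0).2,
      Equiv.Perm.mem_alternatingGroup.2 (sign_wreathMk_zero Q s)⟩,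
      wreathIdx_mk Q s 0⟩
  let k₀ : Q := ⟨_, hswap⟩
  by_cases hbig : ∃ q : Q, (q : Equiv.Perm (Fin u)) a ≠ a ∧ (q : Equiv.Perm (Fin u)) a ≠ b
  · obtain ⟨q, hqa, hqb⟩ := hbig
    set i₀ := (q : Equiv.Perm (Fin u)) a with hi₀
    have hi₀' : MulAction.stabilizer Q i₀ ≠ ⊤ := fun h => hqa (by
      have h1 : ((q⁻¹ : Q) : Equiv.Perm (Fin u)) i₀ = i₀ := h.ge (Subgroup.mem_top q⁻¹)
      simpa [hi₀] using h1.symm)
    obtain ⟨K, hK, hKi, hst⟩ := exists_normal_index_prime hQ _ hi₀'
    have hk₀ : k₀ ∈ K := hst (Equiv.swap_apply_of_ne_of_ne hqa hqb)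
    have hsta : MulAction.stabilizer Q a ≤ K := by
      have h := stabilizer_le_of_apply K hst q⁻¹
      rwa [show ((q⁻¹ : Q) : Equiv.Perm (Fin u)) i₀ = a by simp [hi₀]] at h
    obtain ⟨s, hs⟩ : ∃ s, s ∉ K := by
      by_contra hcon
      push Not at hcon
      exact (by norm_num : (2 : ℕ) ≠ 1)
        (hKi.symm.trans (Subgroup.index_eq_one.2 (eq_top_iff.2 fun x _ => hcon x)))
    exact exists_degree_swap π hπ K hKi (subOrbit K a) (apply_mem_subOrbit K a) k₀ hk₀ hab rfl
      (self_mem_subOrbit K a) ((mem_subOrbit K).2 ⟨k₀, hk₀, Equiv.swap_apply_left a b⟩) s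
      fun i hi => apply_notMem_subOrbit K hsta hs hi
  · push Not at hbig
    have hall : ∀ q : Q, (q : Equiv.Perm (Fin u)) a = a ∨ (q : Equiv.Perm (Fin u)) a = b := fun q =>
      (em _).imp_right (hbig q)
    have hne : MulAction.stabilizer Q a ≠ ⊤ := fun h => hab (by
      have h1 : (k₀ : Equiv.Perm (Fin u)) a = a := h.ge (Subgroup.mem_top k₀)
      simpa [k₀] using h1.symm)
    obtain ⟨K, hK, hKi, hst⟩ := exists_normal_index_prime hQ _ hne
    obtain ⟨s, hs⟩ : ∃ s, s ∉ K := by
      by_contra hcon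
      push Not at hcon
      exact (by norm_num : (2 : ℕ) ≠ 1)
        (hKi.symm.trans (Subgroup.index_eq_one.2 (eq_top_iff.2 fun x _ => hcon x)))
    have hsub : ∀ i ∈ subOrbit K a, i = a ∨ i = b := fun i hi => by
      obtain ⟨k, -, rfl⟩ := (mem_subOrbit K).1 hi
      exact hall k
    have hj : j ∉ subOrbit K a := fun h => (hsub j h).elim hja hjb
    have hsj : (s : Equiv.Perm (Fin u)) j ∉ subOrbit K a := fun h => by
      obtain ⟨k, -, hk⟩ := (mem_subOrbit K).1 h
      have h1 : ((s⁻¹ * k : Q) : Equiv.Perm (Fin u)) a = j := by simp [hk]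
      rcases hall (s⁻¹ * k) with h2 | h2
      · exact hja (h1.symm.trans h2)
      · exact hjb (h1.symm.trans h2)
    let v : Fin u → ZMod 2 := Pi.single a 1 + Pi.single j 1
    have hv : (wreathMk Q 1 v : Equiv.Perm (Fin u × ZMod 2)) ∈ E := by
      refine ⟨(wreathMk Q 1 v).2, Equiv.Perm.mem_alternatingGroup.2 ?_⟩
      rw [show (wreathMk (p := 2) Q 1 v : Equiv.Perm (Fin u × ZMod 2)) =
          blockHom 2 u (Multiplicative.ofAdd (Pi.single a 1)) *
            blockHom 2 u (Multiplicative.ofAdd (Pi.single j 1)) by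
        rw [← map_mul, ← ofAdd_add]; exact Equiv.ext fun x => rfl, map_mul, sign_blockHom_single,
        sign_blockHom_single]
      decide
    refine exists_degree_shift π hπ (fun x => wreathShift Q (Subgroup.inclusion hEle x))
      (fun g h i => ?_) K hKi (subOrbit K a) (apply_mem_subOrbit K a) s ⟨_, hv⟩ (wreathIdx_mk Q 1 v) ?_
    · rw [map_mul]; exact wreathShift_mul Q _ _ i
    · have hsh : wreathShift Q (Subgroup.inclusion hEle ⟨_, hv⟩) = v := wreathShift_mk Q 1 v
      rw [hsh]
      simp only [v, Pi.add_apply, Finset.sum_add_distrib, Finset.sum_pi_single',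
        if_pos (self_mem_subOrbit K a), if_neg hj, add_zero]
      have houta : ∀ i ∈ subOrbit K a, (s : Equiv.Perm (Fin u))⁻¹ i ≠ a := fun i hi e =>
        apply_notMem_subOrbit K hst hs (self_mem_subOrbit K a)
          (by rwa [← Equiv.Perm.inv_eq_iff_eq.1 e])
      have houtj : ∀ i ∈ subOrbit K a, (s : Equiv.Perm (Fin u))⁻¹ i ≠ j := fun i hi e =>
        hsj (by rwa [← Equiv.Perm.inv_eq_iff_eq.1 e])
      rw [Finset.sum_eq_zero fun i hi => Pi.single_eq_of_ne (houta i hi) _,
        Finset.sum_eq_zero fun i hi => Pi.single_eq_of_ne (houtj i hi) _]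
      simp

end WreathEven

section Transport

variable {p : ℕ} [hp : Fact p.Prime]

theorem exists_degree_of_equiv {A B : Type*} [Group A] [Group B] (f : B ≃* A) {d : ℕ}
    (h : ∃ φ : IrrCharacter A, charDegree (φ : A → ℂ) = d) :
    ∃ φ : IrrCharacter B, charDegree (φ : B → ℂ) = d := by
  obtain ⟨φ, hφ⟩ := h
  refine ⟨⟨fun b => φ.1 (f b), (isIrrCharacter_comp_equiv f).2 φ.2⟩, ?_⟩
  simp only [charDegree, map_one] at hφ ⊢
  exact hφ

variable {n u r : ℕ}

theorem sign_supportHom (e : (Fin u × ZMod p) ⊕ Fin r ≃ Fin n) [NeZero p]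
    (f : Equiv.Perm (Fin u × ZMod p)) :
    Equiv.Perm.sign (supportHom e f) = Equiv.Perm.sign f := by
  rw [show supportHom e f = e.permCongr (Equiv.Perm.sumCongr f 1) from rfl,
    Equiv.Perm.sign_permCongr, Equiv.Perm.sign_sumCongr, map_one, mul_one]

theorem factorization_factorial_prime_mul (p u : ℕ) [hp : Fact p.Prime] :
    (p * u).factorial.factorization p = u + u.factorial.factorization p := by
  rw [Nat.factorization_def _ hp.out, Nat.factorization_def _ hp.out, padicValNat_factorial_mul,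
    add_comm]

/-- A defect group as in the model is conjugate to the wreath product of the translations with
any Sylow subgroup of the permutations of the blocks. -/
theorem exists_map_wreath_eq (e : (Fin u × ZMod p) ⊕ Fin r ≃ Fin n) (g : Equiv.Perm (Fin n))
    (hg : ¬ p ∣ orderOf g) (D : Subgroup (Equiv.Perm (Fin n)))
    (hDg : D ≤ Subgroup.centralizer {g}) (hDp : IsPGroup p D)
    (hmax : ∀ R : Subgroup (Equiv.Perm (Fin n)), IsPGroup p R → R ≤ Subgroup.centralizer {g} → Nat.card R ≤ Nat.card D)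
    (hc : ∃ c, (cycleSub e).map (MulAut.conj c).toMonoidHom ≤ D)
    (hcard : Nat.card D = p ^ (p * u).factorial.factorization p) (Q : Sylow p (Equiv.Perm (Fin u))) :
    ∃ x, (wreath p (Q : Subgroup (Equiv.Perm (Fin u)))).map
      ((MulAut.conj x).toMonoidHom.comp (supportHom e)) = D := by
  obtain ⟨c, hc⟩ := hc
  set Q' : Subgroup (Equiv.Perm (Fin u)) := ↑Q
  set g' := c⁻¹ * g * c with hg'
  have hgord : ¬ p ∣ orderOf g' := by
    have h : g' = MulAut.conj c⁻¹ g := by simp [hg']
    rwa [h, MulEquiv.orderOf_eq]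
  have hD : ∀ d ∈ D, c⁻¹ * d * c ∈ Subgroup.centralizer ({g'} : Set (Equiv.Perm (Fin n))) := by
    intro d hd
    have h := Subgroup.mem_centralizer_singleton_iff.1 (hDg hd)
    rw [Subgroup.mem_centralizer_singleton_iff, hg',
      show c⁻¹ * d * c * (c⁻¹ * g * c) = c⁻¹ * (d * g) * c by group,
      show c⁻¹ * g * c * (c⁻¹ * d * c) = c⁻¹ * (g * d) * c by group, h]
  have hrange : g' ∈ (modelHom e).range := by
    rw [← centralizer_cycleSub, Subgroup.mem_centralizer_iff]
    intro h hh
    have h1 := hD _ (hc ⟨h, hh, rfl⟩)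
    simp only [MulEquiv.coe_toMonoidHom, MulAut.conj_apply] at h1
    rw [show c⁻¹ * (c * h * c⁻¹) * c = h by group, Subgroup.mem_centralizer_singleton_iff] at h1
    exact h1
  let ψ : Equiv.Perm (Fin u × ZMod p) →* Equiv.Perm (Fin n) :=
    (MulAut.conj c).toMonoidHom.comp (supportHom e)
  have hψ : Function.Injective ψ := (MulAut.conj c).injective.comp (supportHom_injective e)
  let R := (wreath p Q').map ψ
  have hRg : R ≤ Subgroup.centralizer {g} := by
    rintro _ ⟨f, -, rfl⟩
    have h := (commute_supportHom_of_regular e hrange hgord f).eq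
    rw [Subgroup.mem_centralizer_singleton_iff]
    simp only [ψ, MonoidHom.comp_apply, MulEquiv.coe_toMonoidHom, MulAut.conj_apply]
    have h' := congrArg (fun z => c * z * c⁻¹) h.symm
    simp only [hg', mul_assoc, mul_inv_cancel_left, mul_inv_cancel, mul_one] at h' ⊢
    exact h'
  have hRp : IsPGroup p R := (isPGroup_wreath Q' Q.isPGroup').map ψ
  have hRcard : Nat.card R = Nat.card D := by
    rw [Subgroup.card_map_of_injective hψ, card_wreath, hcard, Sylow.card_eq_multiplicity,
      factorization_factorial_prime_mul, pow_add, Nat.card_perm, Nat.card_fin]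
  let H := Subgroup.centralizer ({g} : Set (Equiv.Perm (Fin n)))
  have mk : ∀ A : Subgroup (Equiv.Perm (Fin n)), A ≤ H → IsPGroup p A → Nat.card A = Nat.card D →
      ∃ P : Sylow p H, (P : Subgroup H).map H.subtype = A := by
    intro A hA hAp hAc
    refine ⟨⟨A.subgroupOf H, hAp.comap_subtype, fun {T} hT hle => ?_⟩,
      Subgroup.map_subgroupOf_eq_of_le hA⟩
    refine (Subgroup.eq_of_le_of_card_ge hle ?_).symm
    rw [Nat.card_congr (Subgroup.subgroupOfEquivOfLe hA).toEquiv, hAc,
      Nat.card_congr (T.equivMapOfInjective _ H.subtype_injective).toEquiv]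
    exact hmax _ (hT.map _) (Subgroup.map_subtype_le _)
  obtain ⟨P₁, hP₁⟩ := mk D hDg hDp rfl
  obtain ⟨P₂, hP₂⟩ := mk R hRg hRp hRcard
  obtain ⟨t, ht⟩ := MulAction.exists_smul_eq H P₂ P₁
  refine ⟨(t : Equiv.Perm (Fin n)) * c, ?_⟩
  have hsmul : ((t • P₂ : Sylow p H) : Subgroup H).map H.subtype =
      R.map (MulAut.conj (t : Equiv.Perm (Fin n))).toMonoidHom := by
    rw [← hP₂]
    ext z
    constructor
    · rintro ⟨_, ⟨y, hy, rfl⟩, rfl⟩
      exact ⟨_, ⟨y, hy, rfl⟩, rfl⟩
    · rintro ⟨_, ⟨y, hy, rfl⟩, rfl⟩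
      exact ⟨_, ⟨y, hy, rfl⟩, rfl⟩
  rw [← hP₁, ← ht, hsmul, Subgroup.map_map]
  congr 1

/-- **The structure of the defect groups.** -/
theorem defect_structure (e : (Fin u × ZMod p) ⊕ Fin r ≃ Fin n) (g : Equiv.Perm (Fin n))
    (hg : ¬ p ∣ orderOf g) (D : Subgroup (Equiv.Perm (Fin n)))
    (hDg : D ≤ Subgroup.centralizer {g}) (hDp : IsPGroup p D)
    (hmax : ∀ R : Subgroup (Equiv.Perm (Fin n)), IsPGroup p R → R ≤ Subgroup.centralizer {g} → Nat.card R ≤ Nat.card D)
    (hc : ∃ c, (cycleSub e).map (MulAut.conj c).toMonoidHom ≤ D)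
    (hcard : Nat.card D = p ^ (p * u).factorial.factorization p) :
    (u < p → IsMulCommutative D) ∧
    (p ≤ u → ∃ φ : IrrCharacter D, charDegree (φ : D → ℂ) = p) ∧
    (p = 2 → 3 ≤ u → ∃ φ : IrrCharacter ↥(D ⊓ alternatingGroup (Fin n)),
      charDegree (φ : ↥(D ⊓ alternatingGroup (Fin n)) → ℂ) = 2) := by
  haveI : NeZero p := ⟨hp.out.ne_zero⟩
  have hψ : ∀ x, Function.Injective ((MulAut.conj x).toMonoidHom.comp (supportHom e)) := fun x =>
    (MulAut.conj x).injective.comp (supportHom_injective e)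
  refine ⟨fun hu => ?_, fun hu => ?_, fun hp2 hu => ?_⟩
  · let Q : Sylow p (Equiv.Perm (Fin u)) := default
    obtain ⟨x, hx⟩ := exists_map_wreath_eq e g hg D hDg hDp hmax hc hcard Q
    have hQ : Nat.card (Q : Subgroup (Equiv.Perm (Fin u))) = 1 := by
      rw [Sylow.card_eq_multiplicity, Nat.card_perm, Nat.card_fin,
        Nat.factorization_eq_zero_of_not_dvd (fun h => (not_le.2 hu) ((hp.out.dvd_factorial).1 h)),
        pow_zero]
    rw [← hx]
    haveI := isMulCommutative_wreath (p := p) (Q : Subgroup (Equiv.Perm (Fin u))) fun s hs =>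
      (Subgroup.mem_bot.1 ((Subgroup.eq_bot_of_card_eq _ hQ) ▸ hs))
    exact ⟨⟨fun a b => (Subgroup.equivMapOfInjective _ _ (hψ x)).symm.injective
      (by simp only [map_mul]; exact Std.Commutative.comm _ _)⟩⟩
  · let Q : Sylow p (Equiv.Perm (Fin u)) := default
    obtain ⟨x, hx⟩ := exists_map_wreath_eq e g hg D hDg hDp hmax hc hcard Q
    haveI : Nontrivial (Q : Subgroup (Equiv.Perm (Fin u))) := by
      refine (Subgroup.nontrivial_iff_ne_bot _).2 (Sylow.ne_bot_of_dvd_card Q ?_)
      rw [Nat.card_perm, Nat.card_fin]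
      exact hp.out.dvd_factorial.2 hu
    exact exists_degree_of_equiv
      ((MulEquiv.subgroupCongr hx.symm).trans (Subgroup.equivMapOfInjective _ _ (hψ x)).symm)
      (exists_degree_wreath _ Q.isPGroup')
  · subst hp2
    let a : Fin u := ⟨0, by omega⟩
    let b : Fin u := ⟨1, by omega⟩
    let j : Fin u := ⟨2, by omega⟩
    have hab : a ≠ b := by simp [a, b]
    have hsw : IsPGroup 2 (Subgroup.zpowers (Equiv.swap a b)) := by
      refine IsPGroup.iff_card.2 ⟨1, ?_⟩
      rw [Nat.card_zpowers, pow_one, orderOf_eq_prime (by rw [pow_two, Equiv.swap_mul_self])]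
      exact fun h => hab (by simpa using (Equiv.congr_fun h a).symm)
    obtain ⟨Q, hQ⟩ := hsw.exists_le_sylow
    obtain ⟨x, hx⟩ := exists_map_wreath_eq e g hg D hDg hDp hmax hc hcard Q
    have hmap : (wreath 2 (Q : Subgroup (Equiv.Perm (Fin u))) ⊓ alternatingGroup (Fin u × ZMod 2)).map
        ((MulAut.conj x).toMonoidHom.comp (supportHom e)) = D ⊓ alternatingGroup (Fin n) := by
      have hs : ∀ f, Equiv.Perm.sign ((MulAut.conj x).toMonoidHom.comp (supportHom e) f) =
          Equiv.Perm.sign f := fun f => by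
        simp [sign_supportHom, mul_right_comm, Int.units_mul_self]
      rw [← hx]
      ext z
      simp only [Subgroup.mem_map, Subgroup.mem_inf, Equiv.Perm.mem_alternatingGroup]
      constructor
      · rintro ⟨f, ⟨hf, hf'⟩, rfl⟩
        exact ⟨⟨f, hf, rfl⟩, (hs f).trans hf'⟩
      · rintro ⟨⟨f, hf, rfl⟩, hf'⟩
        exact ⟨f, ⟨hf, (hs f).symm.trans hf'⟩, rfl⟩
    exact exists_degree_of_equiv
      ((MulEquiv.subgroupCongr hmap.symm).trans (Subgroup.equivMapOfInjective _ _ (hψ x)).symm)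
      (exists_degree_wreath_even _ Q.isPGroup' hab (show j ≠ a by simp [j, a])
        (show j ≠ b by simp [j, b]) (hQ (Subgroup.mem_zpowers _)))

end Transport

end CfsgLib.SymBlock
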