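import Cfsg.Agent.Lib.SymBlock.Seminormal
import Cfsg.Agent.Lib.Char.Table
import Cfsg.Agent.Lib.Char.Basic

/-!
# The seminormal characters are all irreducible characters of the symmetric group
-/

set_option autoImplicit false

namespace CfsgLib.SymBlock

open Finsupp Cfsg
open scoped CfsgLib.Char

variable {m n : ℕ} {S : Finset ℕ}

theorem exists_removable {R : Finset ℕ} {a : ℕ} (h : Movable R a) :
    a ∉ move R a ∧ a + 1 ∈ move R a := by
  simp [mem_move]

/-- Two tableaux of one shape are connected by admissible exchanges. -/
theorem connected_valid : ∀ (n : ℕ) (P : List ℕ → Prop),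
    (∀ (l₁ l₂ : List ℕ) (a b : ℕ), Valid (ground m) (l₁ ++ a :: b :: l₂) →
      (l₁ ++ a :: b :: l₂).length = n → a + 1 ≠ b → b + 1 ≠ a →
      P (l₁ ++ a :: b :: l₂) → P (l₁ ++ b :: a :: l₂)) →
    ∀ l l' : List ℕ, l.length = n → l'.length = n → Valid (ground m) l → Valid (ground m) l' →
      endOf (ground m) l = endOf (ground m) l' → P l → P l'
  | 0, P, _, l, l', hl, hl', _, _, _, hP => by
    rw [List.length_eq_zero_iff] at hl hl'
    rw [hl'] ; rwa [hl] at hP
  | n + 1, P, hc, l, l', hl, hl', hv, hv', he, hP => by
    obtain rfl | ⟨p, x, rfl⟩ := l.eq_nil_or_concat'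
    · simp at hl
    obtain rfl | ⟨q, y, rfl⟩ := l'.eq_nil_or_concat'
    · simp at hl'
    simp only [List.length_append, List.length_singleton, Nat.add_right_cancel_iff] at hl hl'
    obtain ⟨hp, hx⟩ := valid_concat.mp hv
    obtain ⟨hq, hy⟩ := valid_concat.mp hv'
    rw [endOf_concat, endOf_concat] at he
    -- the statement for the shorter sequences
    have step : ∀ z (r r' : List ℕ), r.length = n → r'.length = n →
        Valid (ground m) r → Valid (ground m) r' → Movable (endOf (ground m) r) z →
        endOf (ground m) r = endOf (ground m) r' → P (r ++ [z]) → P (r' ++ [z]) := by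
      intro z r r' hr hr' hrv hrv' hz hre hP
      refine (connected_valid n (fun u => Valid (ground m) u ∧ Movable (endOf (ground m) u) z ∧ P (u ++ [z]))
        ?_ r r' hr hr' hrv hrv' hre ⟨hrv, hz, hP⟩).2.2
      rintro l₁ l₂ a b hab hlen h1 h2 ⟨-, hz, hP⟩
      obtain ⟨hv2, he2⟩ := valid_swap hab h1 h2
      refine ⟨hv2, by rwa [he2], ?_⟩
      have := hc l₁ (l₂ ++ [z]) a b (by simpa using valid_concat.mpr ⟨hab, hz⟩)
        (by simp at hlen ⊢; omega) h1 h2 (by simpa using hP)
      simpa using this
    by_cases hxy : x = y
    · subst hxy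
      exact step x p q hl hl' hp hq hx (move_inj hx hy he) hP
    · set S := move (endOf (ground m) p) x with hS
      obtain ⟨hx1, hx2⟩ := exists_removable hx
      obtain ⟨hy1, hy2⟩ := exists_removable hy
      rw [← he] at hy1 hy2
      rw [← hS] at hx1 hx2
      have hd1 : x + 1 ≠ y := fun h => hy1 (h ▸ hx2)
      have hd2 : y + 1 ≠ x := fun h => hx1 (h ▸ hy2)
      -- the position before both moves
      set R := insert x (insert y ((S.erase (x + 1)).erase (y + 1))) with hR
      have hRx : Movable R x := ⟨by simp [hR], by simp [hR]; grind⟩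
      have hRy : Movable R y := ⟨by simp [hR], by simp [hR]; grind⟩
      have hp' : move R y = endOf (ground m) p := by
        refine move_inj (R := move R y) (R' := endOf (ground m) p) (a := x)
          ⟨by simp [mem_move, hR, hxy], by simp [mem_move, hR]; grind⟩ hx ?_
        rw [← hS]
        ext z
        simp only [mem_move, hR, Finset.mem_insert, Finset.mem_erase]
        grind
      have hq' : move R x = endOf (ground m) q := by
        refine move_inj (R := move R x) (R' := endOf (ground m) q) (a := y)
          ⟨by simp [mem_move, hR]; grind, by simp [mem_move, hR]; grind⟩ hy ?_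
        rw [← he]
        ext z
        simp only [mem_move, hR, Finset.mem_insert, Finset.mem_erase]
        grind
      obtain _ | n := n
      · rw [List.length_eq_zero_iff] at hl hl'
        subst hl hl'
        have h1 := hx.1; have h2 := hx.2; have h3 := hy.1; have h4 := hy.2
        simp [ground] at h1 h2 h3 h4
        omega
      have hcard : IsShape m n R := by
        have h1 := isShape_endOf hp
        rw [← hp', hl] at h1
        refine ⟨(card_move hRy).symm.trans h1.1, ?_⟩
        have h2 := h1.2
        rw [sum_move hRy] at h2
        omega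
      obtain ⟨t, htl, htv, hte⟩ := exists_valid_endOf hcard
      have hty : Valid (ground m) (t ++ [y]) := valid_concat.mpr ⟨htv, hte ▸ hRy⟩
      have htx : Valid (ground m) (t ++ [x]) := valid_concat.mpr ⟨htv, hte ▸ hRx⟩
      have hey : endOf (ground m) (t ++ [y]) = endOf (ground m) p := by rw [endOf_concat, hte, hp']
      have hex : endOf (ground m) (t ++ [x]) = endOf (ground m) q := by rw [endOf_concat, hte, hq']
      have P1 : P ((t ++ [y]) ++ [x]) :=
        step x p _ hl (by simp [htl]) hp hty hx hey.symm hP
      have P2 : P ((t ++ [x]) ++ [y]) := by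
        have := hc t [] y x (by simpa using valid_concat.mpr ⟨hty, hey ▸ hx⟩)
          (by simp [htl]) hd2 hd1 (by simpa using P1)
        simpa using this
      exact step y _ q (by simp [htl]) hl' htx hq (hex ▸ hy) hex P2

theorem entry_ext {t t' : Tab m n S} (h : ∀ k, entry t k = entry t' k) : t = t' := by
  refine Subtype.ext (List.ext_getElem (t.2.1.trans t'.2.1.symm) fun i h1 h2 => ?_)
  exact h ⟨i, t.2.1 ▸ h1⟩

theorem content_injective (m : ℕ) : Function.Injective (content m) := fun a b h => by
  simp only [content] at h
  exact_mod_cast (by linear_combination h : (a : ℂ) = b)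

theorem isIrreducible_seminormal (hS : IsShape m n S) :
    (seminormal m n S).IsIrreducible := by
  classical
  obtain ⟨l, hl, hv, he⟩ := exists_valid_endOf hS
  let t₀ : Tab m n S := ⟨l, hl, hv, he⟩
  have hne : Nontrivial (Subrepresentation (seminormal m n S)) := by
    refine ⟨⊥, ⊤, fun h => ?_⟩
    have : (single t₀ (1 : ℂ)) ∈ (⊥ : Subrepresentation (seminormal m n S)).toSubmodule := by
      rw [h]; exact Submodule.mem_top
    simpa using (Submodule.mem_bot ℂ).mp this
  refine IsSimpleOrder.mk fun W => ?_
  by_cases hW : W.toSubmodule = ⊥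
  · exact Or.inl (Subrepresentation.toSubmodule_injective hW)
  right
  apply Subrepresentation.toSubmodule_injective
  have hjm : ∀ k v, v ∈ W.toSubmodule → jm m n S k v ∈ W.toSubmodule := fun k v hv => by
    rw [jm, LinearMap.sum_apply]
    exact Submodule.sum_mem _ fun i _ => W.apply_mem_toSubmodule _ hv
  have hjc : ∀ k (v : Tab m n S →₀ ℂ) t, jm m n S k v t = content m (entry t k) * v t := by
    intro k v t
    induction v using Finsupp.induction_linear with
    | zero => simp
    | add f g hf hg => simp [hf, hg, mul_add]
    | single t' c =>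
      rw [← smul_single_one, map_smul, jm_single']
      by_cases h : t = t'
      · subst h; simp; ring
      · simp [single_apply, Ne.symm h]
  obtain ⟨v, hvW, hv0⟩ := Submodule.exists_mem_ne_zero_of_ne_bot hW
  have key : ∀ (N : ℕ) (v : Tab m n S →₀ ℂ), v.support.card ≤ N → v ∈ W.toSubmodule → v ≠ 0 →
      ∃ t, single t (1 : ℂ) ∈ W.toSubmodule := by
    intro N
    induction N with
    | zero => intro v h _ h0; exact absurd (support_eq_empty.mp (Finset.card_eq_zero.mp (by omega))) h0
    | succ N ih =>
      intro v h hvW h0
      obtain ⟨t, ht⟩ := support_nonempty_iff.mpr h0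
      by_cases hone : ∃ t' ∈ v.support, t' ≠ t
      · obtain ⟨t', ht', hne'⟩ := hone
        obtain ⟨k, hk⟩ : ∃ k, entry t' k ≠ entry t k := by
          by_contra h; push Not at h; exact hne' (entry_ext h)
        set w := jm m n S k v - content m (entry t k) • v with hw
        have hwt : ∀ x, w x = (content m (entry x k) - content m (entry t k)) * v x := fun x => by
          rw [hw, Finsupp.sub_apply, hjc, Finsupp.smul_apply, smul_eq_mul, sub_mul]
        refine ih w ?_ (W.toSubmodule.sub_mem (hjm k v hvW) (W.toSubmodule.smul_mem _ hvW)) ?_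
        · have hsub : w.support ⊆ v.support.erase t := fun x hx => by
            rw [mem_support_iff, hwt] at hx
            rw [Finset.mem_erase, mem_support_iff]
            refine ⟨fun h => hx (by rw [h, sub_self, zero_mul]), right_ne_zero_of_mul hx⟩
          have := Finset.card_le_card hsub
          rw [Finset.card_erase_of_mem ht] at this
          omega
        · intro hw0
          have := hwt t'
          rw [hw0, Finsupp.zero_apply] at this
          exact mul_ne_zero (sub_ne_zero.mpr fun e => hk (content_injective m e))
            (mem_support_iff.mp ht') this.symm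
      · push Not at hone
        refine ⟨t, ?_⟩
        have : v = v t • single t 1 := by
          ext x
          by_cases hx : x = t
          · simp [hx]
          · have : v x = 0 := notMem_support_iff.mp fun h => hx (hone x h)
            simp [this, hx]
        rw [this] at hvW
        exact (W.toSubmodule.smul_mem_iff (mem_support_iff.mp ht)).mp hvW
  obtain ⟨t₁, ht₁⟩ := key _ v le_rfl hvW hv0
  have hall : ∀ t : Tab m n S, single t (1 : ℂ) ∈ W.toSubmodule := by
    intro t
    have := connected_valid (m := m) n
      (fun u => ∃ h : u.length = n ∧ Valid (ground m) u ∧ endOf (ground m) u = S,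
        single (⟨u, h⟩ : Tab m n S) (1 : ℂ) ∈ W.toSubmodule) ?_ t₁.1 t.1 t₁.2.1 t.2.1 t₁.2.2.1 t.2.2.1
      (t₁.2.2.2.trans t.2.2.2.symm) ⟨t₁.2, ht₁⟩
    · obtain ⟨_, h⟩ := this
      exact h
    rintro l₁ l₂ a b hab hlen h1 h2 ⟨hu, hP⟩
    obtain ⟨hv2, he2⟩ := valid_swap hab h1 h2
    have hu' : (l₁ ++ b :: a :: l₂).length = n ∧ Valid (ground m) (l₁ ++ b :: a :: l₂) ∧
        endOf (ground m) (l₁ ++ b :: a :: l₂) = S :=
      ⟨by rw [← hlen]; simp, hv2, he2.trans hu.2.2⟩
    refine ⟨hu', ?_⟩
    have hi : l₁.length + 1 < n := by rw [← hlen]; simp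
    have hmem := W.apply_mem_toSubmodule (adj n l₁.length) hP
    rw [seminormal_adj hi] at hmem
    have hT : tabOp m n S l₁.length (single (⟨_, hu⟩ : Tab m n S) 1) =
        axial a b • single (⟨_, hu⟩ : Tab m n S) 1 + offDiag a b • single (⟨_, hu'⟩ : Tab m n S) 1 :=
      incl_injective (by
        rw [incl_tabOp_single, op_append, map_add, map_smul, map_smul, incl_single, incl_single])
    rw [hT, Submodule.add_mem_iff_right _ (W.toSubmodule.smul_mem _ hP)] at hmem
    refine (W.toSubmodule.smul_mem_iff ?_).mp hmem
    have h3 : a ≠ b := by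
      have := (valid_append.mp hab).2
      exact pair_ne (valid_append.mp (show Valid _ ([a, b] ++ l₂) from this)).1
    rw [offDiag, if_neg (by simp [h1, h2]), axial]
    intro h0
    have hne2 : ((b : ℂ) - a) ≠ 0 := sub_ne_zero.mpr (by exact_mod_cast h3.symm)
    field_simp at h0
    exact h2 (by exact_mod_cast (by linear_combination h0 : ((b : ℂ) + 1) = a))
  refine le_antisymm le_top fun x hx => ?_
  clear hx
  induction x using Finsupp.induction_linear with
  | zero => exact W.toSubmodule.zero_mem
  | add f g hf hg => exact W.toSubmodule.add_mem hf hg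
  | single t c => rw [← smul_single_one]; exact W.toSubmodule.smul_mem c (hall t)

/-- The linear extension to the group algebra. -/
noncomputable def semiAlg (m n : ℕ) (S : Finset ℕ) :
    MonoidAlgebra ℂ (Equiv.Perm (Fin n)) →ₐ[ℂ] Module.End ℂ (Tab m n S →₀ ℂ) :=
  MonoidAlgebra.lift ℂ (Module.End ℂ (Tab m n S →₀ ℂ)) (Equiv.Perm (Fin n)) (seminormal m n S)

/-- The Jucys–Murphy element. -/
noncomputable def jmElt (n : ℕ) (k : Fin n) : MonoidAlgebra ℂ (Equiv.Perm (Fin n)) :=
  ∑ i ∈ Finset.Iio k, MonoidAlgebra.of ℂ _ (Equiv.swap i k)

theorem semiAlg_jmElt (k : Fin n) : semiAlg m n S (jmElt n k) = jm m n S k := by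
  simp [semiAlg, jmElt, jm, map_sum]

theorem semiAlg_prod_single (L : List (Fin n × ℂ)) (t : Tab m n S) :
    semiAlg m n S ((L.map fun x => jmElt n x.1 - algebraMap ℂ _ x.2).prod) (single t 1) =
      (L.map fun x => content m (entry t x.1) - x.2).prod • single t 1 := by
  induction L with
  | nil => simp
  | cons x L ih =>
    simp only [List.map_cons, List.prod_cons, map_mul, Module.End.mul_apply, ih, map_smul, map_sub,
      semiAlg_jmElt, AlgHom.commutes, LinearMap.sub_apply, jm_single',
      Module.algebraMap_end_apply, ← sub_smul, smul_smul]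
    rw [mul_comm]

theorem trace_of_diag {ι : Type*} [Fintype ι] (A : Module.End ℂ (ι →₀ ℂ)) (g : ι → ℂ)
    (h : ∀ i, A (single i 1) = g i • single i 1) : LinearMap.trace ℂ _ A = ∑ i, g i := by
  classical
  rw [LinearMap.trace_eq_matrix_trace ℂ (Finsupp.basisSingleOne), Matrix.trace]
  refine Finset.sum_congr rfl fun i _ => ?_
  simp [Matrix.diag, LinearMap.toMatrix_apply, h]

theorem entry_lt (t : Tab m n S) (k : Fin n) : entry t k < m + n := by
  have := t.2.2.1.bound (B := m) (fun x hx => Finset.mem_range.mp hx) (entry t k) (List.getElem_mem _)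
  rwa [t.2.1] at this

theorem trace_semiAlg (z : MonoidAlgebra ℂ (Equiv.Perm (Fin n))) :
    LinearMap.trace ℂ _ (semiAlg m n S z) =
      z.coeff.sum fun g c => c * (seminormal m n S).character g := by
  rw [semiAlg, MonoidAlgebra.lift_apply, map_finsuppSum]
  simp [Representation.character]

theorem eq_of_character_eq {S' : Finset ℕ} (hS : IsShape m n S)
    (h : (seminormal m n S).character = (seminormal m n S').character) : S = S' := by
  classical
  by_contra hne
  obtain ⟨l, hl, hv, he⟩ := exists_valid_endOf hS
  let t₀ : Tab m n S := ⟨l, hl, hv, he⟩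
  let L : List (Fin n × ℂ) := (List.finRange n).flatMap fun k =>
    (((List.range (m + n)).filter (· ≠ entry t₀ k)).map fun c => (k, content m c))
  set z := (L.map fun x => jmElt n x.1 - algebraMap ℂ _ x.2).prod with hz
  have htr : LinearMap.trace ℂ _ (semiAlg m n S z) = LinearMap.trace ℂ _ (semiAlg m n S' z) := by
    rw [trace_semiAlg, trace_semiAlg, h]
  rw [trace_of_diag _ _ (semiAlg_prod_single L), trace_of_diag _ _ (semiAlg_prod_single L)] at htr
  have hzero : ∀ {U : Finset ℕ} (t : Tab m n U), (∃ k, entry t k ≠ entry t₀ k) →
      (L.map fun x => content m (entry t x.1) - x.2).prod = 0 := by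
    rintro U t ⟨k, hk⟩
    rw [List.prod_eq_zero_iff, List.mem_map]
    refine ⟨(k, content m (entry t k)), ?_, sub_self _⟩
    simp only [L, List.mem_flatMap, List.mem_finRange, true_and, List.mem_map, List.mem_filter,
      List.mem_range, decide_eq_true_eq]
    exact ⟨k, entry t k, ⟨entry_lt t k, hk⟩, rfl⟩
  rw [Finset.sum_eq_single t₀ (fun t _ ht => hzero t (by
      by_contra hh; push Not at hh; exact ht (entry_ext hh))) (by simp),
    Finset.sum_eq_zero (s := Finset.univ) (f := fun t : Tab m n S' => _) (fun t _ => hzero t (by
      by_contra hh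
      push Not at hh
      refine hne ?_
      have : t.1 = t₀.1 := List.ext_getElem (t.2.1.trans t₀.2.1.symm) fun i h1 h2 =>
        hh ⟨i, t.2.1 ▸ h1⟩
      rw [← he, ← t.2.2.2]
      exact (congrArg (endOf (ground m)) this).symm))] at htr
  rw [List.prod_eq_zero_iff, List.mem_map] at htr
  obtain ⟨⟨k, c⟩, hkc, hh⟩ := htr
  simp only [L, List.mem_flatMap, List.mem_finRange, true_and, List.mem_map, List.mem_filter,
    List.mem_range, decide_eq_true_eq, Prod.mk.injEq] at hkc
  obtain ⟨k', c', ⟨-, hne'⟩, rfl, rfl⟩ := hkc
  exact hne' (content_injective m (sub_eq_zero.mp hh)).symm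

/-- Row lengths of a partition. -/
noncomputable def row (P : Multiset ℕ) (n i : ℕ) : ℕ :=
  ((Finset.range n).filter fun k => i < P.countP fun x => k + 1 ≤ x).card

/-- The bead position of a partition. -/
noncomputable def betaSet (P : Multiset ℕ) (m n : ℕ) : Finset ℕ :=
  (Finset.range m).image fun i => row P n i + (m - 1 - i)

theorem row_antitone (P : Multiset ℕ) (n : ℕ) {i j : ℕ} (h : i ≤ j) : row P n j ≤ row P n i :=
  Finset.card_le_card fun k hk => by simp only [Finset.mem_filter] at hk ⊢; exact ⟨hk.1, by omega⟩

theorem row_spec (P : Multiset ℕ) {n i k : ℕ} (hk : k < n) :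
    k < row P n i ↔ i < P.countP fun x => k + 1 ≤ x := by
  constructor
  · intro h
    by_contra hh
    refine absurd h (not_lt.mpr ?_)
    refine (Finset.card_le_card (t := Finset.range k) fun j hj => ?_).trans (by simp)
    simp only [Finset.mem_filter, Finset.mem_range] at hj ⊢
    by_contra hjk
    have : (P.countP fun x => j + 1 ≤ x) ≤ P.countP fun x => k + 1 ≤ x := by
      rw [Multiset.countP_eq_card_filter, Multiset.countP_eq_card_filter]
      exact Multiset.card_le_card (Multiset.monotone_filter_right _ fun x hx => by omega)
    omega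
  · intro h
    refine lt_of_lt_of_le (by simp) (Finset.card_le_card (s := Finset.range (k + 1)) fun j hj => ?_)
    simp only [Finset.mem_filter, Finset.mem_range] at hj ⊢
    refine ⟨by omega, lt_of_lt_of_le h ?_⟩
    rw [Multiset.countP_eq_card_filter, Multiset.countP_eq_card_filter]
    exact Multiset.card_le_card (Multiset.monotone_filter_right _ fun x hx => by omega)

theorem beta_strictAnti (P : Multiset ℕ) (m n : ℕ) {i j : ℕ} (h : i < j) (hj : j < m) :
    row P n j + (m - 1 - j) < row P n i + (m - 1 - i) := by
  have := row_antitone P n h.le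
  omega

theorem sum_countP (P : Multiset ℕ) {n : ℕ} (h : ∀ x ∈ P, x ≤ n) :
    ∑ k ∈ Finset.range n, (P.countP fun x => k + 1 ≤ x) = P.sum := by
  induction P using Multiset.induction with
  | empty => simp
  | cons a P ih =>
    simp only [Multiset.countP_cons, Finset.sum_add_distrib, Multiset.sum_cons,
      ih fun x hx => h x (Multiset.mem_cons_of_mem hx)]
    have ha : a ≤ n := h a (Multiset.mem_cons_self a P)
    have : ((Finset.range n).filter fun k => k + 1 ≤ a) = Finset.range a := by
      ext k; simp; omega
    rw [← Finset.card_filter, this, Finset.card_range, add_comm]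

theorem isShape_betaSet {P : Nat.Partition n} (hnm : n ≤ m) :
    IsShape m n (betaSet P.parts m n) := by
  have hinj : Set.InjOn (fun i => row P.parts n i + (m - 1 - i)) (Finset.range m : Set ℕ) := by
    intro i hi j hj e
    simp only [Finset.coe_range, Set.mem_Iio] at hi hj
    rcases Nat.lt_trichotomy i j with h | h | h
    · exact absurd e (beta_strictAnti P.parts m n h hj).ne'
    · exact h
    · exact absurd e (beta_strictAnti P.parts m n h hi).ne
  refine ⟨by rw [betaSet, Finset.card_image_of_injOn hinj, Finset.card_range], ?_⟩
  rw [betaSet, Finset.sum_image hinj, Finset.sum_add_distrib, ground, Finset.sum_range_reflect (fun i => i),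
    add_comm]
  congr 1
  have hle : ∀ x ∈ P.parts, x ≤ n := fun x hx =>
    le_of_le_of_eq (Multiset.le_sum_of_mem hx) P.parts_sum
  have hcard : ∀ k, (P.parts.countP fun x => k + 1 ≤ x) ≤ m := fun k => by
    refine (Multiset.countP_le_card _ _).trans (le_trans ?_ hnm)
    calc P.parts.card = P.parts.card • 1 := by simp
      _ ≤ P.parts.sum := Multiset.card_nsmul_le_sum fun x hx => P.parts_pos hx
      _ = n := P.parts_sum
  simp only [row, Finset.card_filter]
  rw [Finset.sum_comm]
  have : ∀ k, ∑ i ∈ Finset.range m, (if i < P.parts.countP (fun x => k + 1 ≤ x) then 1 else 0) =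
      P.parts.countP fun x => k + 1 ≤ x := by
    intro k
    rw [← Finset.card_filter]
    have : ((Finset.range m).filter fun i => i < P.parts.countP fun x => k + 1 ≤ x) =
        Finset.range (P.parts.countP fun x => k + 1 ≤ x) := by
      ext i
      simp only [Finset.mem_filter, Finset.mem_range]
      have := hcard k
      omega
    rw [this, Finset.card_range]
  rw [Finset.sum_congr rfl fun k _ => this k, sum_countP _ hle, P.parts_sum]

theorem betaSet_injective (hnm : n ≤ m) :
    Function.Injective fun P : Nat.Partition n => betaSet P.parts m n := by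
  intro P Q h
  have hrow : ∀ i < m, row P.parts n i = row Q.parts n i := by
    intro i hi
    have key : ∀ (R : Multiset ℕ), ((betaSet R m n).filter fun y => row R n i + (m - 1 - i) < y).card = i := by
      intro R
      rw [betaSet, Finset.filter_image, Finset.card_image_of_injOn]
      · have : ((Finset.range m).filter fun j => row R n i + (m - 1 - i) < row R n j + (m - 1 - j)) =
            Finset.range i := by
          ext j
          simp only [Finset.mem_filter, Finset.mem_range]
          constructor
          · rintro ⟨hj, hlt⟩
            by_contra hh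
            rcases Nat.eq_or_lt_of_le (not_lt.mp hh) with rfl | h'
            · omega
            · have := beta_strictAnti R m n h' hj; omega
          · intro hj
            exact ⟨by omega, beta_strictAnti R m n hj hi⟩
        rw [this, Finset.card_range]
      · intro a ha b hb e
        simp only [Finset.coe_filter, Finset.mem_range, Set.mem_setOf_eq] at ha hb
        simp only at e
        rcases Nat.lt_trichotomy a b with h | h | h
        · exact absurd e (beta_strictAnti R m n h hb.1).ne'
        · exact h
        · exact absurd e (beta_strictAnti R m n h ha.1).ne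
    have hmem : row P.parts n i + (m - 1 - i) ∈ betaSet Q.parts m n := by
      have : row P.parts n i + (m - 1 - i) ∈ betaSet P.parts m n :=
        Finset.mem_image_of_mem _ (Finset.mem_range.mpr hi)
      simpa only [h] using this
    obtain ⟨j, hj, hje⟩ := Finset.mem_image.mp hmem
    have h1 := key P.parts
    have h2 : ((betaSet Q.parts m n).filter fun y => row Q.parts n j + (m - 1 - j) < y).card = j := by
      clear h1 hmem hje key
      rw [betaSet, Finset.filter_image, Finset.card_image_of_injOn]
      · have : ((Finset.range m).filter fun l => row Q.parts n j + (m - 1 - j) < row Q.parts n l + (m - 1 - l)) =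
            Finset.range j := by
          ext l
          simp only [Finset.mem_filter, Finset.mem_range]
          constructor
          · rintro ⟨hl, hlt⟩
            by_contra hh
            rcases Nat.eq_or_lt_of_le (not_lt.mp hh) with rfl | h'
            · omega
            · have := beta_strictAnti Q.parts m n h' hl; omega
          · intro hl
            exact ⟨by have := Finset.mem_range.mp hj; omega, beta_strictAnti Q.parts m n hl (Finset.mem_range.mp hj)⟩
        rw [this, Finset.card_range]
      · intro a ha b hb e
        simp only [Finset.coe_filter, Finset.mem_range, Set.mem_setOf_eq] at ha hb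
        simp only at e
        rcases Nat.lt_trichotomy a b with h | h | h
        · exact absurd e (beta_strictAnti Q.parts m n h hb.1).ne'
        · exact h
        · exact absurd e (beta_strictAnti Q.parts m n h ha.1).ne
    simp only at h
    rw [h, ← hje, h2] at h1
    subst h1
    omega
  have hcount : ∀ k, (P.parts.countP fun x => k + 1 ≤ x) = Q.parts.countP fun x => k + 1 ≤ x := by
    intro k
    have hle : ∀ R : Nat.Partition n, (R.parts.countP fun x => k + 1 ≤ x) ≤ m ∧
        (n ≤ k → (R.parts.countP fun x => k + 1 ≤ x) = 0) := fun R => by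
      constructor
      · refine (Multiset.countP_le_card _ _).trans (le_trans ?_ hnm)
        calc R.parts.card = R.parts.card • 1 := by simp
          _ ≤ R.parts.sum := Multiset.card_nsmul_le_sum fun x hx => R.parts_pos hx
          _ = n := R.parts_sum
      · intro hk
        rw [Multiset.countP_eq_zero]
        intro x hx hx'
        have := le_of_le_of_eq (Multiset.le_sum_of_mem hx) R.parts_sum
        omega
    rcases Nat.lt_or_ge k n with hk | hk
    · refine le_antisymm ?_ ?_
      · by_contra hh
        have h1 := (row_spec P.parts (i := Q.parts.countP fun x => k + 1 ≤ x) hk).mpr (not_le.mp hh)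
        rw [hrow _ (lt_of_lt_of_le (not_le.mp hh) (hle P).1), row_spec _ hk] at h1
        exact lt_irrefl _ h1
      · by_contra hh
        have h1 := (row_spec Q.parts (i := P.parts.countP fun x => k + 1 ≤ x) hk).mpr (not_le.mp hh)
        rw [← hrow _ (lt_of_lt_of_le (not_le.mp hh) (hle Q).1), row_spec _ hk] at h1
        exact lt_irrefl _ h1
    · rw [(hle P).2 hk, (hle Q).2 hk]
  apply Nat.Partition.ext
  rw [Multiset.ext]
  intro a
  rcases a with _ | a
  · rw [Multiset.count_eq_zero.mpr fun h => lt_irrefl 0 (P.parts_pos h),
      Multiset.count_eq_zero.mpr fun h => lt_irrefl 0 (Q.parts_pos h)]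
  · have key : ∀ R : Multiset ℕ, (R.countP fun x => a + 1 ≤ x) =
        R.count (a + 1) + R.countP fun x => a + 1 + 1 ≤ x := by
      intro R
      induction R using Multiset.induction with
      | empty => simp
      | cons b R ih =>
        simp only [Multiset.countP_cons, Multiset.count_cons, ih]
        split_ifs <;> omega
    have h1 := key P.parts
    have h2 := key Q.parts
    rw [hcount a, hcount (a + 1)] at h1
    omega

/-- The seminormal irreducible character. -/
noncomputable def semiChar (S : {S : Finset ℕ // IsShape m n S}) :
    IrrCharacter (Equiv.Perm (Fin n)) :=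
  ⟨(seminormal m n S.1).character, by
    have := isIrreducible_seminormal S.2
    exact CfsgLib.Char.isIrrCharacter_character _⟩

theorem semiChar_injective : Function.Injective (semiChar (m := m) (n := n)) := fun S S' h =>
  Subtype.ext (eq_of_character_eq S.2 (congrArg Subtype.val h))

theorem semiChar_surjective (hnm : n ≤ m) : Function.Surjective (semiChar (m := m) (n := n)) := by
  classical
  have hfin : Finite (IrrCharacter (Equiv.Perm (Fin n))) := inferInstance
  have hfinS : Finite {S : Finset ℕ // IsShape m n S} :=
    Finite.of_injective _ semiChar_injective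
  let f : ConjClasses (Equiv.Perm (Fin n)) → {S : Finset ℕ // IsShape m n S} :=
    Quotient.lift (fun σ => ⟨betaSet (σ.partition).parts m (Fintype.card (Fin n)), by
      have := isShape_betaSet (P := σ.partition) (m := m) (by simpa using hnm)
      simpa using this⟩) (fun a b h => by
        simp only [Subtype.mk.injEq]
        rw [Equiv.Perm.partition_eq_of_isConj.mp h])
  have hf : Function.Injective f := by
    rintro ⟨a⟩ ⟨b⟩ h
    refine Quotient.sound (Equiv.Perm.partition_eq_of_isConj.mpr ?_)
    exact betaSet_injective (by simpa using hnm) (congrArg Subtype.val h)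
  refine (semiChar_injective.bijective_of_nat_card_le ?_).2
  rw [CfsgLib.Char.card_irr_eq_card_conjClasses]
  exact Nat.card_le_card_of_injective f hf

end CfsgLib.SymBlock
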