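import Cfsg.Agent.Lib.SymBlock.ContentPoly

/-!
# Permutations made of `u` disjoint `p`-cycles

A decomposition `e` of the points into `u` blocks of size `p` and `r` further points gives the
elementary abelian group of block translations, its centralizer `(translations) × S_r`, the
normalizer containment, orbit counts and signs.
-/

set_option autoImplicit false
set_option linter.unusedSectionVars false
set_option linter.style.haveILetI false

namespace CfsgLib.SymBlock

open Polynomial

section Orbits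

variable {α β : Type*} [Finite α] [Finite β]

theorem orbCount_sumCongr (σ : Equiv.Perm α) (π : Equiv.Perm β) :
    orbCount (Equiv.Perm.sumCongr σ π) = orbCount σ + orbCount π := by
  have e : InvColor (Equiv.Perm.sumCongr σ π) 2 ≃ InvColor σ 2 × InvColor π 2 :=
    { toFun := fun c => (⟨fun a => c.1 (.inl a), fun a => c.2 (.inl a)⟩,
        ⟨fun b => c.1 (.inr b), fun b => c.2 (.inr b)⟩)
      invFun := fun c => ⟨Sum.elim c.1.1 c.2.1, fun x => match x with
        | .inl a => c.1.2 a
        | .inr b => c.2.2 b⟩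
      left_inv := fun c => Subtype.ext (funext fun x => by cases x <;> rfl)
      right_inv := fun c => rfl }
  have h := Nat.card_congr e
  rw [Nat.card_prod, card_invColor, card_invColor, card_invColor, ← pow_add] at h
  exact Nat.pow_right_injective le_rfl h

theorem orbCount_permCongr (e : α ≃ β) (σ : Equiv.Perm α) : orbCount (e.permCongr σ) = orbCount σ := by
  have f : InvColor (e.permCongr σ) 2 ≃ InvColor σ 2 :=
    { toFun := fun c => ⟨c.1 ∘ e, fun x => by
        have h := c.2 (e x)
        rwa [Equiv.permCongr_apply, Equiv.symm_apply_apply] at h⟩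
      invFun := fun c => ⟨c.1 ∘ e.symm, fun x => by
        simp only [Function.comp_apply, Equiv.permCongr_apply, Equiv.symm_apply_apply]
        exact c.2 _⟩
      left_inv := fun c => Subtype.ext (funext fun x => congrArg c.1 (e.apply_symm_apply x))
      right_inv := fun c => Subtype.ext (funext fun x => congrArg c.1 (e.symm_apply_apply x)) }
  have h := Nat.card_congr f
  rw [card_invColor, card_invColor] at h
  exact Nat.pow_right_injective le_rfl h

end Orbits

variable {p : ℕ} [Fact p.Prime]

theorem orbCount_addRight (a : ZMod p) :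
    orbCount (Equiv.addRight a) = if a = 0 then p else 1 := by
  haveI : NeZero p := ⟨(Fact.out : p.Prime).ne_zero⟩
  split_ifs with ha
  · have : Equiv.addRight a = (1 : Equiv.Perm (ZMod p)) := Equiv.ext fun x => by simp [ha]
    rw [this, orbCount_one, Nat.card_zmod]
  · have f : InvColor (Equiv.addRight a) 2 ≃ Fin 2 :=
      { toFun := fun c => c.1 0
        invFun := fun d => ⟨fun _ => d, fun _ => rfl⟩
        left_inv := fun c => Subtype.ext (funext fun x => by
          have key : ∀ k : ℕ, c.1 ((k : ZMod p) * a) = c.1 0 := fun k => by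
            induction k with
            | zero => simp
            | succ k ih =>
              rw [← ih]
              refine Eq.trans ?_ (c.2 ((k : ZMod p) * a))
              apply congrArg c.1
              show ((k + 1 : ℕ) : ZMod p) * a = (k : ZMod p) * a + a
              push_cast
              ring
          have h := key (x / a).val
          rw [ZMod.natCast_zmod_val, div_mul_cancel₀ x ha] at h
          exact h.symm)
        right_inv := fun d => rfl }
    have h := Nat.card_congr f
    rw [card_invColor, Nat.card_fin] at h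
    exact Nat.pow_right_injective le_rfl (h.trans (pow_one 2).symm)

theorem sign_addRight (a : ZMod p) :
    Equiv.Perm.sign (Equiv.addRight a) = if a = 0 then 1 else (-1) ^ (p + 1) := by
  haveI : NeZero p := ⟨(Fact.out : p.Prime).ne_zero⟩
  split_ifs with ha
  · have : Equiv.addRight a = (1 : Equiv.Perm (ZMod p)) := Equiv.ext fun x => by simp [ha]
    rw [this, map_one]
  · have hc : (Equiv.addRight a : Equiv.Perm (ZMod p)).IsCycle := by
      refine ⟨0, by simpa using ha, fun y _ => ⟨((y / a).val : ℤ), ?_⟩⟩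
      rw [zpow_natCast]
      have key : ∀ k : ℕ, ((Equiv.addRight a : Equiv.Perm (ZMod p)) ^ k) 0 = (k : ZMod p) * a := fun k => by
        induction k with
        | zero => simp
        | succ k ih =>
          rw [pow_succ', Equiv.Perm.mul_apply, ih, Equiv.coe_addRight]
          push_cast
          ring
      rw [key, ZMod.natCast_zmod_val, div_mul_cancel₀ y ha]
    rw [hc.sign]
    have hsupp : (Equiv.addRight a : Equiv.Perm (ZMod p)).support = Finset.univ := by
      ext x; simpa using ha
    rw [hsupp, Finset.card_univ, ZMod.card, pow_succ, mul_neg_one]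

variable {u r n : ℕ}

/-- Translate the block `i` by `v i`. -/
def blockHom (p u : ℕ) : Multiplicative (Fin u → ZMod p) →* Equiv.Perm (Fin u × ZMod p) where
  toFun v := Equiv.prodCongrRight fun i => Equiv.addRight (v.toAdd i)
  map_one' := Equiv.ext fun x => Prod.ext rfl (add_zero x.2)
  map_mul' v w := Equiv.ext fun x => by
    refine Prod.ext rfl ?_
    show x.2 + (v * w).toAdd x.1 = x.2 + w.toAdd x.1 + v.toAdd x.1
    rw [toAdd_mul, Pi.add_apply]
    ring

theorem blockHom_apply (v : Multiplicative (Fin u → ZMod p)) (i : Fin u) (a : ZMod p) :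
    blockHom p u v (i, a) = (i, a + v.toAdd i) := rfl

/-- Translations of the blocks times permutations of the other points. -/
def modelHom (e : (Fin u × ZMod p) ⊕ Fin r ≃ Fin n) :
    Multiplicative (Fin u → ZMod p) × Equiv.Perm (Fin r) →* Equiv.Perm (Fin n) :=
  (Equiv.permCongrHom e).toMonoidHom.comp
    ((Equiv.Perm.sumCongrHom _ _).comp ((blockHom p u).prodMap (MonoidHom.id _)))

/-- The permutations of the moved points. -/
def supportHom (e : (Fin u × ZMod p) ⊕ Fin r ≃ Fin n) :
    Equiv.Perm (Fin u × ZMod p) →* Equiv.Perm (Fin n) :=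
  (Equiv.permCongrHom e).toMonoidHom.comp
    ((Equiv.Perm.sumCongrHom _ _).comp (MonoidHom.inl _ _))

/-- The group of block translations. -/
def cycleSub (e : (Fin u × ZMod p) ⊕ Fin r ≃ Fin n) : Subgroup (Equiv.Perm (Fin n)) :=
  ((modelHom e).comp (MonoidHom.inl _ _)).range

/-- The product of the `u` cycles. -/
def modelX (e : (Fin u × ZMod p) ⊕ Fin r ≃ Fin n) : Equiv.Perm (Fin n) :=
  modelHom e (Multiplicative.ofAdd 1, 1)

variable (e : (Fin u × ZMod p) ⊕ Fin r ≃ Fin n)

theorem modelHom_inl (x : Multiplicative (Fin u → ZMod p) × Equiv.Perm (Fin r)) (i : Fin u) (a : ZMod p) :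
    modelHom e x (e (.inl (i, a))) = e (.inl (i, a + x.1.toAdd i)) := by
  simp [modelHom, Equiv.permCongrHom, blockHom_apply]

theorem modelHom_inr (x : Multiplicative (Fin u → ZMod p) × Equiv.Perm (Fin r)) (j : Fin r) :
    modelHom e x (e (.inr j)) = e (.inr (x.2 j)) := by
  simp [modelHom, Equiv.permCongrHom]

theorem supportHom_inl (f : Equiv.Perm (Fin u × ZMod p)) (y : Fin u × ZMod p) :
    supportHom e f (e (.inl y)) = e (.inl (f y)) := by
  simp [supportHom, Equiv.permCongrHom]

theorem supportHom_inr (f : Equiv.Perm (Fin u × ZMod p)) (j : Fin r) :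
    supportHom e f (e (.inr j)) = e (.inr j) := by
  simp [supportHom, Equiv.permCongrHom]

theorem ext_model {f g : Equiv.Perm (Fin n)} (h₁ : ∀ i a, f (e (.inl (i, a))) = g (e (.inl (i, a))))
    (h₂ : ∀ j, f (e (.inr j)) = g (e (.inr j))) : f = g := by
  refine Equiv.ext fun z => ?_
  obtain ⟨y, rfl⟩ := e.surjective z
  rcases y with ⟨i, a⟩ | j
  exacts [h₁ i a, h₂ j]

theorem supportHom_blockHom (v : Multiplicative (Fin u → ZMod p)) :
    supportHom e (blockHom p u v) = modelHom e (v, 1) := rfl

theorem modelHom_injective : Function.Injective (modelHom e) := by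
  intro x y h
  refine Prod.ext (Multiplicative.toAdd.injective (funext fun i => ?_)) (Equiv.ext fun j => ?_)
  · have h1 := congrArg (fun f : Equiv.Perm (Fin n) => f (e (.inl (i, 0)))) h
    simpa [modelHom_inl] using h1
  · have h1 := congrArg (fun f : Equiv.Perm (Fin n) => f (e (.inr j))) h
    simpa [modelHom_inr] using h1

theorem supportHom_injective : Function.Injective (supportHom e) := by
  intro f g h
  refine Equiv.ext fun y => ?_
  have h1 := congrArg (fun k : Equiv.Perm (Fin n) => k (e (.inl y))) h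
  simpa [supportHom_inl] using h1

theorem mem_cycleSub {g : Equiv.Perm (Fin n)} :
    g ∈ cycleSub e ↔ ∃ v, modelHom e (v, 1) = g := Iff.rfl

theorem modelX_mem : modelX e ∈ cycleSub e := ⟨_, rfl⟩

theorem cycleSub_le_range : cycleSub e ≤ (modelHom e).range := by
  rintro _ ⟨v, rfl⟩
  exact ⟨_, rfl⟩

theorem card_cycleSub : Nat.card (cycleSub e) = p ^ u := by
  haveI : NeZero p := ⟨(Fact.out : p.Prime).ne_zero⟩
  rw [cycleSub, ← Nat.card_congr (MonoidHom.ofInjective (f := (modelHom e).comp (MonoidHom.inl _ _))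
    fun v w h => (Prod.ext_iff.1 (modelHom_injective e h)).1).toEquiv]
  simp

theorem pow_prime_eq_one (v : Multiplicative (Fin u → ZMod p)) : v ^ p = 1 :=
  Multiplicative.toAdd.injective (funext fun i => by simp)

theorem cycleSub_pow {g : Equiv.Perm (Fin n)} (hg : g ∈ cycleSub e) : g ^ p = 1 := by
  obtain ⟨v, rfl⟩ := hg
  rw [← map_pow, pow_prime_eq_one, map_one]

theorem cycleSub_comm {g h : Equiv.Perm (Fin n)} (hg : g ∈ cycleSub e) (hh : h ∈ cycleSub e) :
    g * h = h * g := by
  obtain ⟨v, rfl⟩ := hg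
  obtain ⟨w, rfl⟩ := hh
  rw [← map_mul, ← map_mul, mul_comm]

theorem isMulCommutative_cycleSub : IsMulCommutative (cycleSub e) :=
  ⟨⟨fun a b => Subtype.ext (cycleSub_comm e a.2 b.2)⟩⟩

theorem modelX_pow : modelX e ^ p = 1 := cycleSub_pow e (modelX_mem e)

theorem modelX_pow_inl (k : ℕ) (i : Fin u) (a : ZMod p) :
    (modelX e ^ k) (e (.inl (i, a))) = e (.inl (i, a + k)) := by
  rw [modelX, ← map_pow, modelHom_inl]
  simp [toAdd_pow]

theorem modelX_inr (j : Fin r) : modelX e (e (.inr j)) = e (.inr j) := by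
  rw [modelX, modelHom_inr]
  simp

theorem centralizer_cycleSub :
    Subgroup.centralizer (cycleSub e : Set (Equiv.Perm (Fin n))) = (modelHom e).range := by
  haveI : NeZero p := ⟨(Fact.out : p.Prime).ne_zero⟩
  refine le_antisymm (fun g hg => ?_) ?_
  · rw [Subgroup.mem_centralizer_iff] at hg
    have hv : ∀ (v : Multiplicative (Fin u → ZMod p)) z,
        modelHom e (v, 1) (g z) = g (modelHom e (v, 1) z) := fun v z =>
      congrArg (fun f : Equiv.Perm (Fin n) => f z) (hg _ ⟨v, rfl⟩)
    have hR : ∀ j, ∃ k, g (e (.inr j)) = e (.inr k) := fun j => by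
      obtain ⟨y, hy⟩ := e.surjective (g (e (.inr j)))
      rcases y with ⟨i, a⟩ | k
      · exfalso
        have h := hv (Multiplicative.ofAdd 1) (e (.inr j))
        rw [modelHom_inr, ← hy, modelHom_inl, Equiv.Perm.one_apply, ← hy] at h
        simp at h
      · exact ⟨k, hy.symm⟩
    choose π hπ using hR
    have hπi : Function.Injective π := fun j k h => by
      simpa using g.injective ((hπ j).trans ((congrArg (fun x => e (Sum.inr x)) h).trans (hπ k).symm))
    have hπs := (Finite.injective_iff_surjective.1 hπi)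
    have hL : ∀ i, ∃ b, g (e (.inl (i, 0))) = e (.inl (i, b)) := fun i => by
      obtain ⟨y, hy⟩ := e.surjective (g (e (.inl (i, 0))))
      rcases y with ⟨k, b⟩ | j
      · by_cases hki : k = i
        · exact ⟨b, by rw [← hy, hki]⟩
        exfalso
        have h := hv (Multiplicative.ofAdd (Pi.single i 1)) (e (.inl (i, 0)))
        rw [← hy, modelHom_inl, modelHom_inl, toAdd_ofAdd, Pi.single_eq_of_ne hki, Pi.single_eq_same,
          add_zero, zero_add, hy] at h
        simpa using g.injective h
      · obtain ⟨l, hl⟩ := hπs j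
        have h := g.injective (hy.symm.trans ((congrArg (fun x => e (Sum.inr x)) hl).symm.trans (hπ l).symm))
        simp at h
    choose b hb using hL
    refine ⟨(Multiplicative.ofAdd b, Equiv.ofBijective π ⟨hπi, hπs⟩), ext_model e (fun i a => ?_) fun j => ?_⟩
    · have h := hv (Multiplicative.ofAdd (Pi.single i a)) (e (.inl (i, 0)))
      rw [hb, modelHom_inl, modelHom_inl, toAdd_ofAdd, Pi.single_eq_same, zero_add] at h
      rw [modelHom_inl, ← h, toAdd_ofAdd, add_comm]
    · rw [modelHom_inr, hπ]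
      rfl
  · rintro _ ⟨x, rfl⟩
    rw [Subgroup.mem_centralizer_iff]
    rintro _ ⟨v, rfl⟩
    simp only [MonoidHom.comp_apply, MonoidHom.inl_apply, ← map_mul]
    congr 1
    exact Prod.ext (mul_comm _ _) (by simp)

theorem centralizer_modelX_le :
    Subgroup.centralizer ({modelX e} : Set (Equiv.Perm (Fin n))) ≤
      Subgroup.normalizer (cycleSub e : Set (Equiv.Perm (Fin n))) := by
  haveI : NeZero p := ⟨(Fact.out : p.Prime).ne_zero⟩
  intro g hg
  rw [Subgroup.mem_centralizer_singleton_iff] at hg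
  have hc : Commute (modelX e) g := hg.symm
  have hR : ∀ j, ∃ k, g (e (.inr j)) = e (.inr k) := fun j => by
    obtain ⟨y, hy⟩ := e.surjective (g (e (.inr j)))
    rcases y with ⟨i, a⟩ | k
    · exfalso
      have h := congrArg (fun f : Equiv.Perm (Fin n) => f (e (.inr j))) hc.eq
      simp only [Equiv.Perm.mul_apply] at h
      rw [modelX_inr, ← hy, ← pow_one (modelX e), modelX_pow_inl] at h
      simp at h
    · exact ⟨k, hy.symm⟩
  choose π hπ using hR
  have hπi : Function.Injective π := fun j k h => by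
    simpa using g.injective ((hπ j).trans ((congrArg (fun x => e (Sum.inr x)) h).trans (hπ k).symm))
  have hπs := (Finite.injective_iff_surjective.1 hπi)
  have hL : ∀ i, ∃ kb : Fin u × ZMod p, g (e (.inl (i, 0))) = e (.inl kb) := fun i => by
    obtain ⟨y, hy⟩ := e.surjective (g (e (.inl (i, 0))))
    rcases y with kb | j
    · exact ⟨kb, hy.symm⟩
    · obtain ⟨l, hl⟩ := hπs j
      have h := g.injective (hy.symm.trans ((congrArg (fun x => e (Sum.inr x)) hl).symm.trans (hπ l).symm))
      simp at h
  choose kb hkb using hL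
  have hga : ∀ i a, g (e (.inl (i, a))) = e (.inl ((kb i).1, (kb i).2 + a)) := fun i a => by
    have h := congrArg (fun f : Equiv.Perm (Fin n) => f (e (.inl (i, 0)))) (hc.pow_left a.val).eq
    simp only [Equiv.Perm.mul_apply] at h
    rw [hkb, modelX_pow_inl, modelX_pow_inl, ZMod.natCast_zmod_val, zero_add] at h
    exact h.symm
  have hσ : Function.Injective fun i => (kb i).1 := fun i j h => by
    have h1 : g (e (.inl (i, 0))) = g (e (.inl (j, (kb i).2 - (kb j).2))) := by
      rw [hkb, hga, ← (show (kb i).1 = (kb j).1 from h), add_sub_cancel]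
    simpa using congrArg Prod.fst (Sum.inl_injective (e.injective (g.injective h1)))
  let σ : Equiv.Perm (Fin u) := Equiv.ofBijective _ (Finite.injective_iff_bijective.1 hσ)
  rw [Subgroup.mem_normalizer_iff_map_conj_eq]
  refine Subgroup.eq_of_le_of_card_ge ?_ (by rw [Subgroup.card_map_of_injective (MulEquiv.injective _)])
  rintro _ ⟨_, ⟨v, rfl⟩, rfl⟩
  refine ⟨Multiplicative.ofAdd fun k => v.toAdd (σ.symm k), ?_⟩
  show modelHom e (_, 1) = g * modelHom e (v, 1) * g⁻¹
  rw [eq_mul_inv_iff_mul_eq]
  refine ext_model e (fun i a => ?_) fun j => ?_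
  · rw [Equiv.Perm.mul_apply, Equiv.Perm.mul_apply, hga, modelHom_inl, modelHom_inl, hga, toAdd_ofAdd,
      show σ.symm (kb i).1 = i from σ.symm_apply_apply i, add_assoc]
  · rw [Equiv.Perm.mul_apply, Equiv.Perm.mul_apply, hπ, modelHom_inr, modelHom_inr, Equiv.Perm.one_apply,
      Equiv.Perm.one_apply, hπ]

theorem fst_eq_one_of_regular {x : Multiplicative (Fin u → ZMod p) × Equiv.Perm (Fin r)}
    (h : ¬ p ∣ orderOf (modelHom e x)) : x.1 = 1 := by
  rw [orderOf_injective _ (modelHom_injective e), Prod.orderOf] at h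
  have hp : p.Prime := Fact.out
  rcases (Nat.dvd_prime hp).1 (orderOf_dvd_of_pow_eq_one (pow_prime_eq_one x.1)) with h1 | h1
  · exact orderOf_eq_one_iff.1 h1
  · exact absurd ((dvd_of_eq h1.symm).trans (Nat.dvd_lcm_left _ _)) h

theorem commute_supportHom_of_regular {g : Equiv.Perm (Fin n)} (hg : g ∈ (modelHom e).range)
    (h : ¬ p ∣ orderOf g) (f : Equiv.Perm (Fin u × ZMod p)) : Commute g (supportHom e f) := by
  obtain ⟨x, rfl⟩ := hg
  have h1 := fst_eq_one_of_regular e h
  refine ext_model e (fun i a => ?_) fun j => ?_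
  · have hx : ∀ y : Fin u × ZMod p, modelHom e x (e (.inl y)) = e (.inl y) := fun y => by
      rw [modelHom_inl e x y.1 y.2, h1]
      simp
    rw [Equiv.Perm.mul_apply, Equiv.Perm.mul_apply, supportHom_inl, hx, hx, supportHom_inl]
  · rw [Equiv.Perm.mul_apply, Equiv.Perm.mul_apply, supportHom_inr, modelHom_inr, supportHom_inr]

theorem exists_model (x : Equiv.Perm (Fin n)) (hx : x ^ p = 1) :
    ∃ (u r : ℕ) (e : (Fin u × ZMod p) ⊕ Fin r ≃ Fin n),
      r + p * u = n ∧ x = modelX e ∧ u = Multiset.card x.cycleType := by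
  classical
  haveI : NeZero p := ⟨(Fact.out : p.Prime).ne_zero⟩
  have hp : p.Prime := Fact.out
  let M := {z : Fin n // x z ≠ z}
  let S : Setoid M := (Equiv.Perm.SameCycle.setoid x).comap Subtype.val
  let Q := Quotient S
  have hmv : ∀ (k : ℕ) (z : Fin n), x z ≠ z → x ((x ^ k) z) ≠ (x ^ k) z := fun k z hz h => by
    rw [← Equiv.Perm.mul_apply, ← pow_succ', pow_succ, Equiv.Perm.mul_apply] at h
    exact hz ((x ^ k).injective h)
  let F : Q × ZMod p → M := fun qa => ⟨(x ^ qa.2.val) qa.1.out.1, hmv _ _ qa.1.out.2⟩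
  have hord : ∀ z : Fin n, x z ≠ z → ∀ k l : ℕ, (x ^ k) z = (x ^ l) z → (k : ZMod p) = l := by
    intro z hz k l hkl
    rw [ZMod.natCast_eq_natCast_iff']
    by_contra hne
    wlog hle : l % p ≤ k % p generalizing k l
    · exact this l k hkl.symm (Ne.symm hne) (le_of_not_ge hle)
    rw [pow_eq_pow_mod k hx, pow_eq_pow_mod l hx, ← Nat.add_sub_cancel' hle, pow_add,
      Equiv.Perm.mul_apply] at hkl
    have hd : (x ^ (k % p - l % p)) z = z := (x ^ (l % p)).injective hkl
    have hlt : k % p - l % p < p := lt_of_le_of_lt (Nat.sub_le _ _) (Nat.mod_lt _ hp.pos)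
    have hpos : k % p - l % p ≠ 0 := by omega
    obtain ⟨t, -, ht⟩ := Nat.exists_mul_mod_eq_one_of_coprime
      ((hp.coprime_iff_not_dvd.2 fun h => hpos (Nat.eq_zero_of_dvd_of_lt h hlt)).symm) hp.one_lt
    apply hz
    have h2 : ((x ^ (k % p - l % p)) ^ t) z = z := Equiv.Perm.pow_apply_eq_self_of_apply_eq_self hd t
    rwa [← pow_mul, pow_eq_pow_mod _ hx, ht, pow_one] at h2
  have hFi : Function.Injective F := by
    rintro ⟨q, a⟩ ⟨q', b⟩ h
    have h' : (x ^ a.val) q.out.1 = (x ^ b.val) q'.out.1 := congrArg Subtype.val h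
    have hq : q = q' := by
      rw [← q.out_eq, ← q'.out_eq]
      apply Quotient.sound
      show x.SameCycle q.out.1 q'.out.1
      refine Equiv.Perm.SameCycle.trans (⟨(a.val : ℤ), rfl⟩ : x.SameCycle q.out.1 ((x ^ (a.val : ℤ)) q.out.1)) ?_
      rw [zpow_natCast, h', ← zpow_natCast]
      exact Equiv.Perm.SameCycle.symm ⟨_, rfl⟩
    subst hq
    have h2 := hord _ q.out.2 _ _ h'
    rw [ZMod.natCast_zmod_val, ZMod.natCast_zmod_val] at h2
    rw [h2]
  have hFs : Function.Surjective F := by
    intro z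
    obtain ⟨k, hk⟩ : x.SameCycle (Quotient.mk S z).out.1 z.1 := Quotient.mk_out z
    refine ⟨(Quotient.mk S z, (k : ZMod p)), Subtype.ext ?_⟩
    show (x ^ ((k : ZMod p).val)) _ = z.1
    rw [← hk]
    congr 1
    rw [← zpow_natCast, ZMod.val_intCast]
    refine (zpow_eq_zpow_emod' k ?_).symm
    exact hx
  let eM : Q × ZMod p ≃ M := Equiv.ofBijective F ⟨hFi, hFs⟩
  haveI : Finite Q := Quotient.finite S
  let eQ : Q ≃ Fin (Nat.card Q) := Finite.equivFin Q
  let eR : {z : Fin n // ¬ x z ≠ z} ≃ Fin (Nat.card {z : Fin n // ¬ x z ≠ z}) := Finite.equivFin _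
  let e : (Fin (Nat.card Q) × ZMod p) ⊕ Fin (Nat.card {z : Fin n // ¬ x z ≠ z}) ≃ Fin n :=
    (Equiv.sumCongr ((eQ.symm.prodCongr (Equiv.refl _)).trans eM) eR.symm).trans (Equiv.sumCompl _)
  have hn : Nat.card {z : Fin n // ¬ x z ≠ z} + p * Nat.card Q = n := by
    have h := Nat.card_congr e
    rw [Nat.card_sum, Nat.card_prod, Nat.card_fin, Nat.card_fin, Nat.card_fin, Nat.card_zmod] at h
    rw [mul_comm p]
    omega
  refine ⟨_, _, e, hn, ext_model e (fun i a => ?_) fun j => ?_, ?_⟩
  · rw [← pow_one (modelX e), modelX_pow_inl, Nat.cast_one]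
    show x ((F (eQ.symm i, a)).1) = (F (eQ.symm i, a + 1)).1
    show x ((x ^ a.val) _) = (x ^ (a + 1).val) _
    rw [← Equiv.Perm.mul_apply, ← pow_succ', ZMod.val_add, ← pow_eq_pow_mod _ hx, ZMod.val_one]
  · rw [modelX_inr]
    exact not_ne_iff.1 (eR.symm j).2
  · have hall : ∀ m ∈ x.cycleType, m = p := fun m hm => by
      rcases (Nat.dvd_prime hp).1 ((Equiv.Perm.dvd_of_mem_cycleType hm).trans (orderOf_dvd_of_pow_eq_one hx)) with h | h
      · exact absurd (Equiv.Perm.two_le_of_mem_cycleType hm) (by omega)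
      · exact h
    have h1 : x.cycleType.sum = Multiset.card x.cycleType * p := by
      conv_lhs => rw [Multiset.eq_replicate_card.2 hall]
      rw [Multiset.sum_replicate, smul_eq_mul]
    have h2 : x.support.card = Nat.card Q * p := by
      rw [← Nat.card_eq_finsetCard, Nat.card_congr ((Equiv.subtypeEquivRight fun z =>
        (Equiv.Perm.mem_support : z ∈ x.support ↔ x z ≠ z)).trans eM.symm), Nat.card_prod, Nat.card_zmod]
    rw [Equiv.Perm.sum_cycleType, h2] at h1
    exact Nat.eq_of_mul_eq_mul_right hp.pos h1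

theorem orbCount_blockHom (v : Multiplicative (Fin u → ZMod p)) :
    orbCount (blockHom p u v) = ∑ i, if v.toAdd i = 0 then p else 1 := by
  haveI : NeZero p := ⟨(Fact.out : p.Prime).ne_zero⟩
  have f : InvColor (blockHom p u v) 2 ≃ ∀ i, InvColor (Equiv.addRight (v.toAdd i)) 2 :=
    { toFun := fun c i => ⟨fun a => c.1 (i, a), fun a => c.2 (i, a)⟩
      invFun := fun c => ⟨fun x => (c x.1).1 x.2, fun x => (c x.1).2 x.2⟩
      left_inv := fun c => rfl
      right_inv := fun c => rfl }
  have h := Nat.card_congr f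
  rw [card_invColor, Nat.card_pi] at h
  simp only [card_invColor, orbCount_addRight] at h
  rw [Finset.prod_pow_eq_pow_sum] at h
  exact Nat.pow_right_injective le_rfl h

theorem orbCount_modelHom (v : Multiplicative (Fin u → ZMod p)) (π : Equiv.Perm (Fin r)) :
    orbCount (modelHom e (v, π)) = orbCount π + ∑ i, if v.toAdd i = 0 then p else 1 := by
  haveI : NeZero p := ⟨(Fact.out : p.Prime).ne_zero⟩
  rw [show modelHom e (v, π) = e.permCongr (Equiv.Perm.sumCongr (blockHom p u v) π) from rfl,
    orbCount_permCongr, orbCount_sumCongr, orbCount_blockHom, add_comm]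

theorem sign_modelHom (v : Multiplicative (Fin u → ZMod p)) (π : Equiv.Perm (Fin r)) :
    Equiv.Perm.sign (modelHom e (v, π)) =
      (∏ i, if v.toAdd i = 0 then 1 else (-1 : ℤˣ) ^ (p + 1)) * Equiv.Perm.sign π := by
  haveI : NeZero p := ⟨(Fact.out : p.Prime).ne_zero⟩
  rw [show modelHom e (v, π) = e.permCongr (Equiv.Perm.sumCongr (blockHom p u v) π) from rfl,
    Equiv.Perm.sign_permCongr, Equiv.Perm.sign_sumCongr]
  congr 1
  show Equiv.Perm.sign (Equiv.prodCongrRight fun i => Equiv.addRight (v.toAdd i)) = _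
  rw [Equiv.Perm.sign_prodCongrRight]
  exact Finset.prod_congr rfl fun i _ => sign_addRight _

theorem sign_cast_eq_one {R : Type*} [CommRing R] (hR : (p : R) = 0) (v : Multiplicative (Fin u → ZMod p)) :
    ((Equiv.Perm.sign (modelHom e (v, 1)) : ℤ) : R) = 1 := by
  have hsgn : ((((-1 : ℤˣ) ^ (p + 1) : ℤˣ) : ℤ) : R) = 1 := by
    rcases (Fact.out : p.Prime).eq_two_or_odd' with h | h
    · subst h
      have : (1 : R) + 1 = 0 := by rw [← hR]; norm_num
      have h3 : ((-1 : ℤˣ) ^ (2 + 1)) = -1 := by decide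
      rw [h3, Units.val_neg, Units.val_one, Int.cast_neg, Int.cast_one]
      exact (eq_neg_of_add_eq_zero_left this).symm
    · rw [(h.add_one).neg_one_pow]
      simp
  rw [sign_modelHom, map_one, mul_one, Units.coe_prod, Int.cast_prod]
  refine Finset.prod_eq_one fun i _ => ?_
  split_ifs
  · simp
  · exact hsgn

theorem sum_sign_orbit [NeZero p] {R : Type*} [CommRing R] (hR : (p : R) = 0) :
    ∑ v : Fin u → ZMod p, Polynomial.C (((Equiv.Perm.sign (modelHom e (Multiplicative.ofAdd v, 1)) : ℤ) : R)) *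
        (X : R[X]) ^ (∑ i, if v i = 0 then p else 1) = (X ^ p - X) ^ u := by
  simp only [sign_cast_eq_one e hR, map_one, one_mul, ← Finset.prod_pow_eq_pow_sum]
  rw [← Fintype.prod_sum (fun (_ : Fin u) (a : ZMod p) => (X : R[X]) ^ (if a = 0 then p else 1)),
    Finset.prod_const, Finset.card_univ, Fintype.card_fin]
  congr 1
  have h0 : (p : R[X]) = 0 := by rw [← map_natCast (C : R →+* R[X]) p, hR, map_zero]
  rw [← Finset.add_sum_erase _ _ (Finset.mem_univ (0 : ZMod p)), if_pos rfl,
    Finset.sum_congr rfl (fun a ha => by rw [if_neg (Finset.ne_of_mem_erase ha), pow_one] :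
      ∀ a ∈ (Finset.univ : Finset (ZMod p)).erase 0, (X : R[X]) ^ (if a = 0 then p else 1) = X),
    Finset.sum_const, Finset.card_erase_of_mem (Finset.mem_univ _), Finset.card_univ, ZMod.card,
    nsmul_eq_mul, Nat.cast_sub (Fact.out : p.Prime).one_le, h0]
  ring

/-- The translation of the first `k + 1` blocks. -/
def firstShift (p : ℕ) (k : Fin u) : Multiplicative (Fin u → ZMod p) :=
  Multiplicative.ofAdd fun i => if i ≤ k then 1 else 0

theorem orbCount_firstShift (k : Fin u) :
    orbCount (modelHom e (firstShift p k, 1)) + (k.val + 1) * (p - 1) = r + u * p := by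
  rw [orbCount_modelHom, orbCount_one, Nat.card_fin, add_assoc]
  congr 1
  have hone : (1 : ZMod p) ≠ 0 := one_ne_zero
  have : ∀ i : Fin u, ((if (firstShift p k).toAdd i = 0 then p else 1) : ℕ) + (if i ≤ k then p - 1 else 0) = p := by
    intro i
    have := (Fact.out : p.Prime).one_le
    by_cases hi : i ≤ k <;> simp [firstShift, hi]
    omega
  have h := Finset.sum_congr (s₁ := (Finset.univ : Finset (Fin u))) rfl fun i _ => this i
  rw [Finset.sum_add_distrib, ← Finset.sum_filter, Finset.sum_const, Finset.sum_const, Finset.card_univ,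
    Fintype.card_fin, smul_eq_mul, smul_eq_mul,
    show (Finset.univ.filter fun i : Fin u => i ≤ k) = Finset.Iic k by ext; simp, Fin.card_Iic] at h
  exact h

theorem exists_section_reps :
    ∃ X : Finset (Equiv.Perm (Fin n)),
      (∀ x ∈ X, x ∈ (supportHom e).range ∧ x ≠ 1 ∧ ∃ k, orderOf x = p ^ k) ∧
      (∀ x ∈ X, ∀ y ∈ X, IsConj x y → x = y) ∧
      X.card = if p = 2 ∧ 2 ≤ u then u + 1 else u := by
  classical
  haveI : NeZero p := ⟨(Fact.out : p.Prime).ne_zero⟩
  have hp : p.Prime := Fact.out
  let W : Fin u → Equiv.Perm (Fin n) := fun k => modelHom e (firstShift p k, 1)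
  have hW1 : ∀ k, orderOf (W k) = p := fun k => by
    have hW : W k ≠ 1 := fun h => by
      have h1 := (Prod.ext_iff.1 (modelHom_injective e (h.trans (map_one _).symm))).1
      have h2 := congrFun (congrArg Multiplicative.toAdd h1) k
      simp [firstShift] at h2
    exact orderOf_eq_prime (cycleSub_pow e ⟨_, rfl⟩) hW
  have hWc : ∀ k l, IsConj (W k) (W l) → k = l := fun k l h => by
    obtain ⟨c, hc⟩ := isConj_iff.1 h
    have h1 : orbCount (W l) = orbCount (W k) := by
      rw [← hc, show c * W k * c⁻¹ = (c : Fin n ≃ Fin n).permCongr (W k) from rfl, orbCount_permCongr]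
    have a := orbCount_firstShift e k
    have b := orbCount_firstShift e l
    rw [show orbCount (modelHom e (firstShift p l, 1)) = orbCount (modelHom e (firstShift p k, 1)) from h1] at b
    have h2 : (k.val + 1) * (p - 1) = (l.val + 1) * (p - 1) := by omega
    exact Fin.ext (Nat.succ_injective (Nat.eq_of_mul_eq_mul_right (Nat.sub_pos_of_lt hp.one_lt) h2))
  let X₀ := Finset.univ.image W
  have hX₀ : X₀.card = u := by
    rw [Finset.card_image_of_injective _ fun k l h => hWc k l ((show W k = W l from h) ▸ IsConj.refl (W k)), Finset.card_univ, Fintype.card_fin]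
  have hX₀p : ∀ x ∈ X₀, x ∈ (supportHom e).range ∧ x ≠ 1 ∧ ∃ k, orderOf x = p ^ k := fun x hx => by
    obtain ⟨k, -, rfl⟩ := Finset.mem_image.1 hx
    exact ⟨⟨_, supportHom_blockHom e _⟩, fun h => hp.ne_one ((hW1 k).symm.trans (orderOf_eq_one_iff.2 h)),
      1, (hW1 k).trans (pow_one p).symm⟩
  have hX₀c : ∀ x ∈ X₀, ∀ y ∈ X₀, IsConj x y → x = y := fun x hx y hy h => by
    obtain ⟨k, -, rfl⟩ := Finset.mem_image.1 hx
    obtain ⟨l, -, rfl⟩ := Finset.mem_image.1 hy
    rw [hWc k l h]
  by_cases hc : p = 2 ∧ 2 ≤ u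
  swap
  · exact ⟨X₀, hX₀p, hX₀c, by rw [if_neg hc, hX₀]⟩
  obtain ⟨rfl, hu⟩ := hc
  let i₀ : Fin u := ⟨0, by omega⟩
  let i₁ : Fin u := ⟨1, by omega⟩
  have h01 : i₀ ≠ i₁ := by simp [i₀, i₁]
  let f : Equiv.Perm (Fin u × ZMod 2) :=
    (Equiv.swap i₀ i₁).prodCongr (Equiv.refl _) * blockHom 2 u (Multiplicative.ofAdd (Pi.single i₀ 1))
  have hf : ∀ i a, f (i, a) = (Equiv.swap i₀ i₁ i, a + (if i = i₀ then 1 else 0)) := fun i a => by
    show ((Equiv.swap i₀ i₁).prodCongr (Equiv.refl _)) (blockHom 2 u _ (i, a)) = _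
    rw [blockHom_apply, toAdd_ofAdd, Pi.single_apply]
    rfl
  have hf2 : f ^ 2 = blockHom 2 u (Multiplicative.ofAdd (Pi.single i₀ 1 + Pi.single i₁ 1)) := by
    refine Equiv.ext fun ⟨i, a⟩ => ?_
    rw [pow_two, Equiv.Perm.mul_apply, hf, hf, blockHom_apply, toAdd_ofAdd, Pi.add_apply, Pi.single_apply,
      Pi.single_apply, Equiv.swap_apply_self]
    by_cases h0 : i = i₀
    · subst h0; simp [h01, Ne.symm h01]
    by_cases h1 : i = i₁
    · subst h1; simp [Ne.symm h01]
    simp [h0, h1, Equiv.swap_apply_of_ne_of_ne h0 h1]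
  have hy2 : supportHom e f ^ 2 ≠ 1 := fun h => by
    rw [← map_pow, hf2, supportHom_blockHom] at h
    have h1 := congrFun (congrArg Multiplicative.toAdd
      (Prod.ext_iff.1 (modelHom_injective e (h.trans (map_one _).symm))).1) i₀
    simp [Pi.single_eq_of_ne h01] at h1
  have hy : orderOf (supportHom e f) = 2 ^ 2 := by
    refine orderOf_eq_prime_pow (n := 1) (by rwa [pow_one]) ?_
    show supportHom e f ^ (2 * 2) = 1
    rw [pow_mul, ← map_pow, hf2, supportHom_blockHom]
    exact cycleSub_pow e ⟨_, rfl⟩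
  have hne : ∀ x ∈ X₀, ¬ IsConj x (supportHom e f) := fun x hx h => by
    obtain ⟨k, -, rfl⟩ := Finset.mem_image.1 hx
    obtain ⟨c, hc⟩ := isConj_iff.1 h
    have h1 : orderOf (supportHom e f) = orderOf (W k) := by
      rw [← hc]
      exact orderOf_injective (MulAut.conj c).toMonoidHom (MulAut.conj c).injective _
    rw [hy, hW1] at h1
    norm_num at h1
  refine ⟨insert (supportHom e f) X₀, fun x hx => ?_, fun x hx y hy' h => ?_, ?_⟩
  · rcases Finset.mem_insert.1 hx with rfl | hx
    · exact ⟨⟨f, rfl⟩, fun h => by rw [h, orderOf_one] at hy; norm_num at hy, 2, hy⟩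
    · exact hX₀p x hx
  · rcases Finset.mem_insert.1 hx with rfl | hx <;> rcases Finset.mem_insert.1 hy' with rfl | hy'
    · rfl
    · exact absurd h.symm (hne y hy')
    · exact absurd h (hne x hx)
    · exact hX₀c x hx y hy' h
  · rw [if_pos ⟨rfl, hu⟩, Finset.card_insert_of_notMem fun h => hne _ h (IsConj.refl _), hX₀]

end CfsgLib.SymBlock
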