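import Cfsg.Agent.Lib.Blocks.SubgroupRankSum
import Cfsg.Agent.Lib.Blocks.MainFirst

/-!
# The sections meeting the defect group are counted by characters minus regular rank
-/

set_option autoImplicit false

namespace CfsgLib.SymBlock

open Cfsg CfsgLib.Blocks

variable {G : Type*} [Group G] [Fintype G] {p : ℕ} {M : Ideal AlgInt}

theorem card_sections_add_blockRank_le (hM : IsPModular p M) {B : Set (IrrCharacter G)}
    (hB : IsPBlock M B) {D : Subgroup G} (hD : IsDefectGroup p M B D) (X : Finset G)
    (hX : ∀ x ∈ X, x ≠ 1 ∧ ∃ k : ℕ, orderOf x = p ^ k)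
    (hne : ∀ x ∈ X, ∀ y ∈ X, IsConj x y → x = y)
    (hconj : ∀ x ∈ X, ∃ c : G, c * x * c⁻¹ ∈ D) :
    X.card + blockRank p B ≤ Nat.card B := by
  classical
  have := isPrime_of_isPModular hM
  have key := RankSum.card_mul_card_sub_rank hM (IsPBlock.isBlockUnion hB)
  set T := X.biUnion fun x => (Finset.univ : Finset G).filter fun v => IsConj x v with hT
  have hord : ∀ {x v : G}, IsConj x v → orderOf v = orderOf x := fun {x v} h => by
    obtain ⟨c, rfl⟩ := isConj_iff.mp h
    exact orderOf_injective (MulAut.conj c).toMonoidHom (MulAut.conj c).injective x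
  have hsub : T ⊆ (Finset.univ : Finset G).filter fun v => v ≠ 1 ∧ ∃ k : ℕ, orderOf v = p ^ k := by
    intro v hv
    simp only [hT, Finset.mem_biUnion, Finset.mem_filter, Finset.mem_univ, true_and] at hv ⊢
    obtain ⟨x, hx, hxv⟩ := hv
    obtain ⟨hx1, k, hk⟩ := hX x hx
    refine ⟨fun h => hx1 ?_, k, (hord hxv).trans hk⟩
    subst h
    exact isConj_one_left.mp hxv
  have hpos : ∀ x ∈ X, ∀ v, IsConj x v →
      1 ≤ blockRank p (RankSum.inducingInto M (Subgroup.centralizer ({v} : Set G)) B) := by
    intro x hx v hxv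
    set C := Subgroup.centralizer ({v} : Set G)
    obtain ⟨-, k, hk⟩ := hX x hx
    have hP : IsPGroup p (Subgroup.zpowers v) :=
      IsPGroup.of_card (n := k) (by rw [Nat.card_zpowers, hord hxv, hk])
    have hcc : Subgroup.centralizer ((Subgroup.zpowers v : Subgroup G) : Set G) = C := by
      rw [Subgroup.zpowers_eq_closure, Subgroup.centralizer_closure]
    obtain ⟨b, hb⟩ : ∃ b : Set (IrrCharacter C), IsInducedBlock M C b B := by
      refine (exists_isInducedBlock_iff hM hP
        (Subgroup.zpowers_le.mpr (Subgroup.mem_centralizer_singleton_iff.mpr rfl)) hcc.le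
        (hcc.ge.trans (Subgroup.centralizer_le_normalizer (s := (Subgroup.zpowers v : Set G)))) hB hD).mpr ?_
      obtain ⟨c, hc⟩ := hconj x hx
      obtain ⟨a, rfl⟩ := isConj_iff.mp hxv
      refine ⟨c * a⁻¹, ?_⟩
      rw [MonoidHom.map_zpowers, Subgroup.zpowers_le]
      simpa [mul_assoc] using hc
    obtain ⟨ξ, hξ⟩ := IsPBlock.nonempty hb.1
    refine blockRank_pos ⟨ξ, B, subset_rfl, ?_⟩ hM.1.ne_one
    rwa [← IsPBlock.eq_blockOf hb.1 hξ]
  have hlow : ((Nat.card G : ℤ) * X.card) ≤
      ∑ v ∈ T, (Nat.card (Subgroup.centralizer ({v} : Set G)) : ℤ) *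
        (blockRank p (RankSum.inducingInto M (Subgroup.centralizer ({v} : Set G)) B) : ℤ) := by
    rw [hT, Finset.sum_biUnion]
    · rw [Finset.card_eq_sum_ones, Nat.cast_sum, Finset.mul_sum]
      refine Finset.sum_le_sum fun x hx => ?_
      rw [Nat.cast_one, mul_one]
      refine le_trans (le_of_eq ?_) (Finset.sum_le_sum fun v hv =>
        le_mul_of_one_le_right (Nat.cast_nonneg _) (by exact_mod_cast hpos x hx v (Finset.mem_filter.mp hv).2))
      have hcl : ((Finset.univ : Finset G).filter fun v => IsConj x v).card =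
          (Subgroup.centralizer ({x} : Set G)).index := by
        rw [index_centralizer_eq_card, Nat.card_eq_fintype_card, Fintype.card_subtype]
      rw [← Nat.cast_sum, Nat.cast_inj, Finset.sum_congr rfl
        (g := fun _ => Nat.card (Subgroup.centralizer ({x} : Set G))) fun v hv => ?_, Finset.sum_const,
        smul_eq_mul, hcl, ← card_centralizer_mul_index x, Nat.mul_comm]
      · obtain ⟨c, rfl⟩ := isConj_iff.mp (Finset.mem_filter.mp hv).2
        rw [← map_conj_centralizer x c, card_map_conj]
    · intro x hx y hy hxy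
      refine Finset.disjoint_left.mpr fun v h1 h2 => hxy (hne x hx y hy ?_)
      exact (Finset.mem_filter.mp h1).2.trans (Finset.mem_filter.mp h2).2.symm
  have hle := hlow.trans (Finset.sum_le_sum_of_subset_of_nonneg hsub fun v _ _ =>
    mul_nonneg (Nat.cast_nonneg _) (Nat.cast_nonneg _))
  rw [← key] at hle
  have := le_of_mul_le_mul_left hle (Nat.cast_pos.mpr Nat.card_pos)
  omega

end CfsgLib.SymBlock
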