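import Cfsg.Agent.Lib.SymBlock.Core
import Cfsg.Agent.Lib.SymBlock.Model
import Cfsg.Agent.Lib.SymBlock.Residue
import Cfsg.Agent.Lib.SymBlock.ContentResidue
import Cfsg.Agent.Lib.SymBlock.SectionCount
import Cfsg.Prelude.Def_CaseTheorems

/-!
# Blocks of symmetric groups with nontrivial defect group
-/

set_option autoImplicit false
set_option linter.unusedSectionVars false

namespace CfsgLib.SymBlock

open Cfsg CfsgLib.Blocks Polynomial

theorem support_card_of_pow_prime {n p : ℕ} [Fact p.Prime] {x : Equiv.Perm (Fin n)} (hx : x ^ p = 1) :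
    x.support.card = p * Multiset.card x.cycleType := by
  have hall : ∀ k ∈ x.cycleType, k = p := fun k hk => by
    have h1 := (Equiv.Perm.dvd_of_mem_cycleType hk).trans (orderOf_dvd_of_pow_eq_one hx)
    have h2 := Equiv.Perm.two_le_of_mem_cycleType hk
    rcases (Nat.dvd_prime (Fact.out : p.Prime)).mp h1 with h | h
    · omega
    · exact h
  rw [← Equiv.Perm.sum_cycleType, Multiset.eq_replicate_card.mpr hall, Multiset.sum_replicate,
    Multiset.card_replicate, smul_eq_mul, mul_comm]

theorem support_card_conj {n : ℕ} (c x : Equiv.Perm (Fin n)) :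
    (c * x * c⁻¹).support.card = x.support.card := by
  rw [Equiv.Perm.support_conj, Finset.card_map]

/-- Elements of a conjugate move as many points as elements of the group. -/
theorem le_of_mem_map_conj {n p N : ℕ} {D : Subgroup (Equiv.Perm (Fin n))}
    (hmax : ∀ z ∈ D, z ^ p = 1 → z.support.card ≤ N) {c z : Equiv.Perm (Fin n)}
    (hz : z ∈ D.map (MulAut.conj c).toMonoidHom) (hzp : z ^ p = 1) : z.support.card ≤ N := by
  obtain ⟨y, hy, rfl⟩ := hz
  have : y ^ p = 1 := (MulAut.conj c).injective (by rw [map_pow, map_one]; exact hzp)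
  exact (support_card_conj c y).trans_le (hmax y hy this)

variable {p : ℕ} [Fact p.Prime] {n u r : ℕ} (e : (Fin u × ZMod p) ⊕ Fin r ≃ Fin n)

theorem lt_support_card_of_ne_one {π : Equiv.Perm (Fin r)} (hπ : π ≠ 1) :
    p * u < (modelHom e (Multiplicative.ofAdd 1, π)).support.card := by
  classical
  obtain ⟨j, hj⟩ : ∃ j, π j ≠ j := by
    by_contra h
    push Not at h
    exact hπ (Equiv.ext h)
  set T : Finset (Fin n) := insert (e (.inr j))
    ((Finset.univ : Finset (Fin u × ZMod p)).image fun y => e (.inl y))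
  have hT : T.card = p * u + 1 := by
    rw [Finset.card_insert_of_notMem (by simp), Finset.card_image_of_injective _
      (fun a b h => Sum.inl_injective (e.injective h)), Finset.card_univ, Fintype.card_prod, Fintype.card_fin,
      ZMod.card, mul_comm]
  have := Finset.card_le_card (show T ⊆ (modelHom e (Multiplicative.ofAdd 1, π)).support from ?_)
  · omega
  intro y hy
  rw [Equiv.Perm.mem_support]
  simp only [T, Finset.mem_insert, Finset.mem_image, Finset.mem_univ, true_and] at hy
  rcases hy with rfl | ⟨⟨i, a⟩, rfl⟩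
  · rw [modelHom_inr]
    simpa using hj
  · rw [modelHom_inl]
    simp

theorem pos_of_isDefectGroup {D : Subgroup (Equiv.Perm (Fin n))} (hD : IsPGroup p D) (hD1 : D ≠ ⊥) :
    ∃ z ∈ D, z ^ p = 1 ∧ z ≠ 1 := by
  obtain ⟨k, hk, hcard⟩ := (IsPGroup.nontrivial_iff_card hD).mp ((Subgroup.nontrivial_iff_ne_bot D).mpr hD1)
  obtain ⟨z, hz⟩ := exists_prime_orderOf_dvd_card' p (hcard ▸ dvd_pow_self p hk.ne' : p ∣ Nat.card D)
  refine ⟨z, z.2, ?_, fun h => ?_⟩
  · rw [← Subgroup.coe_pow, ← hz, pow_orderOf_eq_one, Subgroup.coe_one]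
  · rw [show z = 1 from Subtype.ext h, orderOf_one] at hz
    exact (Fact.out : p.Prime).one_lt.ne hz

/-- The rank bound. -/
theorem pow_cycleSub_le {D : Subgroup (Equiv.Perm (Fin n))} {c : Equiv.Perm (Fin n)}
    (hc : (cycleSub e).map (MulAut.conj c).toMonoidHom ≤ D) {s : ℕ} (hs : SectionalPRankLE p s D) :
    u ≤ s := by
  set A := ((cycleSub e).map (MulAut.conj c).toMonoidHom).subgroupOf D with hA
  have hcard : Nat.card (A ⧸ (⊥ : Subgroup A)) = p ^ u := by
    rw [Nat.card_congr QuotientGroup.quotientBot.toEquiv, hA,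
      Nat.card_congr (Subgroup.subgroupOfEquivOfLe hc).toEquiv, card_map_conj, card_cycleSub]
  have hmem : ∀ a : A, ∃ y ∈ cycleSub e, (MulAut.conj c).toMonoidHom y = ((a : D) : Equiv.Perm (Fin n)) :=
    fun a => Subgroup.mem_map.mp (Subgroup.mem_subgroupOf.mp a.2)
  have hcomm : ∀ a b : A, a * b = b * a := fun a b => by
    obtain ⟨y, hy, hya⟩ := hmem a
    obtain ⟨z, hz, hzb⟩ := hmem b
    refine Subtype.ext (Subtype.ext ?_)
    simp only [Subgroup.coe_mul, ← hya, ← hzb, ← map_mul, cycleSub_comm e hy hz]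
  have hpow : ∀ a : A, a ^ p = 1 := fun a => by
    obtain ⟨y, hy, hya⟩ := hmem a
    refine Subtype.ext (Subtype.ext ?_)
    simp only [SubmonoidClass.coe_pow, ← hya, ← map_pow, cycleSub_pow e hy, map_one, OneMemClass.coe_one]
  have h1 := hs A ⊥ ⊤ ⟨⟨fun a b => Subtype.ext ?_⟩⟩ (fun a _ => ?_)
  · rw [Nat.card_congr Subgroup.topEquiv.toEquiv, hcard] at h1
    exact (Nat.pow_le_pow_iff_right (Fact.out : p.Prime).one_lt).mp h1
  · obtain ⟨x, hx⟩ := QuotientGroup.mk'_surjective (⊥ : Subgroup A) a.1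
    obtain ⟨y, hy⟩ := QuotientGroup.mk'_surjective (⊥ : Subgroup A) b.1
    simp only [Subgroup.coe_mul, ← hx, ← hy, ← map_mul, hcomm x y]
  · obtain ⟨x, rfl⟩ := QuotientGroup.mk'_surjective (⊥ : Subgroup A) a
    rw [← map_pow, hpow, map_one]

variable {M : Ideal AlgInt} (hM : IsPModular p M) {B : Set (IrrCharacter (Equiv.Perm (Fin n)))}
  (hB : IsPBlock M B) {D : Subgroup (Equiv.Perm (Fin n))} (hD : IsDefectGroup p M B D)
include hM hB hD

/-- The translations of a widest element lie in a defect group. -/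
theorem exists_conj_cycleSub_le (hx : modelX e ∈ D) :
    ∃ c : Equiv.Perm (Fin n), (cycleSub e).map (MulAut.conj c).toMonoidHom ≤ D := by
  classical
  have := isPrime_of_isPModular hM
  set C := Subgroup.centralizer ({modelX e} : Set (Equiv.Perm (Fin n)))
  have hcc : Subgroup.centralizer ((Subgroup.zpowers (modelX e) : Subgroup (Equiv.Perm (Fin n))) :
      Set (Equiv.Perm (Fin n))) = C := by
    rw [Subgroup.zpowers_eq_closure, Subgroup.centralizer_closure]
  have hEC : cycleSub e ≤ C := fun y hy =>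
    Subgroup.mem_centralizer_singleton_iff.mpr (cycleSub_comm e hy (modelX_mem e))
  obtain ⟨b, hb⟩ : ∃ b : Set (IrrCharacter C), IsInducedBlock M C b B := by
    refine (exists_isInducedBlock_iff hM
      ((IsDefectGroup.isPGroup hM hD).to_le (Subgroup.zpowers_le.mpr hx))
      (Subgroup.zpowers_le.mpr (Subgroup.mem_centralizer_singleton_iff.mpr rfl)) hcc.le
      (hcc.ge.trans (Subgroup.centralizer_le_normalizer
        (s := (Subgroup.zpowers (modelX e) : Set (Equiv.Perm (Fin n)))))) hB hD).mpr ⟨1, ?_⟩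
    simpa [Subgroup.zpowers_le] using hx
  obtain ⟨Δ, hΔ⟩ := exists_isDefectGroup hM hb.1
  have hnorm : ((cycleSub e).subgroupOf C).Normal :=
    (Subgroup.normal_subgroupOf_iff_le_normalizer hEC).mpr (centralizer_modelX_le e)
  have hEp : IsPGroup p (cycleSub e) := IsPGroup.of_card (card_cycleSub e)
  have hle := IsDefectGroup.normal_le hM hb.1 hΔ ((cycleSub e).subgroupOf C)
    (hEp.of_equiv (Subgroup.subgroupOfEquivOfLe hEC).symm)
  obtain ⟨D', hD', hΔD'⟩ := IsInducedBlock.exists_defectGroup_le hM hb hΔ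
  obtain ⟨c, hc⟩ := IsDefectGroup.exists_conj_eq hM hB hD' hD
  refine ⟨c, hc ▸ Subgroup.map_mono fun y hy => hΔD' ⟨⟨y, hEC hy⟩, hle (Subgroup.mem_subgroupOf.mpr hy), rfl⟩⟩

/-- The shapes of the block have the runner counts of one core, and the elements on the support are
conjugate into the defect group. -/
theorem block_structure (hmax : ∀ z ∈ D, z ^ p = 1 → z.support.card ≤ p * u) {c₀ : Equiv.Perm (Fin n)}
    (hc₀ : (cycleSub e).map (MulAut.conj c₀).toMonoidHom ≤ D) (m : ℕ) (hm : n ≤ m) :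
    (∃ (S₀ : {S : Finset ℕ // IsShape m r S}) (b : Set (IrrCharacter (modelHom e).range))
      (ξ : IrrCharacter (modelHom e).range) (l : Multiplicative (Fin u → ZMod p) →* ℂ),
      IsInducedBlock M (modelHom e).range b B ∧ ξ ∈ b ∧
      (∀ v π, (ξ : (modelHom e).range → ℂ) ⟨modelHom e (v, π), (v, π), rfl⟩ =
        l v * (semiChar S₀ : Equiv.Perm (Fin r) → ℂ) π) ∧
      r.factorial.factorization p ≤ (Nat.card (Tab m r S₀.1)).factorization p ∧
      IsCore p S₀.1 ∧
      ∀ χ ∈ B, ∃ S : {S : Finset ℕ // IsShape m n S}, semiChar S = χ ∧ ∀ x,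
        runnerCount p S.1 x = runnerCount p S₀.1 x) ∧
    ∀ f : Equiv.Perm (Fin u × ZMod p), (∃ k, orderOf f = p ^ k) →
      ∃ c : Equiv.Perm (Fin n), c * supportHom e f * c⁻¹ ∈ D := by
  classical
  have := isPrime_of_isPModular hM
  have hp : p.Prime := Fact.out
  have : NeZero p := ⟨hp.ne_zero⟩
  set φ := modelHom e
  set H := φ.range
  have hEH : cycleSub e ≤ H := cycleSub_le_range e
  have hEp : IsPGroup p (cycleSub e) := IsPGroup.of_card (card_cycleSub e)
  have hcH : Subgroup.centralizer (cycleSub e : Set (Equiv.Perm (Fin n))) = H := centralizer_cycleSub e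
  obtain ⟨b, hb⟩ : ∃ b : Set (IrrCharacter H), IsInducedBlock M H b B :=
    (exists_isInducedBlock_iff hM hEp hEH hcH.le
      (hcH.ge.trans (Subgroup.centralizer_le_normalizer (s := (cycleSub e : Set (Equiv.Perm (Fin n))))))
      hB hD).mpr ⟨c₀, hc₀⟩
  obtain ⟨Δ, hΔ⟩ := exists_isDefectGroup hM hb.1
  have hnorm : ((cycleSub e).subgroupOf H).Normal := by
    constructor
    intro y hy g
    rw [Subgroup.mem_subgroupOf] at hy ⊢
    have hcomm : (y : Equiv.Perm (Fin n)) * g = g * y :=
      (Subgroup.mem_centralizer_iff.mp (hcH.ge g.2) _ hy)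
    simp only [Subgroup.coe_mul, Subgroup.coe_inv, ← hcomm, mul_inv_cancel_right]
    exact hy
  have hle := IsDefectGroup.normal_le hM hb.1 hΔ ((cycleSub e).subgroupOf H)
    (hEp.of_equiv (Subgroup.subgroupOfEquivOfLe hEH).symm)
  obtain ⟨D', hD', hΔD'⟩ := IsInducedBlock.exists_defectGroup_le hM hb hΔ
  obtain ⟨c', hc'⟩ := IsDefectGroup.exists_conj_eq hM hB hD hD'
  have hmax' : ∀ z ∈ D', z ^ p = 1 → z.support.card ≤ p * u := fun z hz hzp =>
    le_of_mem_map_conj hmax (hc' ▸ hz) hzp
  -- the defect group of the block of the centralizer is the translation group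
  have hΔE : Δ ≤ (cycleSub e).subgroupOf H := by
    intro q hq
    obtain ⟨⟨v, π⟩, hvπ⟩ := q.2
    rw [Subgroup.mem_subgroupOf]
    by_cases hπ : π = 1
    · subst hπ
      exact hvπ ▸ (mem_cycleSub e).mpr ⟨v, rfl⟩
    exfalso
    have hqp : ∃ a, ((v, π) : Multiplicative (Fin u → ZMod p) × Equiv.Perm (Fin r)) ^ p ^ a = 1 := by
      obtain ⟨a, ha⟩ := IsDefectGroup.isPGroup hM hΔ ⟨q, hq⟩
      refine ⟨a, modelHom_injective e ?_⟩
      rw [map_pow, map_one]
      have h2 := congrArg (fun z : Δ => ((z : H) : Equiv.Perm (Fin n))) ha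
      simpa [hvπ, φ] using h2
    obtain ⟨a, ha⟩ := hqp
    obtain ⟨k, -, hk⟩ := (Nat.dvd_prime_pow hp).mp
      (orderOf_dvd_of_pow_eq_one (show π ^ p ^ a = 1 from congrArg Prod.snd ha))
    have hk0 : k ≠ 0 := fun h => hπ (by rwa [h, pow_zero, orderOf_eq_one_iff] at hk)
    set N := p ^ (k - 1)
    have hπN : π ^ N ≠ 1 := fun h => by
      have := orderOf_dvd_of_pow_eq_one h
      rw [hk, Nat.pow_dvd_pow_iff_le_right hp.one_lt] at this
      omega
    set z : H := ⟨φ (Multiplicative.ofAdd 1 * (v ^ N)⁻¹, 1), _, rfl⟩ * q ^ N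
    have hz : z ∈ Δ := Δ.mul_mem (hle (Subgroup.mem_subgroupOf.mpr ((mem_cycleSub e).mpr ⟨_, rfl⟩))) (Δ.pow_mem hq N)
    have hzval : (z : Equiv.Perm (Fin n)) = φ (Multiplicative.ofAdd 1, π ^ N) := by
      simp only [z, Subgroup.coe_mul, SubmonoidClass.coe_pow, ← hvπ, ← map_pow, ← map_mul, Prod.pow_mk,
        Prod.mk_mul_mk, inv_mul_cancel_right, one_mul]
    have hzp : (z : Equiv.Perm (Fin n)) ^ p = 1 := by
      rw [hzval, ← map_pow, Prod.pow_mk, pow_prime_eq_one, ← pow_mul,
        show N * p = p ^ k by rw [← pow_succ, Nat.sub_add_cancel (Nat.pos_of_ne_zero hk0)],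
        ← hk, pow_orderOf_eq_one]
      exact map_one φ
    have := hmax' _ (hΔD' ⟨z, hz, rfl⟩) hzp
    rw [show H.subtype z = φ (Multiplicative.ofAdd 1, π ^ N) from hzval] at this
    exact absurd this (not_le.mpr (lt_support_card_of_ne_one e hπN))
  have hΔcard : Nat.card Δ = p ^ u := by
    rw [le_antisymm hΔE hle, Nat.card_congr (Subgroup.subgroupOfEquivOfLe hEH).toEquiv, card_cycleSub]
  refine ⟨?_, fun f hf => ?_⟩
  · -- characters of defect zero
    obtain ⟨d, hd, -, -, ξ, hξ, hξd⟩ := IsDefectGroup.degree_exponents hM hb.1 hΔ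
    obtain rfl : u = d := Nat.pow_right_injective hp.two_le (hΔcard.symm.trans hd)
    let j : Multiplicative (Fin u → ZMod p) → ℕ := fun v => ∑ i, if v.toAdd i = 0 then p else 1
    obtain ⟨l, S₀, hl, hres⟩ := resPoly_eq (m := m) hM (pow_prime_eq_one (p := p) (u := u))
      (by
        have := Nat.card_congr e
        simp only [Nat.card_eq_fintype_card, Fintype.card_sum, Fintype.card_prod, Fintype.card_fin] at this
        omega)
      φ (modelHom_injective e) j (orbCount_modelHom e)
      (fun v π => by simp only [φ, sign_modelHom, map_one, mul_one]) hb hξ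
    have hfac : r.factorial.factorization p ≤ (Nat.card (Tab m r S₀.1)).factorization p := by
      have h1 : (ξ : H → ℂ) 1 = (Nat.card (Tab m r S₀.1) : ℂ) := by
        have h2 := hl 1 1
        rw [map_one, one_mul] at h2
        have e1 : (⟨φ (1, 1), (1, 1), rfl⟩ : H) = 1 := Subtype.ext (map_one φ)
        rw [e1] at h2
        rw [h2, Nat.card_eq_fintype_card]
        show (seminormal m r S₀.1).character 1 = _
        rw [Representation.char_one, Module.finrank_finsupp_self]
      rw [(irr_degree_eq ξ).1, Nat.cast_inj] at h1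
      have hH : Nat.card H = p ^ u * r.factorial := by
        rw [Nat.card_congr (MonoidHom.ofInjective (modelHom_injective e)).symm.toEquiv, Nat.card_prod,
          Nat.card_eq_fintype_card, Nat.card_eq_fintype_card, Fintype.card_perm, Fintype.card_fin,
          Fintype.card_multiplicative, Fintype.card_fun, Fintype.card_fin, ZMod.card]
      rw [h1, hH, Nat.factorization_mul (pow_ne_zero _ hp.ne_zero) (Nat.factorial_ne_zero r),
        Finsupp.add_apply, hp.factorization_pow, Finsupp.single_eq_same, Nat.add_sub_cancel_left] at hξd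
      exact hξd.ge
    refine ⟨S₀, b, ξ, l, hb, hξ, hl, hfac, isCore_of_factorization_card_le S₀.2 hfac, fun χ hχ => ?_⟩
    obtain ⟨S, rfl⟩ := semiChar_surjective hm χ
    refine ⟨S, rfl, fun x => ?_⟩
    · have hpoly : resPoly M S = (X ^ p - X) ^ u * resPoly M S₀ := by
        rw [hres S hχ]
        congr 1
        have := charP_resField hM
        rw [← sum_sign_orbit e (CharP.cast_eq_zero (ResField M) p)]
        exact Fintype.sum_equiv Multiplicative.toAdd _ _ fun v => rfl
      have hres' := residues_of_resPoly_eq hM S S₀ hpoly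
      have key := runnerCount_eq (someTab S).2.2.1 (someTab S₀).2.2.1 hres' x
      rwa [(someTab S).2.2.2, (someTab S₀).2.2.2] at key
  · obtain ⟨g, hg, hsyl⟩ := isDefectGroup_iff.mp hD'
    have hgH : g ∈ H := hcH ▸ Subgroup.mem_centralizer_iff.mpr fun y hy =>
      Subgroup.mem_centralizer_singleton_iff.mp
        (hsyl.1 (hΔD' ⟨⟨y, hEH hy⟩, hle (Subgroup.mem_subgroupOf.mpr hy), rfl⟩))
    obtain ⟨k, hk⟩ := hf
    have hcomm := commute_supportHom_of_regular e hgH (IsDefectClass.isPRegular hM hB hg) f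
    have hQ : IsPGroup p (Subgroup.zpowers (supportHom e f)) := IsPGroup.of_card (n := k)
      (by rw [Nat.card_zpowers, orderOf_injective _ (supportHom_injective e), hk])
    obtain ⟨y, -, hy⟩ := hsyl.exists_conj_le hQ
      (Subgroup.zpowers_le.mpr (Subgroup.mem_centralizer_singleton_iff.mpr hcomm.symm.eq))
    have hmem := hy (Subgroup.mem_zpowers _)
    rw [hc', Subgroup.map_map] at hmem
    obtain ⟨w, hw, hwe⟩ := hmem
    refine ⟨(y * c')⁻¹, ?_⟩
    rw [← hwe]
    simpa [mul_assoc] using hw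

/-- The data of a block of a symmetric group. -/
theorem exists_block_data :
    ∃ (u r : ℕ) (e : (Fin u × ZMod p) ⊕ Fin r ≃ Fin n), r + p * u = n ∧ modelX e ∈ D ∧
      (∀ z ∈ D, z ^ p = 1 → z.support.card ≤ p * u) ∧
      (∃ c : Equiv.Perm (Fin n), (cycleSub e).map (MulAut.conj c).toMonoidHom ≤ D) ∧
      (∀ f : Equiv.Perm (Fin u × ZMod p), (∃ k, orderOf f = p ^ k) →
        ∃ c : Equiv.Perm (Fin n), c * supportHom e f * c⁻¹ ∈ D) ∧
      (∀ s, SectionalPRankLE p s D → u ≤ s) ∧ (D ≠ ⊥ → 1 ≤ u) ∧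
      ∀ m, n ≤ m → ∃ (S₀ : {S : Finset ℕ // IsShape m r S}) (b : Set (IrrCharacter (modelHom e).range))
        (ξ : IrrCharacter (modelHom e).range) (l : Multiplicative (Fin u → ZMod p) →* ℂ),
        IsInducedBlock M (modelHom e).range b B ∧ ξ ∈ b ∧
        (∀ v π, (ξ : (modelHom e).range → ℂ) ⟨modelHom e (v, π), (v, π), rfl⟩ =
          l v * (semiChar S₀ : Equiv.Perm (Fin r) → ℂ) π) ∧
        r.factorial.factorization p ≤ (Nat.card (Tab m r S₀.1)).factorization p ∧
        IsCore p S₀.1 ∧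
        ∀ χ ∈ B, ∃ S : {S : Finset ℕ // IsShape m n S}, semiChar S = χ ∧ ∀ x,
          runnerCount p S.1 x = runnerCount p S₀.1 x := by
  classical
  obtain ⟨x, hx, hxmax⟩ := ((Finset.univ : Finset (Equiv.Perm (Fin n))).filter
    fun z => z ∈ D ∧ z ^ p = 1).exists_max_image (fun z => z.support.card)
    ⟨1, by simp [D.one_mem]⟩
  simp only [Finset.mem_filter, Finset.mem_univ, true_and] at hx hxmax
  obtain ⟨u', r', e', hn, rfl, hu⟩ := exists_model x hx.2
  have hsupp : (modelX e').support.card = p * u' := by rw [support_card_of_pow_prime hx.2, ← hu]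
  have hmax : ∀ z ∈ D, z ^ p = 1 → z.support.card ≤ p * u' := fun z hz hzp => hsupp ▸ hxmax z ⟨hz, hzp⟩
  obtain ⟨c₀, hc₀⟩ := exists_conj_cycleSub_le e' hM hB hD hx.1
  refine ⟨u', r', e', hn, hx.1, hmax, ⟨c₀, hc₀⟩, (block_structure e' hM hB hD hmax hc₀ n le_rfl).2,
    fun s hs => pow_cycleSub_le e' hc₀ hs, fun hD1 => ?_,
    fun m hm => (block_structure e' hM hB hD hmax hc₀ m hm).1⟩
  obtain ⟨z₀, hz₀D, hz₀p, hz₀⟩ := pos_of_isDefectGroup (IsDefectGroup.isPGroup hM hD) hD1
  have h1 := hmax z₀ hz₀D hz₀p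
  have h2 : 0 < z₀.support.card := Finset.card_pos.mpr (Finset.nonempty_iff_ne_empty.mpr
    (fun h => hz₀ (Equiv.Perm.support_eq_empty_iff.mp h)))
  exact Nat.pos_of_ne_zero fun h => by
    rw [h, mul_zero] at h1
    omega

/-- The rank of a block of a symmetric group with nontrivial defect group. -/
theorem blockRank_lt (hD1 : D ≠ ⊥) {s : ℕ} (hs : SectionalPRankLE p s D) : blockRank p B < p ^ s := by
  classical
  have hp : p.Prime := Fact.out
  have : NeZero p := ⟨hp.ne_zero⟩
  obtain ⟨u', r', e', hn, -, -, -, hconj, hus, hu1, hdata⟩ := exists_block_data hM hB hD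
  replace hus := hus s hs
  replace hu1 := hu1 hD1
  obtain ⟨S₀', -, -, -, -, -, -, -, hcore, hrun⟩ := hdata n le_rfl
  obtain ⟨X, hX, hXne, hXcard⟩ := exists_section_reps e'
  have hsec := card_sections_add_blockRank_le hM hB hD X (fun y hy => ⟨(hX y hy).2.1, (hX y hy).2.2⟩)
    hXne fun y hy => by
      obtain ⟨⟨f, rfl⟩, -, k, hk⟩ := hX y hy
      exact hconj f ⟨k, by rw [← hk, orderOf_injective _ (supportHom_injective e')]⟩
  -- the shapes of the block
  have : Finite (IrrCharacter (Equiv.Perm (Fin n))) := CfsgLib.Char.finite_irrCharacter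
  have hfin : Finite {S : Finset ℕ // IsShape n n S} := Finite.of_injective _ semiChar_injective
  have : Fintype {S : Finset ℕ // IsShape n n S} := Fintype.ofFinite _
  set T := ((Finset.univ : Finset {S : Finset ℕ // IsShape n n S}).filter fun S => semiChar S ∈ B).image
    Subtype.val
  have hkB : Nat.card B = T.card := by
    rw [Finset.card_image_of_injective _ Subtype.val_injective, ← Fintype.card_subtype,
      ← Nat.card_eq_fintype_card]
    exact (Nat.card_congr ((Equiv.ofBijective semiChar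
      ⟨semiChar_injective, semiChar_surjective le_rfl⟩).subtypeEquiv fun S => Iff.rfl)).symm
  have hT : ∀ S ∈ T, IsShape n n S ∧ ∀ y, runnerCount p S y = runnerCount p S₀'.1 y := fun S hS => by
    obtain ⟨S', hS', rfl⟩ := Finset.mem_image.mp hS
    obtain ⟨S'', hS'', hrun''⟩ := hrun _ (Finset.mem_filter.mp hS').2
    obtain rfl := semiChar_injective hS''
    exact ⟨S''.2, hrun''⟩
  have hbound : ∀ (B' : ℕ → ℕ), (∀ c q, (runnerSets c q).card ≤ B' q) → T.card ≤ conv B' p u' :=
    fun B' hB' => card_shapes_le hn.symm S₀'.2 hcore T hT B' hB'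
  have hfib : ∀ c q, (runnerSets c q).card ≤ fibB q := fun c q =>
    (card_runnerSets_le c q).trans (part_le_fib c q)
  refine lt_of_lt_of_le ?_ (Nat.pow_le_pow_right hp.pos hus)
  rw [hkB, hXcard] at hsec
  rcases Nat.lt_or_ge p 3 with hp3 | hp3
  · obtain rfl : p = 2 := by have := hp.two_le; omega
    rcases Nat.lt_or_ge u' 2 with hu2 | hu2
    · obtain rfl : u' = 1 := by omega
      rw [if_neg (by omega)] at hsec
      have h := hbound fibB hfib
      rw [conv_fib_one] at h
      simp only [pow_one]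
      omega
    · rw [if_pos ⟨rfl, hu2⟩] at hsec
      have h := (hbound (fun q => part q q) fun c q => (card_runnerSets_le c q).trans (part_le_diag c q)).trans
        (conv_part_two hu2)
      omega
  · rw [if_neg (by omega)] at hsec
    have h := (hbound fibB hfib).trans (conv_fib_le hp3 u')
    omega

end CfsgLib.SymBlock
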