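import Cfsg.Agent.Lib.SymBlock.ContentResidue
import Cfsg.Agent.Lib.SymBlock.Residue
import Cfsg.Agent.Lib.Blocks.Covering
import Cfsg.Agent.Lib.Blocks.Integrality

/-!
# Class sums are symmetric polynomials in the Jucys–Murphy elements modulo smaller support

Hence equal content residues give equal blocks (Murphy's form of the converse Nakayama rule).
-/

set_option autoImplicit false
set_option linter.unusedSectionVars false
set_option linter.style.haveILetI false

namespace CfsgLib.SymBlock

open Cfsg CfsgLib.Blocks Finsupp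
open scoped CfsgLib.Char

variable {n : ℕ}

/-- The product of the transpositions `(i k)`, `i` in `l`. -/
def star (k : Fin n) (l : List (Fin n)) : Equiv.Perm (Fin n) :=
  (l.map fun i => Equiv.swap i k).prod

theorem star_eq_formPerm (k : Fin n) : ∀ l : List (Fin n), l.Nodup → k ∉ l →
    star k l = (k :: l.reverse).formPerm
  | [], _, _ => by simp [star]
  | i :: l, hl, hk => by
    rw [List.nodup_cons] at hl
    rw [List.mem_cons, not_or] at hk
    have ih := star_eq_formPerm k l hl.2 hk.2
    show Equiv.swap i k * star k l = _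
    rw [ih, ← List.formPerm_cons_cons]
    have hnd : (i :: k :: l.reverse).Nodup := by
      simp only [List.nodup_cons, List.mem_cons, List.mem_reverse, List.nodup_reverse, not_or]
      exact ⟨⟨Ne.symm hk.1, hl.1⟩, hk.2, hl.2⟩
    rw [List.reverse_cons, ← List.formPerm_rotate _ hnd 1]
    simp [List.rotate_cons_succ]

theorem support_star (k : Fin n) : ∀ l : List (Fin n), (star k l).support ⊆ insert k l.toFinset
  | [] => by simp [star]
  | i :: l => by
    show (Equiv.swap i k * star k l).support ⊆ _
    refine (Equiv.Perm.support_mul_le _ _).trans (Finset.union_subset ?_ ((support_star k l).trans ?_))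
    · by_cases h : i = k
      · simp [h, Equiv.Perm.one_def]
      · rw [Equiv.Perm.support_swap h]
        intro x hx
        simp only [Finset.mem_insert, Finset.mem_singleton] at hx
        simp only [Finset.mem_insert, List.mem_toFinset, List.mem_cons]
        tauto
    · intro x hx
      simp only [Finset.mem_insert, List.mem_toFinset, List.mem_cons] at hx ⊢
      tauto

/-- The exponent pattern of a word. -/
def shapeOf (ν : Fin n → ℕ) : Multiset ℕ := (Finset.univ.val.map ν).filter (· ≠ 0)

/-- The exponent functions of pattern `μ`. -/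
def exps (n : ℕ) (μ : Multiset ℕ) : Finset (Fin n → ℕ) :=
  (Fintype.piFinset fun _ : Fin n => Finset.range (μ.sum + 1)).filter fun ν => shapeOf ν = μ

theorem mem_exps {μ : Multiset ℕ} {ν : Fin n → ℕ} : ν ∈ exps n μ ↔ shapeOf ν = μ := by
  rw [exps, Finset.mem_filter, Fintype.mem_piFinset, and_iff_right_iff_imp]
  intro h k
  rw [Finset.mem_range, Nat.lt_succ_iff]
  by_cases hk : ν k = 0
  · simp [hk]
  · refine Multiset.le_sum_of_mem ?_
    rw [← h, shapeOf, Multiset.mem_filter]
    exact ⟨Multiset.mem_map_of_mem _ (Finset.mem_univ_val k), hk⟩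

/-- The lists of length `a` below `k`. -/
def lists (k : Fin n) : ℕ → Finset (List (Fin n))
  | 0 => {[]}
  | a + 1 => (Finset.Iio k ×ˢ lists k a).image fun x => x.1 :: x.2

theorem mem_lists {k : Fin n} : ∀ {a : ℕ} {l : List (Fin n)},
    l ∈ lists k a ↔ l.length = a ∧ ∀ i ∈ l, i < k
  | 0, l => by
    simp only [lists, Finset.mem_singleton]
    constructor
    · rintro rfl; simp
    · exact fun h => List.length_eq_zero_iff.1 h.1
  | a + 1, l => by
    simp only [lists, Finset.mem_image, Finset.mem_product, Finset.mem_Iio, Prod.exists]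
    constructor
    · rintro ⟨i, l', ⟨hi, hl'⟩, rfl⟩
      obtain ⟨h1, h2⟩ := mem_lists.1 hl'
      exact ⟨by simp [h1], by simpa [hi] using h2⟩
    · rintro ⟨h1, h2⟩
      obtain ⟨i, l', rfl⟩ := List.exists_cons_of_length_eq_add_one h1
      exact ⟨i, l', ⟨h2 i (by simp), mem_lists.2 ⟨by simpa using h1, fun j hj => h2 j (by simp [hj])⟩⟩, rfl⟩

/-- The product of the stars of a word. -/
def wordProd (g : Fin n → List (Fin n)) : Equiv.Perm (Fin n) :=
  (List.ofFn fun k => star k (g k)).prod

/-- The words of pattern `μ`. -/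
def words (n : ℕ) (μ : Multiset ℕ) : Finset (Fin n → List (Fin n)) :=
  (exps n μ).biUnion fun ν => Fintype.piFinset fun k => lists k (ν k)

theorem mem_words {μ : Multiset ℕ} {g : Fin n → List (Fin n)} :
    g ∈ words n μ ↔ shapeOf (fun k => (g k).length) = μ ∧ ∀ k, ∀ i ∈ g k, i < k := by
  simp only [words, Finset.mem_biUnion, Fintype.mem_piFinset, mem_exps, mem_lists]
  constructor
  · rintro ⟨ν, hν, hg⟩
    exact ⟨by rwa [show (fun k => (g k).length) = ν from funext fun k => (hg k).1], fun k => (hg k).2⟩
  · rintro ⟨h1, h2⟩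
    exact ⟨_, h1, fun k => ⟨rfl, h2 k⟩⟩

section Combinatorics

variable (g : Fin n → List (Fin n))

/-- The centres of the nonempty stars. -/
def centres : List (Fin n) := (List.finRange n).filter fun k => decide (g k ≠ [])

theorem mem_centres {k : Fin n} : k ∈ centres g ↔ g k ≠ [] := by
  simp [centres]

theorem nodup_centres : (centres g).Nodup := (List.nodup_finRange n).filter _

theorem prod_map_filter_ne_nil : ∀ L : List (Fin n), (L.map fun k => star k (g k)).prod =
    ((L.filter fun k => decide (g k ≠ [])).map fun k => star k (g k)).prod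
  | [] => rfl
  | k :: L => by
    have ih := prod_map_filter_ne_nil L
    by_cases h : g k = []
    · rw [List.map_cons, List.prod_cons, List.filter_cons_of_neg (by simp [h]), ih, h]
      simp [star]
    · simp [List.filter_cons, h, ih]

theorem wordProd_eq : wordProd g = ((centres g).map fun k => star k (g k)).prod := by
  rw [wordProd, List.ofFn_eq_map]
  exact prod_map_filter_ne_nil g _

/-- The points met by the stars. -/
def pts : Finset (Fin n) := (centres g).toFinset.biUnion fun k => insert k (g k).toFinset

theorem support_wordProd : (wordProd g).support ⊆ pts g := by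
  rw [wordProd_eq]
  refine (show ∀ L : List (Fin n), ((L.map fun k => star k (g k)).prod).support ⊆
    L.toFinset.biUnion fun k => insert k (g k).toFinset from ?_) _
  intro L
  induction L with
  | nil => simp
  | cons k L ih =>
    rw [List.map_cons, List.prod_cons, List.toFinset_cons, Finset.biUnion_insert]
    exact (Equiv.Perm.support_mul_le _ _).trans (Finset.union_subset_union (support_star _ _) ih)

theorem sum_length_centres :
    ∑ k ∈ (centres g).toFinset, ((g k).length + 1) =
      ((shapeOf fun k => (g k).length).map (· + 1)).sum := by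
  rw [shapeOf, Multiset.filter_map, Multiset.map_map, Finset.sum_eq_multiset_sum]
  congr 1
  have : (centres g).toFinset = Finset.univ.filter fun k => (g k).length ≠ 0 := by
    ext k; simp [mem_centres]
  rw [this, Finset.filter_val]
  rfl

theorem card_pts_le : (pts g).card ≤ ((shapeOf fun k => (g k).length).map (· + 1)).sum := by
  rw [← sum_length_centres]
  refine Finset.card_biUnion_le.trans (Finset.sum_le_sum fun k _ => ?_)
  exact (Finset.card_insert_le _ _).trans (by simpa using List.toFinset_card_le _)

variable {g}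

/-- All points of all stars are distinct. -/
def Distinct (g : Fin n → List (Fin n)) : Prop :=
  (∀ k, (k :: g k).Nodup) ∧
    ∀ k k', g k ≠ [] → g k' ≠ [] → k ≠ k' → Disjoint (insert k (g k).toFinset) (insert k' (g k').toFinset)

theorem distinct_of_card (h : ((shapeOf fun k => (g k).length).map (· + 1)).sum ≤ (pts g).card) :
    Distinct g := by
  classical
  rw [← sum_length_centres] at h
  have h1 : ∀ k ∈ (centres g).toFinset, (insert k (g k).toFinset).card ≤ (g k).length + 1 := fun k _ =>
    (Finset.card_insert_le _ _).trans (by simpa using List.toFinset_card_le _)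
  have h2 : ∑ k ∈ (centres g).toFinset, (insert k (g k).toFinset).card =
      ∑ k ∈ (centres g).toFinset, ((g k).length + 1) :=
    le_antisymm (Finset.sum_le_sum h1) (h.trans Finset.card_biUnion_le)
  have h3 := (Finset.sum_eq_sum_iff_of_le h1).1 h2
  refine ⟨fun k => ?_, fun k k' hk hk' hne => ?_⟩
  · by_cases hk : g k = []
    · simp [hk]
    have := h3 k (List.mem_toFinset.2 ((mem_centres g).2 hk))
    refine Multiset.coe_nodup.1 (Multiset.toFinset_card_eq_card_iff_nodup.1 ?_)
    rw [List.toFinset_coe, List.toFinset_cons, this]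
    simp
  · rw [Finset.disjoint_left]
    intro x hx hx'
    have hkm := List.mem_toFinset.2 ((mem_centres g).2 hk)
    have hk'm := List.mem_toFinset.2 ((mem_centres g).2 hk')
    have hlt : (pts g).card < ∑ j ∈ (centres g).toFinset, (insert j (g j).toFinset).card := by
      rw [pts, ← Finset.insert_erase hkm, Finset.biUnion_insert, Finset.sum_insert (Finset.notMem_erase _ _)]
      have := Finset.card_union_add_card_inter (insert k (g k).toFinset)
        (((centres g).toFinset.erase k).biUnion fun j => insert j (g j).toFinset)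
      have hpos : 0 < (insert k (g k).toFinset ∩
          ((centres g).toFinset.erase k).biUnion fun j => insert j (g j).toFinset).card :=
        Finset.card_pos.2 ⟨x, Finset.mem_inter.2 ⟨hx, Finset.mem_biUnion.2
          ⟨k', Finset.mem_erase.2 ⟨hne.symm, hk'm⟩, hx'⟩⟩⟩
      have := Finset.card_biUnion_le (s := (centres g).toFinset.erase k)
        (t := fun j => insert j (g j).toFinset)
      omega
    omega

variable (hd : Distinct g)
include hd

theorem isCycle_star {k : Fin n} (hk : g k ≠ []) :
    (star k (g k)).IsCycle ∧ (star k (g k)).support = insert k (g k).toFinset := by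
  have hn := hd.1 k
  rw [List.nodup_cons] at hn
  have hn' : (k :: (g k).reverse).Nodup := by simpa using hn
  have h2 : 2 ≤ (k :: (g k).reverse).length := by
    have := List.length_pos_iff.2 hk
    simp; omega
  rw [star_eq_formPerm k _ hn.2 hn.1]
  refine ⟨List.isCycle_formPerm hn' h2, ?_⟩
  rw [List.support_formPerm_of_nodup _ hn' fun x e => ?_]
  · simp
  · rw [e] at h2; simp at h2

theorem pairwise_stars : ((centres g).map fun k => star k (g k)).Pairwise Equiv.Perm.Disjoint := by
  rw [List.pairwise_map]
  refine (nodup_centres g).pairwise_of_forall_ne ?_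
  intro k hk k' hk' hne
  rw [mem_centres] at hk hk'
  rw [Equiv.Perm.disjoint_iff_disjoint_support, (isCycle_star hd hk).2, (isCycle_star hd hk').2]
  exact hd.2 k k' hk hk' hne

theorem cycleType_wordProd :
    (wordProd g).cycleType = (shapeOf fun k => (g k).length).map (· + 1) := by
  rw [Equiv.Perm.cycleType_eq ((centres g).map fun k => star k (g k)) (wordProd_eq g).symm
    (fun σ hσ => ?_) (pairwise_stars hd)]
  · have hr : (shapeOf fun k => (g k).length).map (· + 1) =
        ((centres g : List (Fin n)) : Multiset (Fin n)).map fun k => (g k).length + 1 := by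
      rw [shapeOf, Multiset.filter_map, Multiset.map_map, centres, ← Multiset.filter_coe,
        show ((List.finRange n : List (Fin n)) : Multiset (Fin n)) = Finset.univ.val from rfl]
      refine congrArg _ (Multiset.filter_congr fun k _ => ?_)
      simp
    rw [hr, Multiset.map_coe, List.map_map]
    congr 1
    refine List.map_congr_left fun k hk => ?_
    rw [mem_centres] at hk
    show (star k (g k)).support.card = _
    have hn := List.nodup_cons.1 (hd.1 k)
    rw [(isCycle_star hd hk).2, Finset.card_insert_of_notMem (by simpa using hn.1),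
      List.toFinset_card_of_nodup hn.2]
  · obtain ⟨k, hk, rfl⟩ := List.mem_map.1 hσ
    exact (isCycle_star hd ((mem_centres g).1 hk)).1

theorem wordProd_apply {k x : Fin n} (hk : g k ≠ []) (hx : x ∈ insert k (g k).toFinset) :
    wordProd g x = (k :: (g k).reverse).formPerm x := by
  have hn := List.nodup_cons.1 (hd.1 k)
  rw [← star_eq_formPerm k _ hn.2 hn.1, wordProd_eq]
  refine (Equiv.Perm.eq_on_support_mem_disjoint (List.mem_map.2 ⟨k, (mem_centres g).2 hk, rfl⟩)
    (pairwise_stars hd) x ?_).symm
  rwa [(isCycle_star hd hk).2]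

theorem cycleOf_wordProd {k : Fin n} (hk : g k ≠ []) :
    (wordProd g).cycleOf k = (k :: (g k).reverse).formPerm := by
  have hn := List.nodup_cons.1 (hd.1 k)
  rw [← star_eq_formPerm k _ hn.2 hn.1]
  have hmem : star k (g k) ∈ (wordProd g).cycleFactorsFinset := by
    rw [Equiv.Perm.mem_cycleFactorsFinset_iff]
    refine ⟨(isCycle_star hd hk).1, fun a ha => ?_⟩
    rw [(isCycle_star hd hk).2] at ha
    rw [wordProd_apply hd hk ha, star_eq_formPerm k _ hn.2 hn.1]
  exact (Equiv.Perm.cycle_is_cycleOf ((isCycle_star hd hk).2 ▸ Finset.mem_insert_self k _) hmem).symm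

end Combinatorics

theorem eq_zero_or_distinct {μ : Multiset ℕ} {g : Fin n → List (Fin n)} (hg : g ∈ words n μ)
    (h : (μ.map (· + 1)).sum ≤ (wordProd g).support.card) : Distinct g := by
  refine distinct_of_card ?_
  rw [(mem_words.1 hg).1]
  exact h.trans (Finset.card_le_card (support_wordProd g))

theorem card_support_wordProd_le {μ : Multiset ℕ} {g : Fin n → List (Fin n)} (hg : g ∈ words n μ) :
    (wordProd g).support.card ≤ (μ.map (· + 1)).sum := by
  rw [← (mem_words.1 hg).1]
  exact (Finset.card_le_card (support_wordProd g)).trans (card_pts_le g)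

/-- A distinct word is determined by its product. -/
theorem word_unique {g g' : Fin n → List (Fin n)} (hg : ∀ k, ∀ i ∈ g k, i < k) (hg' : ∀ k, ∀ i ∈ g' k, i < k)
    (hd : Distinct g) (hd' : Distinct g') (he : wordProd g = wordProd g') : g = g' := by
  have key : ∀ {g g' : Fin n → List (Fin n)}, (∀ k, ∀ i ∈ g k, i < k) → (∀ k, ∀ i ∈ g' k, i < k) →
      Distinct g → Distinct g' → wordProd g = wordProd g' → ∀ k, g k ≠ [] → g k = g' k := by
    intro g g' hg hg' hd hd' he k hk
    have hs : k ∈ (wordProd g').support := by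
      rw [← he, Equiv.Perm.mem_support, wordProd_apply hd hk (Finset.mem_insert_self _ _)]
      have := (isCycle_star hd hk).2 ▸ Finset.mem_insert_self k (g k).toFinset
      have hn := List.nodup_cons.1 (hd.1 k)
      rw [Equiv.Perm.mem_support, star_eq_formPerm k _ hn.2 hn.1] at this
      exact this
    obtain ⟨k', hk', hkk'⟩ : ∃ k', g' k' ≠ [] ∧ k ∈ insert k' (g' k').toFinset := by
      obtain ⟨k', h1, h2⟩ := Finset.mem_biUnion.1 (support_wordProd g' hs)
      exact ⟨k', (mem_centres g').1 (List.mem_toFinset.1 h1), h2⟩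
    have e1 : ∀ {g : Fin n → List (Fin n)} (hd : Distinct g) {k x : Fin n}, g k ≠ [] →
        x ∈ insert k (g k).toFinset →
        ((wordProd g).cycleOf x).support = insert k (g k).toFinset := by
      intro g hd k x hk hx
      have hn := List.nodup_cons.1 (hd.1 k)
      have h := cycleOf_wordProd hd hk
      rw [← star_eq_formPerm k _ hn.2 hn.1] at h
      rw [← (isCycle_star hd hk).2, ← h] at hx ⊢
      rw [← (Equiv.Perm.mem_support_cycleOf_iff.1 hx).1.cycleOf_eq]
    have hset : insert k (g k).toFinset = insert k' (g' k').toFinset := by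
      rw [← e1 hd hk (Finset.mem_insert_self _ _), he, e1 hd' hk' hkk']
    have hk'e : k = k' := by
      refine le_antisymm ?_ ?_
      · rcases Finset.mem_insert.1 hkk' with h | h
        · exact h.le
        · exact (hg' k' k (List.mem_toFinset.1 h)).le
      · rcases Finset.mem_insert.1 (hset ▸ Finset.mem_insert_self k' _) with h | h
        · exact h.le
        · exact (hg k k' (List.mem_toFinset.1 h)).le
    subst hk'e
    have h1 := cycleOf_wordProd hd hk
    rw [he, cycleOf_wordProd hd' hk'] at h1
    have hn := List.nodup_cons.1 (hd.1 k)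
    have hn' := List.nodup_cons.1 (hd'.1 k)
    have hl : (g k).length = (g' k).length := by
      have := congrArg Finset.card hset
      rwa [Finset.card_insert_of_notMem (by simpa using hn.1),
        Finset.card_insert_of_notMem (by simpa using hn'.1), List.toFinset_card_of_nodup hn.2,
        List.toFinset_card_of_nodup hn'.2, Nat.add_right_cancel_iff] at this
    refine List.reverse_injective (List.cons.inj (?_ : k :: _ = k :: _)).2
    refine List.ext_getElem (by simp [hl]) fun i hi hi' => ?_
    have a := List.formPerm_pow_apply_head k (g k).reverse (by simpa using hn) i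
    have b := List.formPerm_pow_apply_head k (g' k).reverse (by simpa using hn') i
    rw [h1] at b
    simp only [Nat.mod_eq_of_lt hi] at a
    simp only [Nat.mod_eq_of_lt hi'] at b
    rw [← a, ← b]
  funext k
  by_cases hk : g k = []
  · by_cases hk' : g' k = []
    · rw [hk, hk']
    · exact (key hg' hg hd' hd he.symm k hk').symm
  · exact key hg hg' hd hd' he k hk

/-- The word of a permutation: each cycle read from its largest point. -/
noncomputable def wordOf (σ : Equiv.Perm (Fin n)) : Fin n → List (Fin n) := fun k =>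
  open Classical in
  if ∀ j, σ.SameCycle k j → j ≤ k then (σ.toList k).tail.reverse else []

theorem wordOf_spec (σ : Equiv.Perm (Fin n)) :
    (∀ k, ∀ i ∈ wordOf σ k, i < k) ∧ Distinct (wordOf σ) ∧ wordProd (wordOf σ) = σ := by
  classical
  have hlist : ∀ k, k ∈ σ.support → σ.toList k = k :: (σ.toList k).tail := by
    intro k hk
    have hne : σ.toList k ≠ [] := fun h => (Equiv.Perm.toList_eq_nil_iff.1 h) hk
    conv_lhs => rw [← List.cons_head_tail hne]
    congr 1
    rw [List.head_eq_getElem, Equiv.Perm.getElem_toList]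
    simp
  have hne : ∀ k, wordOf σ k ≠ [] → (∀ j, σ.SameCycle k j → j ≤ k) ∧ k ∈ σ.support ∧
      k :: (wordOf σ k).reverse = σ.toList k := by
    intro k h
    unfold wordOf at h ⊢
    split_ifs at h ⊢ with hk
    · have hs : k ∈ σ.support := by
        by_contra hs
        rw [Equiv.Perm.toList_eq_nil_iff.2 hs] at h
        simp at h
      exact ⟨hk, hs, by rw [List.reverse_reverse, ← hlist k hs]⟩
    · exact absurd rfl h
  have hmem : ∀ k x, wordOf σ k ≠ [] → (x ∈ insert k (wordOf σ k).toFinset ↔ σ.SameCycle k x) := by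
    intro k x h
    obtain ⟨-, hs, e⟩ := hne k h
    have : x ∈ insert k (wordOf σ k).toFinset ↔ x ∈ k :: (wordOf σ k).reverse := by simp
    rw [this, e, Equiv.Perm.mem_toList_iff]
    exact ⟨fun h => h.1, fun h => ⟨h, hs⟩⟩
  have hd : Distinct (wordOf σ) := by
    refine ⟨fun k => ?_, fun k k' hk hk' hne' => ?_⟩
    · by_cases h : wordOf σ k = []
      · simp [h]
      · have := Equiv.Perm.nodup_toList σ k
        rw [← (hne k h).2.2] at this
        simpa using this
    · rw [Finset.disjoint_left]
      intro x hx hx'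
      rw [hmem k x hk] at hx
      rw [hmem k' x hk'] at hx'
      exact hne' (le_antisymm ((hne k' hk').1 k (hx'.trans hx.symm)) ((hne k hk).1 k' (hx.trans hx'.symm)))
  refine ⟨fun k i hi => ?_, hd, Equiv.ext fun x => ?_⟩
  · have hk : wordOf σ k ≠ [] := fun h => by simp [h] at hi
    refine lt_of_le_of_ne ((hne k hk).1 i ((hmem k i hk).1 (by simp [hi]))) ?_
    rintro rfl
    exact (List.nodup_cons.1 (hd.1 i)).1 hi
  · by_cases hx : x ∈ σ.support
    · obtain ⟨k, hkx, hmax⟩ : ∃ k, σ.SameCycle x k ∧ ∀ j, σ.SameCycle k j → j ≤ k := by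
        obtain ⟨k, hk, hmax⟩ := (Finset.univ.filter fun j => σ.SameCycle x j).exists_max_image id
          ⟨x, Finset.mem_filter.2 ⟨Finset.mem_univ _, Equiv.Perm.SameCycle.refl σ x⟩⟩
        simp only [Finset.mem_filter, Finset.mem_univ, true_and, id] at hk hmax
        exact ⟨k, hk, fun j hj => hmax j (hk.trans hj)⟩
      have hks : k ∈ σ.support := hkx.mem_support_iff.1 hx
      have hk : wordOf σ k ≠ [] := by
        unfold wordOf
        rw [if_pos hmax]
        intro h
        have h2 := (Equiv.Perm.two_le_length_toList_iff_mem_support).2 hks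
        rw [List.reverse_eq_nil_iff] at h
        rw [hlist k hks, h] at h2
        simp at h2
      rw [wordProd_apply hd hk ((hmem k x hk).2 hkx.symm), (hne k hk).2.2,
        Equiv.Perm.formPerm_toList, hkx.symm.cycleOf_apply]
    · rw [Equiv.Perm.notMem_support.1 hx]
      refine Equiv.Perm.notMem_support.1 fun h => ?_
      obtain ⟨k, hk, hxk⟩ := Finset.mem_biUnion.1 (support_wordProd _ h)
      rw [List.mem_toFinset, mem_centres] at hk
      exact hx (((hmem k x hk).1 hxk).mem_support_iff.1 (hne k hk).2.1)

/-- The coefficient function of the monomial symmetric function. -/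
noncomputable def wordCount (μ : Multiset ℕ) (σ : Equiv.Perm (Fin n)) : ℕ :=
  ((words n μ).filter fun g => wordProd g = σ).card

theorem wordCount_big {μ : Multiset ℕ} (hμ : ∀ a ∈ μ, a ≠ 0) {σ : Equiv.Perm (Fin n)}
    (h : (μ.map (· + 1)).sum ≤ σ.support.card) :
    wordCount μ σ = if σ.cycleType = μ.map (· + 1) then 1 else 0 := by
  classical
  unfold wordCount
  split_ifs with hc
  · obtain ⟨hlt, hd, hp⟩ := wordOf_spec σ
    have hw : wordOf σ ∈ words n μ := by
      refine mem_words.2 ⟨Multiset.map_injective (add_left_injective 1) ?_, hlt⟩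
      rw [← cycleType_wordProd hd, hp, hc]
    rw [Finset.card_eq_one]
    refine ⟨wordOf σ, Finset.eq_singleton_iff_unique_mem.2 ⟨Finset.mem_filter.2 ⟨hw, hp⟩, fun g hg => ?_⟩⟩
    obtain ⟨hg, hgp⟩ := Finset.mem_filter.1 hg
    exact word_unique (mem_words.1 hg).2 hlt (eq_zero_or_distinct hg (hgp.symm ▸ h)) hd (hgp.trans hp.symm)
  · rw [Finset.card_eq_zero, Finset.filter_eq_empty_iff]
    intro g hg hgp
    have hd := eq_zero_or_distinct hg (hgp.symm ▸ h)
    rw [← hgp, cycleType_wordProd hd, (mem_words.1 hg).1] at hc
    exact hc rfl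

theorem support_le_of_wordCount {μ : Multiset ℕ} {σ : Equiv.Perm (Fin n)} (h : wordCount μ σ ≠ 0) :
    σ.support.card ≤ (μ.map (· + 1)).sum := by
  obtain ⟨g, hg⟩ := Finset.card_pos.1 (Nat.pos_of_ne_zero h)
  rw [Finset.mem_filter] at hg
  obtain ⟨hg, rfl⟩ := hg
  exact card_support_wordProd_le hg

section Algebra

theorem ofFn_sum_prod {R ι : Type*} [Semiring R] [DecidableEq ι] : ∀ {m : ℕ} (s : Fin m → Finset ι)
    (f : Fin m → ι → R), (List.ofFn fun k => ∑ x ∈ s k, f k x).prod =
      ∑ g ∈ Fintype.piFinset s, (List.ofFn fun k => f k (g k)).prod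
  | 0, s, f => by simp
  | m + 1, s, f => by
    rw [List.ofFn_succ, List.prod_cons, ofFn_sum_prod (fun k => s k.succ) (fun k => f k.succ),
      Finset.sum_mul_sum, ← Finset.sum_product']
    refine Finset.sum_bij' (fun x _ => Fin.cons x.1 x.2) (fun g _ => (g 0, fun k => g k.succ)) ?_ ?_ ?_ ?_ ?_
    · intro x hx
      rw [Finset.mem_product, Fintype.mem_piFinset] at hx
      rw [Fintype.mem_piFinset]
      intro k
      induction k using Fin.cases <;> simp [hx.1, hx.2]
    · intro g hg
      rw [Fintype.mem_piFinset] at hg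
      simp [Fintype.mem_piFinset, hg]
    · intro x _; simp
    · intro g _; exact Fin.cons_self_tail g
    · intro x _; simp [List.ofFn_succ]

theorem jmElt_pow (k : Fin n) : ∀ a : ℕ,
    jmElt n k ^ a = ∑ l ∈ lists k a, MonoidAlgebra.of ℂ _ (star k l)
  | 0 => by simp [lists, star, MonoidAlgebra.one_def]
  | a + 1 => by
    rw [pow_succ', jmElt_pow k a, jmElt, Finset.sum_mul_sum, ← Finset.sum_product', lists,
      Finset.sum_image]
    · exact Finset.sum_congr rfl fun x _ => (map_mul _ _ _).symm
    · intro x _ y _ h
      simp only [List.cons.injEq] at h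
      exact Prod.ext h.1 h.2

/-- The monomial symmetric function of the Jucys–Murphy elements. -/
noncomputable def monElt (n : ℕ) (μ : Multiset ℕ) : MonoidAlgebra ℂ (Equiv.Perm (Fin n)) :=
  ∑ ν ∈ exps n μ, (List.ofFn fun k => jmElt n k ^ ν k).prod

theorem monElt_eq_sum (μ : Multiset ℕ) :
    monElt n μ = ∑ g ∈ words n μ, MonoidAlgebra.of ℂ _ (wordProd g) := by
  classical
  rw [monElt, words, Finset.sum_biUnion]
  · refine Finset.sum_congr rfl fun ν _ => ?_
    simp only [jmElt_pow, ofFn_sum_prod]
    refine Finset.sum_congr rfl fun g _ => ?_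
    rw [wordProd, map_list_prod, List.map_ofFn]
    rfl
  · intro ν _ ν' _ hne
    rw [Function.onFun, Finset.disjoint_left]
    intro g hg hg'
    rw [Fintype.mem_piFinset] at hg hg'
    exact hne (funext fun k => ((mem_lists.1 (hg k)).1.symm.trans (mem_lists.1 (hg' k)).1))

theorem coeff_monElt (μ : Multiset ℕ) (σ : Equiv.Perm (Fin n)) :
    (monElt n μ).coeff σ = (wordCount μ σ : ℂ) := by
  classical
  rw [monElt_eq_sum, wordCount, Finset.card_filter, Nat.cast_sum]
  simp [MonoidAlgebra.of_apply, Finsupp.single_apply]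

variable {m : ℕ} {S : Finset ℕ}

/-- The content as an integer. -/
def contentInt (m a : ℕ) : ℤ := (a : ℤ) + 1 - m

theorem contentInt_cast (m a : ℕ) : (contentInt m a : ℂ) = content m a := by
  simp [contentInt, content]

/-- The monomial symmetric function of a tuple. -/
def monVal {R : Type*} [CommRing R] (μ : Multiset ℕ) (a : Fin n → R) : R :=
  ∑ ν ∈ exps n μ, ∏ k, a k ^ ν k

theorem monVal_map {R R' : Type*} [CommRing R] [CommRing R'] (φ : R →+* R') (μ : Multiset ℕ) (a : Fin n → R) :
    φ (monVal μ a) = monVal μ (φ ∘ a) := by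
  simp [monVal]

theorem shapeOf_comp (ν : Fin n → ℕ) (π : Equiv.Perm (Fin n)) : shapeOf (ν ∘ π) = shapeOf ν := by
  rw [shapeOf, shapeOf, ← Multiset.map_map, show Finset.univ.val.map π = Finset.univ.val from
    congrArg Finset.val (Finset.map_univ_equiv π)]

theorem monVal_eq_of_perm {R : Type*} [CommRing R] (μ : Multiset ℕ) {a b : Fin n → R}
    (h : (Finset.univ.val.map a) = Finset.univ.val.map b) : monVal μ a = monVal μ b := by
  classical
  have hc : ∀ x, Fintype.card {k // a k = x} = Fintype.card {k // b k = x} := fun x => by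
    have := congrArg (Multiset.count x) h
    simp only [Multiset.count_map] at this
    simp only [Fintype.card_subtype, Finset.card, Finset.filter_val]
    simpa [eq_comm] using this
  let π : Fin n ≃ Fin n := Equiv.ofFiberEquiv fun x => Fintype.equivOfCardEq (hc x)
  have hπ : ∀ k, b (π k) = a k := fun k => Equiv.ofFiberEquiv_map _ k
  unfold monVal
  refine Finset.sum_bij' (fun ν _ => ν ∘ π.symm) (fun ν _ => ν ∘ π) (fun ν hν => ?_) (fun ν hν => ?_)
    (fun ν _ => by ext; simp) (fun ν _ => by ext; simp) (fun ν _ => ?_)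
  · rw [mem_exps] at hν ⊢; rw [shapeOf_comp]; exact hν
  · rw [mem_exps] at hν ⊢; rw [shapeOf_comp]; exact hν
  · exact Fintype.prod_equiv π _ _ fun k => by simp [hπ]

theorem semiAlg_monElt (μ : Multiset ℕ) (t : Tab m n S) :
    semiAlg m n S (monElt n μ) (single t 1) =
      monVal μ (fun k => content m (entry t k)) • single t 1 := by
  rw [monElt, map_sum, LinearMap.sum_apply, monVal, Finset.sum_smul]
  refine Finset.sum_congr rfl fun ν _ => ?_
  have hpow : ∀ (k : Fin n) (a : ℕ), semiAlg m n S (jmElt n k ^ a) (single t 1) =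
      content m (entry t k) ^ a • single t 1 := fun k a => by
    induction a with
    | zero => simp
    | succ a ih =>
      rw [pow_succ', map_mul, Module.End.mul_apply, ih, map_smul, semiAlg_jmElt, jm_single', smul_smul,
        ← pow_succ]
  rw [← List.prod_ofFn, List.ofFn_eq_map, List.ofFn_eq_map]
  generalize List.finRange n = L
  induction L with
  | nil => simp
  | cons k L ih =>
    rw [List.map_cons, List.prod_cons, map_mul, Module.End.mul_apply, ih, map_smul, hpow, smul_smul,
      List.map_cons, List.prod_cons, mul_comm]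

theorem content_multiset (t : Tab m n S) :
    (Finset.univ.val.map fun k => (entry t k : ℕ)) = (t.1 : Multiset ℕ) := by
  show ((List.finRange n : List (Fin n)) : Multiset (Fin n)).map _ = _
  rw [Multiset.map_coe]
  congr 1
  refine List.ext_getElem (by simp [t.2.1]) fun i _ _ => ?_
  simp [entry]

/-- The scalar of the monomial symmetric function in a seminormal representation. -/
noncomputable def monScalar (S : {S : Finset ℕ // IsShape m n S}) (μ : Multiset ℕ) : ℤ :=
  monVal μ fun k => contentInt m (entry (someTab S) k)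

theorem semiAlg_monElt_scalar (S : {S : Finset ℕ // IsShape m n S}) (μ : Multiset ℕ) :
    semiAlg m n S.1 (monElt n μ) = (monScalar S μ : ℂ) • LinearMap.id := by
  refine Finsupp.lhom_ext fun t c => ?_
  rw [← smul_single_one t c, map_smul, map_smul, semiAlg_monElt, LinearMap.smul_apply, LinearMap.id_apply]
  congr 2
  rw [monScalar, show ((monVal μ fun k => contentInt m (entry (someTab S) k) : ℤ) : ℂ) = _ from
    monVal_map (Int.castRingHom ℂ) μ _]
  refine monVal_eq_of_perm μ ?_
  have h1 : (fun k => content m (entry t k)) = content m ∘ fun k => entry t k := rfl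
  have h2 : (Int.castRingHom ℂ) ∘ (fun k => contentInt m (entry (someTab S) k)) =
      content m ∘ fun k => entry (someTab S) k := funext fun k => contentInt_cast m _
  rw [h1, h2, ← Multiset.map_map, ← Multiset.map_map, content_multiset, content_multiset,
    Multiset.coe_eq_coe.2 (entries_perm t (someTab S))]

theorem trace_monElt_mul (S : {S : Finset ℕ // IsShape m n S}) (μ : Multiset ℕ) (τ : Equiv.Perm (Fin n)) :
    ∑ g : Equiv.Perm (Fin n), (wordCount μ g : ℂ) * (semiChar S : Equiv.Perm (Fin n) → ℂ) (g * τ) =
      (monScalar S μ : ℂ) * (semiChar S : Equiv.Perm (Fin n) → ℂ) τ := by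
  classical
  have h1 : LinearMap.trace ℂ _ (semiAlg m n S.1 (monElt n μ * MonoidAlgebra.of ℂ _ τ)) =
      (monScalar S μ : ℂ) * (semiChar S : Equiv.Perm (Fin n) → ℂ) τ := by
    rw [map_mul, semiAlg_monElt_scalar, Module.End.mul_eq_comp, LinearMap.smul_comp, LinearMap.id_comp,
      map_smul, smul_eq_mul]
    congr 1
    simp [semiAlg, semiChar, Representation.character]
  rw [← h1, monElt_eq_sum, Finset.sum_mul, map_sum, map_sum]
  simp only [← map_mul]
  simp only [semiAlg, MonoidAlgebra.of_apply, MonoidAlgebra.lift_single, one_smul, wordCount,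
    Finset.card_filter, Nat.cast_sum, Nat.cast_ite, Nat.cast_one, Nat.cast_zero, Finset.sum_mul, ite_mul,
    one_mul, zero_mul]
  rw [Finset.sum_comm]
  refine Finset.sum_congr rfl fun g _ => ?_
  rw [Finset.sum_ite_eq, if_pos (Finset.mem_univ _)]
  rfl

theorem isClassFunction_wordCount (μ : Multiset ℕ) :
    IsClassFunction (Equiv.Perm (Fin n)) fun σ => (wordCount μ σ : ℂ) := by
  classical
  haveI : Finite {S : Finset ℕ // IsShape n n S} := Finite.of_injective _ semiChar_injective
  haveI := Fintype.ofFinite {S : Finset ℕ // IsShape n n S}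
  have key : ∀ σ : Equiv.Perm (Fin n), (Nat.card (Equiv.Perm (Fin n)) : ℂ) * (wordCount μ σ : ℂ) =
      ∑ S : {S : Finset ℕ // IsShape n n S}, (monScalar S μ : ℂ) *
        ((semiChar S : Equiv.Perm (Fin n) → ℂ) 1 * (semiChar S : Equiv.Perm (Fin n) → ℂ) σ⁻¹) := by
    intro σ
    have e : ∀ S : {S : Finset ℕ // IsShape n n S},
        (monScalar S μ : ℂ) * ((semiChar S : Equiv.Perm (Fin n) → ℂ) 1 * (semiChar S : Equiv.Perm (Fin n) → ℂ) σ⁻¹) =
        ∑ g : Equiv.Perm (Fin n), (wordCount μ g : ℂ) *
          ((semiChar S : Equiv.Perm (Fin n) → ℂ) 1 * (semiChar S : Equiv.Perm (Fin n) → ℂ) (g * σ⁻¹)) := fun S => by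
      rw [mul_left_comm, ← trace_monElt_mul, Finset.mul_sum]
      exact Finset.sum_congr rfl fun g _ => by ring
    rw [Finset.sum_congr rfl fun S _ => e S, Finset.sum_comm]
    simp only [← Finset.mul_sum]
    have hb : Function.Bijective (semiChar (m := n) (n := n)) :=
      ⟨semiChar_injective, semiChar_surjective le_rfl⟩
    have hreg : ∀ y : Equiv.Perm (Fin n), ∑ S : {S : Finset ℕ // IsShape n n S},
        (semiChar S : Equiv.Perm (Fin n) → ℂ) 1 * (semiChar S : Equiv.Perm (Fin n) → ℂ) y =
        if y = 1 then (Nat.card (Equiv.Perm (Fin n)) : ℂ) else 0 := fun y => by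
      rw [hb.sum_comp (fun χ : IrrCharacter (Equiv.Perm (Fin n)) =>
        (χ : Equiv.Perm (Fin n) → ℂ) 1 * (χ : Equiv.Perm (Fin n) → ℂ) y)]
      exact (CfsgLib.Char.sum_degree_mul_irr y).trans (by congr 1)
    simp only [hreg, mul_inv_eq_one, mul_ite, mul_zero, Finset.sum_ite_eq', Finset.mem_univ, if_true]
    ring
  intro x h
  refine mul_left_cancel₀ (Nat.cast_ne_zero.2 Nat.card_pos.ne' : (Nat.card (Equiv.Perm (Fin n)) : ℂ) ≠ 0) ?_
  rw [key, key]
  refine Finset.sum_congr rfl fun S _ => ?_
  congr 2
  rw [mul_inv_rev, mul_inv_rev, inv_inv, ← mul_assoc]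
  exact irr_classFunction (semiChar S) _ _

theorem omega_wordCount (S : {S : Finset ℕ // IsShape m n S}) (μ : Multiset ℕ) :
    omega (semiChar S : Equiv.Perm (Fin n) → ℂ) (fun σ => (wordCount μ σ : ℂ)) = (monScalar S μ : ℂ) := by
  classical
  have h := trace_monElt_mul S μ 1
  simp only [mul_one] at h
  rw [omega, h, mul_div_assoc, div_self (CfsgLib.Char.irr_degree_ne_zero (semiChar S).2), mul_one]

end Algebra

/-- Equal content residues give the same block. -/
theorem sameBlock_of_residues {p : ℕ} [Fact p.Prime] {M : Ideal AlgInt} (hM : IsPModular p M) {m : ℕ}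
    (S S' : {S : Finset ℕ // IsShape m n S})
    (h : (((someTab S).1.map fun a : ℕ => (a : ZMod p)) : Multiset (ZMod p)) =
      (((someTab S').1.map fun a : ℕ => (a : ZMod p)) : Multiset (ZMod p))) :
    SameBlock M (semiChar S : Equiv.Perm (Fin n) → ℂ) (semiChar S' : Equiv.Perm (Fin n) → ℂ) := by
  classical
  haveI := isPrime_of_isPModular hM
  haveI : Fintype (ConjClasses (Equiv.Perm (Fin n))) := Fintype.ofFinite _
  have hmon : ∀ μ, (p : ℤ) ∣ monScalar S μ - monScalar S' μ := fun μ => by
    rw [← ZMod.intCast_zmod_eq_zero_iff_dvd, Int.cast_sub, sub_eq_zero]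
    show Int.castRingHom (ZMod p) _ = Int.castRingHom (ZMod p) _
    rw [monScalar, monScalar, monVal_map, monVal_map]
    refine monVal_eq_of_perm μ ?_
    have e : ∀ T : {S : Finset ℕ // IsShape m n S},
        (Int.castRingHom (ZMod p)) ∘ (fun k => contentInt m (entry (someTab T) k)) =
        (fun x : ZMod p => x + 1 - (m : ZMod p)) ∘ ((fun a : ℕ => (a : ZMod p)) ∘ fun k => entry (someTab T) k) :=
      fun T => funext fun k => by simp [contentInt]
    rw [e S, e S', ← Multiset.map_map, ← Multiset.map_map _ _ Finset.univ.val, ← Multiset.map_map,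
      content_multiset, ← Multiset.map_map (fun a : ℕ => (a : ZMod p)), content_multiset]
    simp only [Multiset.map_coe] at h ⊢
    exact (Multiset.coe_eq_coe.2 ((Multiset.coe_eq_coe.1 h).map _))
  suffices hind : ∀ b : ℕ, ∀ σ : Equiv.Perm (Fin n), σ.support.card < b →
      MemLocalIdeal M (centralChar (semiChar S : Equiv.Perm (Fin n) → ℂ) σ -
        centralChar (semiChar S' : Equiv.Perm (Fin n) → ℂ) σ) from fun σ => hind _ σ (Nat.lt_succ_self _)
  intro b
  induction b with
  | zero => exact fun σ h => absurd h (by omega)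
  | succ b ih =>
    intro σ hσ
    set μ := σ.cycleType.map (· - 1) with hμ
    have h2 : ∀ a ∈ σ.cycleType, 2 ≤ a := fun a ha => Equiv.Perm.two_le_of_mem_cycleType ha
    have hμ1 : μ.map (· + 1) = σ.cycleType := by
      rw [hμ, Multiset.map_map]
      conv_rhs => rw [← Multiset.map_id σ.cycleType]
      exact Multiset.map_congr rfl fun a ha => Nat.sub_add_cancel (by have := h2 a ha; omega)
    have hμ0 : ∀ a ∈ μ, a ≠ 0 := fun a ha => by
      obtain ⟨c, hc, rfl⟩ := Multiset.mem_map.1 ha
      have := h2 c hc
      omega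
    have hsum : (μ.map (· + 1)).sum = σ.support.card := by rw [hμ1, Equiv.Perm.sum_cycleType]
    set R : Equiv.Perm (Fin n) → ℂ := (fun τ => (wordCount μ τ : ℂ)) - classInd σ with hR
    have hRc : IsClassFunction (Equiv.Perm (Fin n)) R := fun x g => by
      show (wordCount μ _ : ℂ) - classInd σ _ = (wordCount μ _ : ℂ) - classInd σ _
      have h1 := isClassFunction_wordCount μ x g
      simp only at h1
      rw [h1, isClassFunction_classInd σ x g]
    have hRsmall : ∀ τ, R τ ≠ 0 → τ.support.card < σ.support.card := by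
      intro τ hτ
      by_contra hge
      push Not at hge
      apply hτ
      show (wordCount μ τ : ℂ) - classInd σ τ = 0
      rw [wordCount_big hμ0 (hsum ▸ hge), hμ1, classInd]
      by_cases hc : IsConj σ τ
      · rw [if_pos (Equiv.Perm.isConj_iff_cycleType_eq.1 hc).symm, if_pos hc]; simp
      · rw [if_neg fun e => hc (Equiv.Perm.isConj_iff_cycleType_eq.2 e.symm), if_neg hc]; simp
    have hRint : ∀ τ, MemLocalRing M (R τ) := fun τ => by
      refine memLocalRing_sub (memLocalRing_natCast _) ?_
      unfold classInd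
      split_ifs
      exacts [memLocalRing_one, memLocalRing_zero]
    have hw : ∀ T : {S : Finset ℕ // IsShape m n S}, centralChar (semiChar T : Equiv.Perm (Fin n) → ℂ) σ =
        (monScalar T μ : ℂ) - omega (semiChar T : Equiv.Perm (Fin n) → ℂ) R := fun T => by
      rw [← omega_classInd, ← omega_wordCount]
      have : (fun τ => (wordCount μ τ : ℂ)) = classInd σ + R := by rw [hR, add_sub_cancel]
      rw [this, omega_add]
      ring
    rw [hw, hw, sub_sub_sub_comm]
    refine memLocalIdeal_sub ((memLocalIdeal_intCast_iff hM).2 (hmon μ) |> fun h => by simpa using h) ?_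
    rw [omega_eq_sum_classes _ hRc, omega_eq_sum_classes _ hRc, ← Finset.sum_sub_distrib]
    refine memLocalIdeal_sum _ _ fun c _ => ?_
    rw [← mul_sub]
    by_cases hz : R (Quotient.out c) = 0
    · rw [hz, zero_mul]; exact memLocalIdeal_zero
    · exact memLocalIdeal_mul_left (hRint _) (ih _ (by have := hRsmall _ hz; omega))

end CfsgLib.SymBlock
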