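import Cfsg.Agent.Lib.SymBlock.Coxeter
import Cfsg.Agent.Lib.SymBlock.Beads

/-!
# Young's seminormal representations
-/

set_option autoImplicit false

namespace CfsgLib.SymBlock

open Finsupp

/-- The inverse axial distance. -/
noncomputable def axial (a b : ℕ) : ℂ := ((b : ℂ) - a)⁻¹

/-- The off-diagonal coefficient. -/
noncomputable def offDiag (a b : ℕ) : ℂ := if a + 1 = b ∨ b + 1 = a then 0 else 1 + axial a b

theorem offDiag_mul (a b : ℕ) : offDiag a b * offDiag b a = 1 - axial a b ^ 2 := by
  have hs : axial b a = -axial a b := by rw [axial, axial, ← neg_sub, inv_neg]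
  unfold offDiag
  by_cases h : a + 1 = b ∨ b + 1 = a
  · rw [if_pos h, zero_mul]
    rcases h with rfl | rfl <;> simp [axial]
  · rw [if_neg h, if_neg (fun h' => h h'.symm), hs]
    ring

theorem axial_swap (a b : ℕ) : axial b a = -axial a b := by
  rw [axial, axial, ← neg_sub, inv_neg]

theorem axial_rel {a b c : ℕ} (hab : a ≠ b) (hbc : b ≠ c) (hac : a ≠ c) :
    axial a b * axial b c = axial a c * (axial a b + axial b c) := by
  unfold axial
  have h1 : ((b : ℂ) - a) ≠ 0 := sub_ne_zero.mpr (by exact_mod_cast hab.symm)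
  have h2 : ((c : ℂ) - b) ≠ 0 := sub_ne_zero.mpr (by exact_mod_cast hbc.symm)
  have h3 : ((c : ℂ) - a) ≠ 0 := sub_ne_zero.mpr (by exact_mod_cast hac.symm)
  field_simp
  ring

/-- The seminormal operator on basis sequences. -/
noncomputable def op : ℕ → List ℕ → (List ℕ →₀ ℂ)
  | 0, a :: b :: l => axial a b • single (a :: b :: l) 1 + offDiag a b • single (b :: a :: l) 1
  | i + 1, a :: l => mapDomain (List.cons a) (op i l)
  | _, l => single l 1

/-- The operator on all sequences. -/
noncomputable def opLin (i : ℕ) : (List ℕ →₀ ℂ) →ₗ[ℂ] (List ℕ →₀ ℂ) :=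
  linearCombination ℂ (op i)

theorem opLin_single (i : ℕ) (l : List ℕ) (c : ℂ) : opLin i (single l c) = c • op i l := by
  simp [opLin, linearCombination_single]

theorem opLin_cons (i a : ℕ) (v : List ℕ →₀ ℂ) :
    opLin (i + 1) (mapDomain (List.cons a) v) = mapDomain (List.cons a) (opLin i v) := by
  induction v using Finsupp.induction_linear with
  | zero => simp
  | add f g hf hg => simp [mapDomain_add, hf, hg]
  | single l c => simp [mapDomain_single, opLin_single, op, mapDomain_smul]

theorem opLin_op_self : ∀ (i : ℕ) (l : List ℕ), opLin i (op i l) = single l 1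
  | i + 1, a :: l => by
    rw [op, opLin_cons, opLin_op_self i l, mapDomain_single]
  | 0, a :: b :: l => by
    simp only [op, map_add, map_smul, opLin_single, one_smul, axial_swap a b, smul_add, smul_smul]
    have h := offDiag_mul a b
    ext x
    simp only [Finsupp.add_apply, Finsupp.smul_apply, smul_eq_mul]
    linear_combination (single (a :: b :: l) 1 : List ℕ →₀ ℂ) x * h
  | 0, [] => by simp [op, opLin_single]
  | 0, [a] => by simp [op, opLin_single]
  | i + 1, [] => by simp [op, opLin_single]

theorem opLin_comm : ∀ (i j : ℕ) (l : List ℕ), i + 1 < j →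
    opLin i (op j l) = opLin j (op i l)
  | i + 1, j, a :: l, h => by
    obtain ⟨j, rfl⟩ : ∃ t, j = t + 1 := ⟨j - 1, by omega⟩
    rw [op, op, opLin_cons, opLin_cons, opLin_comm i j l (by omega)]
  | 0, j, a :: b :: l, h => by
    obtain ⟨j, rfl⟩ : ∃ t, j = t + 2 := ⟨j - 2, by omega⟩
    simp only [op, map_add, map_smul, opLin_single, one_smul]
    generalize op j l = v
    induction v using Finsupp.induction_linear with
    | zero => simp
    | add f g hf hg =>
      simp only [mapDomain_add, map_add, hf, hg, smul_add]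
      abel
    | single x c => simp [mapDomain_single, opLin_single, op, smul_smul, mul_comm]
  | 0, j, [], h => by obtain ⟨j, rfl⟩ : ∃ t, j = t + 2 := ⟨j - 2, by omega⟩; simp [op, opLin_single]
  | 0, j, [a], h => by
    obtain ⟨j, rfl⟩ : ∃ t, j = t + 2 := ⟨j - 2, by omega⟩
    simp [op, opLin_single, mapDomain_single]
  | i + 1, j, [], h => by
    obtain ⟨j, rfl⟩ : ∃ t, j = t + 1 := ⟨j - 1, by omega⟩
    simp [op, opLin_single]

theorem opLin_braid : ∀ (i : ℕ) (S : Finset ℕ) (l : List ℕ), i + 2 < l.length → Valid S l →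
    opLin i (opLin (i + 1) (op i l)) = opLin (i + 1) (opLin i (op (i + 1) l))
  | i + 1, S, a :: l, h, hv => by
    simp only [op, opLin_cons]
    rw [opLin_braid i (move S a) l (by simp at h; omega) hv.2]
  | 0, S, a :: b :: c :: l, _, hv => by
    have hv' : Valid S ([a, b, c] ++ l) := hv
    obtain ⟨hab, hbc, hac⟩ := triple_ne (valid_append.mp hv').1
    have hr := axial_rel hab hbc hac
    have h1 := offDiag_mul a b
    have h2 := offDiag_mul b c
    simp only [op, map_add, map_smul, opLin_single, one_smul, mapDomain_add, mapDomain_smul,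
      mapDomain_single, smul_add, smul_smul, axial_swap a b, axial_swap b c]
    generalize axial a b = x at *
    generalize axial b c = z at *
    generalize axial a c = y at *
    ext t
    simp only [Finsupp.add_apply, Finsupp.smul_apply, smul_eq_mul]
    linear_combination
      ((x - z) * (single (a :: b :: c :: l) 1 : List ℕ →₀ ℂ) t
        + offDiag a b * (single (b :: a :: c :: l) 1 : List ℕ →₀ ℂ) t
        - offDiag b c * (single (a :: c :: b :: l) 1 : List ℕ →₀ ℂ) t) * hr
      + y * (single (a :: b :: c :: l) 1 : List ℕ →₀ ℂ) t * h1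
      - y * (single (a :: b :: c :: l) 1 : List ℕ →₀ ℂ) t * h2

theorem op_append : ∀ (l₁ l : List ℕ) (a b : ℕ), op l₁.length (l₁ ++ a :: b :: l) =
    axial a b • single (l₁ ++ a :: b :: l) 1 + offDiag a b • single (l₁ ++ b :: a :: l) 1
  | [], l, a, b => rfl
  | x :: l₁, l, a, b => by
    simp only [List.length_cons, List.cons_append, op, op_append l₁ l a b, mapDomain_add,
      mapDomain_smul, mapDomain_single]

theorem op_of_length_le : ∀ (i : ℕ) (l : List ℕ), l.length ≤ i + 1 → op i l = single l 1
  | 0, [], _ | 0, [a], _ | i + 1, [], _ => rfl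
  | 0, a :: b :: l, h => by simp at h
  | i + 1, a :: l, h => by rw [op, op_of_length_le i l (by simpa using h), mapDomain_single]

theorem exists_split {l : List ℕ} {i : ℕ} (h : i + 1 < l.length) :
    ∃ l₁ a b l₂, l = l₁ ++ a :: b :: l₂ ∧ l₁.length = i := by
  refine ⟨l.take i, l[i], l[i + 1], l.drop (i + 2), ?_, by simp; omega⟩
  rw [← List.drop_eq_getElem_cons, ← List.drop_eq_getElem_cons, List.take_append_drop]

theorem valid_swap {S : Finset ℕ} {l₁ l₂ : List ℕ} {a b : ℕ} (h : Valid S (l₁ ++ a :: b :: l₂))
    (h1 : a + 1 ≠ b) (h2 : b + 1 ≠ a) :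
    Valid S (l₁ ++ b :: a :: l₂) ∧ endOf S (l₁ ++ b :: a :: l₂) = endOf S (l₁ ++ a :: b :: l₂) := by
  obtain ⟨ha, hb⟩ := valid_append.mp h
  obtain ⟨hp, hl⟩ := valid_append.mp (show Valid (endOf S l₁) ([a, b] ++ l₂) from hb)
  obtain ⟨hp', he⟩ := valid_pair_swap hp h1 h2
  constructor
  · refine valid_append.mpr ⟨ha, ?_⟩
    show Valid (endOf S l₁) ([b, a] ++ l₂)
    exact valid_append.mpr ⟨hp', he ▸ hl⟩
  · rw [endOf_append, endOf_append, show b :: a :: l₂ = [b, a] ++ l₂ from rfl,
      show a :: b :: l₂ = [a, b] ++ l₂ from rfl, endOf_append, endOf_append, he]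

variable {m n : ℕ} {S : Finset ℕ}

/-- The inclusion of the tableaux into all sequences. -/
noncomputable def incl (m n : ℕ) (S : Finset ℕ) : (Tab m n S →₀ ℂ) →ₗ[ℂ] (List ℕ →₀ ℂ) :=
  Finsupp.lmapDomain ℂ ℂ Subtype.val

theorem incl_injective : Function.Injective (incl m n S) :=
  Finsupp.mapDomain_injective Subtype.val_injective

@[simp] theorem incl_single (t : Tab m n S) (c : ℂ) :
    incl m n S (single t c) = single t.1 c := mapDomain_single

theorem exists_incl_op (i : ℕ) (t : Tab m n S) : ∃ v, incl m n S v = op i t.1 := by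
  by_cases h : i + 1 < t.1.length
  · obtain ⟨l₁, a, b, l₂, he, hl⟩ := exists_split h
    obtain ⟨htl, htv, hte⟩ := t.2
    by_cases hadj : a + 1 = b ∨ b + 1 = a
    · refine ⟨axial a b • single t 1, ?_⟩
      rw [he, ← hl, op_append, map_smul, incl_single, ← he, offDiag, if_pos hadj]
      simp
    · push Not at hadj
      obtain ⟨hv', he'⟩ := valid_swap (he ▸ htv) hadj.1 hadj.2
      let t' : Tab m n S := ⟨l₁ ++ b :: a :: l₂, by rw [← htl, he]; simp, hv', by rw [he', ← he, hte]⟩
      refine ⟨axial a b • single t 1 + offDiag a b • single t' 1, ?_⟩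
      rw [he, ← hl, op_append, map_add, map_smul, map_smul, incl_single, incl_single, ← he]
  · exact ⟨single t 1, by rw [op_of_length_le i t.1 (by omega), incl_single]⟩

/-- The operator on the tableaux. -/
noncomputable def tabOp (m n : ℕ) (S : Finset ℕ) (i : ℕ) :
    (Tab m n S →₀ ℂ) →ₗ[ℂ] (Tab m n S →₀ ℂ) :=
  linearCombination ℂ fun t => (exists_incl_op i t).choose

theorem incl_tabOp (i : ℕ) (v : Tab m n S →₀ ℂ) :
    incl m n S (tabOp m n S i v) = opLin i (incl m n S v) := by
  induction v using Finsupp.induction_linear with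
  | zero => simp
  | add f g hf hg => simp [hf, hg]
  | single t c =>
    simp only [tabOp, linearCombination_single, map_smul, incl_single, opLin_single]
    rw [(exists_incl_op i t).choose_spec]

theorem incl_tabOp_single (i : ℕ) (t : Tab m n S) :
    incl m n S (tabOp m n S i (single t 1)) = op i t.1 := by
  simp [incl_tabOp, opLin_single]

theorem tabOp_sq (i : ℕ) (v : Tab m n S →₀ ℂ) : tabOp m n S i (tabOp m n S i v) = v := by
  apply incl_injective
  rw [incl_tabOp, incl_tabOp]
  induction v using Finsupp.induction_linear with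
  | zero => simp
  | add f g hf hg => simp [hf, hg]
  | single t c => simp [opLin_single, map_smul, opLin_op_self]

/-- The operator as a unit. -/
noncomputable def tabUnit (m n : ℕ) (S : Finset ℕ) (i : ℕ) :
    (Module.End ℂ (Tab m n S →₀ ℂ))ˣ :=
  ⟨tabOp m n S i, tabOp m n S i, LinearMap.ext (tabOp_sq i), LinearMap.ext (tabOp_sq i)⟩

theorem tabUnit_relations : Relations (n - 1) (tabUnit m n S) := by
  refine ⟨fun i _ => Units.ext (LinearMap.ext (tabOp_sq i)), fun i j hij _ => ?_, fun i hi => ?_⟩
  · refine Units.ext (Finsupp.lhom_ext fun t c => incl_injective ?_)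
    show incl m n S (tabOp m n S i (tabOp m n S j _)) = incl m n S (tabOp m n S j (tabOp m n S i _))
    simp [incl_tabOp, opLin_single, map_smul, opLin_comm i j t.1 hij]
  · refine Units.ext (Finsupp.lhom_ext fun t c => incl_injective ?_)
    show incl m n S (tabOp m n S i (tabOp m n S (i + 1) (tabOp m n S i _))) =
      incl m n S (tabOp m n S (i + 1) (tabOp m n S i (tabOp m n S (i + 1) _)))
    simp only [incl_tabOp, incl_single, opLin_single, map_smul]
    rw [opLin_braid i (ground m) t.1 (by rw [t.2.1]; omega) t.2.2.1]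

/-- The seminormal representation. -/
noncomputable def seminormal (m n : ℕ) (S : Finset ℕ) :
    Representation ℂ (Equiv.Perm (Fin n)) (Tab m n S →₀ ℂ) :=
  (Units.coeHom _).comp (exists_hom n (tabUnit m n S) tabUnit_relations).choose

theorem seminormal_adj {i : ℕ} (hi : i + 1 < n) :
    seminormal m n S (adj n i) = tabOp m n S i := by
  show (((exists_hom n (tabUnit m n S) tabUnit_relations).choose (adj n i) :
    (Module.End ℂ (Tab m n S →₀ ℂ))ˣ) : Module.End ℂ (Tab m n S →₀ ℂ)) = _
  rw [(exists_hom n (tabUnit m n S) tabUnit_relations).choose_spec i hi]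
  rfl

/-- The entry of a tableau. -/
def entry (t : Tab m n S) (k : Fin n) : ℕ := t.1[(k : ℕ)]'(by have := t.2.1; omega)

/-- The content attached to a moved position. -/
noncomputable def content (m a : ℕ) : ℂ := (a : ℂ) + 1 - m

/-- The Jucys–Murphy operator. -/
noncomputable def jm (m n : ℕ) (S : Finset ℕ) (k : Fin n) : Module.End ℂ (Tab m n S →₀ ℂ) :=
  ∑ i ∈ Finset.Iio k, seminormal m n S (Equiv.swap i k)

theorem jm_succ {k : ℕ} (hk : k + 1 < n) :
    jm m n S ⟨k + 1, hk⟩ =
      tabOp m n S k * jm m n S ⟨k, by omega⟩ * tabOp m n S k + tabOp m n S k := by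
  have hI : Finset.Iio (⟨k + 1, hk⟩ : Fin n) =
      insert ⟨k, by omega⟩ (Finset.Iio (⟨k, by omega⟩ : Fin n)) := by
    ext x
    simp only [Finset.mem_Iio, Finset.mem_insert, Fin.lt_def, Fin.ext_iff]
    omega
  rw [jm, jm, hI, Finset.sum_insert (by simp), Finset.mul_sum, Finset.sum_mul, add_comm]
  congr 1
  · refine Finset.sum_congr rfl fun i hi => ?_
    rw [Finset.mem_Iio, Fin.lt_def] at hi
    rw [← seminormal_adj hk, ← map_mul, ← map_mul]
    congr 1
    have hi' : (i : ℕ) < k := hi
    rw [adj, dif_pos hk, Equiv.swap_mul_swap_mul_swap (x := i) (y := ⟨k, by omega⟩) (z := ⟨k + 1, hk⟩)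
      (fun e => by simp [e] at hi') (fun e => by simp [e] at hi'), Equiv.swap_comm]
  · rw [← seminormal_adj hk, adj, dif_pos hk]

theorem jm_single : ∀ (k : ℕ) (hk : k < n) (t : Tab m n S),
    jm m n S ⟨k, hk⟩ (single t 1) = content m (entry t ⟨k, hk⟩) • single t 1
  | 0, hk, t => by
    have h0 : entry t ⟨0, hk⟩ + 1 = m := by
      obtain ⟨hl, hv, -⟩ := t.2
      obtain ⟨a, l, he⟩ : ∃ a l, t.1 = a :: l := by
        obtain ⟨- | ⟨a, l⟩, hh⟩ := t
        · simp at hl; omega
        · exact ⟨a, l, rfl⟩
      rw [he, valid_cons, Movable, ground, Finset.mem_range, Finset.mem_range] at hv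
      simp only [entry, he, List.getElem_cons_zero]
      omega
    have : Finset.Iio (⟨0, hk⟩ : Fin n) = ∅ := by
      ext x; simp [Fin.lt_def]
    have hc : content m (entry t ⟨0, hk⟩) = 0 := by
      rw [content, sub_eq_zero]
      exact_mod_cast h0
    rw [jm, this, Finset.sum_empty, hc]
    simp
  | k + 1, hk, t => by
    have ih := jm_single k (by omega)
    obtain ⟨l₁, a, b, l₂, he, hl⟩ := exists_split (l := t.1) (i := k) (by rw [t.2.1]; omega)
    have hea : entry t ⟨k, by omega⟩ = a := by simp [entry, he, hl]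
    have heb : entry t ⟨k + 1, hk⟩ = b := by simp [entry, he, hl]
    rw [jm_succ hk, LinearMap.add_apply, Module.End.mul_apply, Module.End.mul_apply, heb]
    have hab : a ≠ b := by
      have := (valid_append.mp (he ▸ t.2.2.1)).2
      exact pair_ne (valid_append.mp (show Valid _ ([a, b] ++ l₂) from this)).1
    have hx : axial a b * ((b : ℂ) - a) = 1 :=
      inv_mul_cancel₀ (sub_ne_zero.mpr (by exact_mod_cast hab.symm))
    by_cases hadj : a + 1 = b ∨ b + 1 = a
    · have hT : tabOp m n S k (single t 1) = axial a b • single t 1 := incl_injective (by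
        rw [incl_tabOp_single, he, ← hl, op_append, map_smul, incl_single, ← he, offDiag, if_pos hadj]
        simp)
      simp only [hT, map_smul, ih t, hea, smul_smul, ← add_smul]
      congr 1
      have h2 : axial a b ^ 2 = 1 := by
        have := offDiag_mul a b
        rw [offDiag, if_pos hadj, zero_mul] at this
        linear_combination this
      simp only [content]
      linear_combination ((a : ℂ) + 1 - m) * h2 + (-axial a b) * hx + ((b : ℂ) - a) * h2
    · push Not at hadj
      obtain ⟨hv', he'⟩ := valid_swap (he ▸ t.2.2.1) hadj.1 hadj.2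
      let t' : Tab m n S := ⟨l₁ ++ b :: a :: l₂, by
        rw [← t.2.1, he]; simp, hv', by rw [he', ← he, t.2.2.2]⟩
      have hT : tabOp m n S k (single t 1) =
          axial a b • single t 1 + offDiag a b • single t' 1 := incl_injective (by
        rw [incl_tabOp_single, he, ← hl, op_append, map_add, map_smul, map_smul, incl_single,
          incl_single, ← he])
      have hT' : tabOp m n S k (single t' 1) =
          axial b a • single t' 1 + offDiag b a • single t 1 := incl_injective (by
        rw [incl_tabOp_single, map_add, map_smul, map_smul, incl_single, incl_single, ← hl]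
        show op l₁.length (l₁ ++ b :: a :: l₂) = _
        rw [op_append, he])
      have heb' : entry t' ⟨k, by omega⟩ = b := by simp [entry, t', hl]
      simp only [hT, map_add, map_smul, ih t, ih t', hea, heb', hT', smul_add, smul_smul]
      have h1 := offDiag_mul a b
      ext x
      simp only [Finsupp.add_apply, Finsupp.smul_apply, smul_eq_mul, content, axial_swap a b]
      linear_combination ((b : ℂ) + 1 - m) * (single t 1 : Tab m n S →₀ ℂ) x * h1
        - (axial a b * (single t 1 : Tab m n S →₀ ℂ) x
            + offDiag a b * (single t' 1 : Tab m n S →₀ ℂ) x) * hx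

theorem jm_single' (k : Fin n) (t : Tab m n S) :
    jm m n S k (single t 1) = content m (entry t k) • single t 1 := jm_single k.1 k.2 t

end CfsgLib.SymBlock
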